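import Groth.Prelude.Def_Adeq
import Mathlib.Algebra.Category.Ring.FilteredColimits
import Mathlib.Algebra.Category.Ring.Colimits
import Mathlib.CategoryTheory.Limits.Types.Filtered
import Mathlib.CategoryTheory.Limits.ConcreteCategory.Basic

/-!
Filtered colimits of commutative algebras are computed on elements.
-/

set_option autoImplicit false
set_option linter.style.haveILetI false
universe u

noncomputable section

namespace Groth.Agent.AdeqLib

open CategoryTheory Limits
open Adeq (Alg)

variable {A : Type u} [CommRing A] {J : Type u} [SmallCategory J] [IsFiltered J] {D : J ⥤ Alg A}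
  {c : Cocone D}

/-- Elements of a filtered colimit of algebras. -/
theorem algColim_spec (hc : IsColimit c) :
    (∀ z : c.pt, ∃ (j : J) (x : D.obj j), (c.ι.app j).hom x = z) ∧
      ∀ (j : J) (x y : D.obj j), (c.ι.app j).hom x = (c.ι.app j).hom y →
        ∃ (k : J) (f : j ⟶ k), (D.map f).hom x = (D.map f).hom y := by
  let D₀ : J ⥤ CommRingCat.{u} := D ⋙ forget₂ (Alg A) CommRingCat.{u}
  let C₀ := colimit D₀
  let j₀ : J := (IsFiltered.nonempty (C := J)).some
  let alg : A →+* C₀ := (colimit.ι D₀ j₀).hom.comp (algebraMap A (D.obj j₀))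
  letI : Algebra A C₀ := alg.toAlgebra
  have halg : ∀ (j : J) (a : A), (colimit.ι D₀ j).hom (algebraMap A (D.obj j) a) = algebraMap A C₀ a := by
    intro j a
    change _ = (colimit.ι D₀ j₀).hom (algebraMap A (D.obj j₀) a)
    have w : ∀ {i k : J} (f : i ⟶ k),
        (colimit.ι D₀ i).hom (algebraMap A (D.obj i) a) = (colimit.ι D₀ k).hom (algebraMap A (D.obj k) a) := by
      intro i k f
      rw [← colimit.w D₀ f]
      exact congrArg (colimit.ι D₀ k).hom ((D.map f).hom.commutes a)
    rw [w (IsFiltered.leftToMax j j₀), w (IsFiltered.rightToMax j j₀)]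
  let c₀ : Cocone D :=
    { pt := CommAlgCat.of A C₀
      ι :=
        { app := fun j => CommAlgCat.ofHom ({ (colimit.ι D₀ j).hom with commutes' := halg j } : D.obj j →ₐ[A] C₀)
          naturality := fun i k f => by
            apply CommAlgCat.hom_ext
            ext x
            exact congrArg (fun m => m.hom x) (colimit.w D₀ f) } }
  have hι : ∀ (j : J) (x : D.obj j), (hc.desc c₀).hom ((c.ι.app j).hom x) = (colimit.ι D₀ j).hom x :=
    fun j x => congrArg (fun m => m.hom x) (hc.fac c₀ j)
  constructor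
  · let ψ : C₀ ⟶ (forget₂ (Alg A) CommRingCat.{u}).obj c.pt :=
      colimit.desc D₀ ((forget₂ (Alg A) CommRingCat.{u}).mapCocone c)
    have hψ : ∀ (j : J) (x : D.obj j), ψ.hom ((colimit.ι D₀ j).hom x) = (c.ι.app j).hom x := fun j x =>
      congrArg (fun m => m.hom x) (colimit.ι_desc ((forget₂ (Alg A) CommRingCat.{u}).mapCocone c) j)
    let ψA : CommAlgCat.of A C₀ ⟶ c.pt := CommAlgCat.ofHom
      ({ ψ.hom with
          commutes' := fun a =>
            (congrArg ψ.hom (halg j₀ a).symm).trans ((hψ j₀ _).trans ((c.ι.app j₀).hom.commutes a)) } :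
        C₀ →ₐ[A] c.pt)
    have hid : hc.desc c₀ ≫ ψA = 𝟙 c.pt := hc.hom_ext fun j => by
      apply CommAlgCat.hom_ext
      ext x
      exact (congrArg ψ.hom (hι j x)).trans (hψ j x)
    intro z
    obtain ⟨j, x, hx⟩ := Concrete.colimit_exists_rep D₀ ((hc.desc c₀).hom z)
    refine ⟨j, x, ?_⟩
    refine Eq.trans ?_ (congrArg (fun m => m.hom z) hid)
    exact (hψ j x).symm.trans (congrArg ψ.hom hx)
  · intro j x y h
    have h' : (colimit.ι D₀ j).hom x = (colimit.ι D₀ j).hom y := by rw [← hι, ← hι, h]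
    obtain ⟨k, f, g, hfg⟩ := Concrete.colimit_exists_of_rep_eq (F := D₀) x y h'
    refine ⟨IsFiltered.coeq f g, f ≫ IsFiltered.coeqHom f g, ?_⟩
    have e1 : (D.map (f ≫ IsFiltered.coeqHom f g)).hom y = (D.map (g ≫ IsFiltered.coeqHom f g)).hom y := by
      rw [IsFiltered.coeq_condition f g]
    rw [e1, D.map_comp, D.map_comp]
    exact congrArg (D.map (IsFiltered.coeqHom f g)).hom hfg

end Groth.Agent.AdeqLib
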