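import Groth.Agent.AdeqLib.Props
import Mathlib.RingTheory.Flat.FaithfullyFlat.Algebra

/-!
Faithfully flat descent in degree zero for adequate functors.
-/

set_option autoImplicit false
set_option linter.style.haveILetI false
set_option backward.isDefEq.respectTransparency false
universe u v

noncomputable section

namespace Groth.Agent.AdeqLib

open CategoryTheory TensorProduct
open Adeq (MVF Alg pt ptHom underline adequate algOf)

/-- The equalizer of the two maps `B ⊗ M ⇉ B ⊗ B ⊗ M` is `M`. -/
theorem mem_range_of_amitsur (R B : Type u) [CommRing R] [CommRing B] [Algebra R B]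
    [Module.FaithfullyFlat R B] (M : Type v) [AddCommGroup M] [Module R M] (x : B ⊗[R] M)
    (hx : TensorProduct.mk R B (B ⊗[R] M) 1 x = LinearMap.lTensor B (TensorProduct.mk R B M 1) x) :
    x ∈ LinearMap.range (TensorProduct.mk R B M 1) := by
  let ι : M →ₗ[R] B ⊗[R] M := TensorProduct.mk R B M 1
  let d : B ⊗[R] M →ₗ[R] B ⊗[R] (B ⊗[R] M) :=
    TensorProduct.mk R B (B ⊗[R] M) 1 - LinearMap.lTensor B ι
  let μ : B ⊗[R] (B ⊗[R] M) →ₗ[R] B ⊗[R] M :=
    (LinearMap.rTensor M (LinearMap.mul' R B)) ∘ₗ (TensorProduct.assoc R B B M).symm.toLinearMap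
  let μ' : B ⊗[R] (B ⊗[R] (B ⊗[R] M)) →ₗ[R] B ⊗[R] (B ⊗[R] M) :=
    (LinearMap.rTensor (B ⊗[R] M) (LinearMap.mul' R B)) ∘ₗ (TensorProduct.assoc R B B (B ⊗[R] M)).symm.toLinearMap
  have hex : Function.Exact (ι.lTensor B) (d.lTensor B) := by
    intro z
    constructor
    · intro hz
      refine ⟨μ z, ?_⟩
      have key : μ' ∘ₗ d.lTensor B = LinearMap.id - ι.lTensor B ∘ₗ μ := by
        ext b a m
        simp [μ, μ', d, ι, TensorProduct.tmul_sub]
      have := LinearMap.congr_fun key z
      simp only [LinearMap.comp_apply, hz, map_zero, LinearMap.sub_apply, LinearMap.id_apply] at this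
      exact (sub_eq_zero.mp this.symm).symm
    · rintro ⟨w, rfl⟩
      have : d ∘ₗ ι = 0 := by
        ext m
        simp [d, ι]
      rw [← LinearMap.comp_apply, ← LinearMap.lTensor_comp, this, LinearMap.lTensor_zero,
        LinearMap.zero_apply]
  exact ((Module.FaithfullyFlat.lTensor_reflects_exact R B ι d hex) x).mp
    (by simp only [d, LinearMap.sub_apply, sub_eq_zero]; exact hx)

/-- Faithfully flat descent in degree zero for an adequate functor. -/
theorem adequate_descent₀ {R : Type u} [CommRing R] {F : MVF R} (hF : adequate R F) (B : Type u) [CommRing B]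
    [Algebra R B] [Module.FaithfullyFlat R B] :
    Function.Injective (mp F (CommAlgCat.ofHom (Algebra.ofId R B) : algOf R R ⟶ algOf R B)) ∧
      ∀ y : F.obj (pt (algOf R B)),
        mp F (CommAlgCat.ofHom (Algebra.TensorProduct.includeLeft : B →ₐ[R] B ⊗[R] B) :
            algOf R B ⟶ algOf R (B ⊗[R] B)) y =
          mp F (CommAlgCat.ofHom (Algebra.TensorProduct.includeRight : B →ₐ[R] B ⊗[R] B) :
            algOf R B ⟶ algOf R (B ⊗[R] B)) y →
        y ∈ Set.range (mp F (CommAlgCat.ofHom (Algebra.ofId R B) : algOf R R ⟶ algOf R B)) := by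
  obtain ⟨M, N, n, ι, hinj, hran⟩ := exists_emb hF
  let fR : algOf R R ⟶ algOf R B := CommAlgCat.ofHom (Algebra.ofId R B)
  have hmk : ∀ {P : ModuleCat.{u + 1} R} (z : R ⊗[R] P),
      fR.hom.toLinearMap.rTensor P z = (1 : B) ⊗ₜ[R] TensorProduct.lid R P z := by
    intro P z
    induction z using TensorProduct.induction_on with
    | zero => simp
    | add x y hx hy => simp only [map_add, hx, hy, TensorProduct.tmul_add]
    | tmul r p => simp [fR, TensorProduct.smul_tmul', Algebra.algebraMap_eq_smul_one]
  have hinjP : ∀ {P : ModuleCat.{u + 1} R}, Function.Injective (fR.hom.toLinearMap.rTensor P) := fun {P} x y h =>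
    (TensorProduct.lid R P).injective (Module.FaithfullyFlat.tensorProduct_mk_injective (A := R) (B := B) P
      (by rw [hmk, hmk] at h; exact h))
  refine ⟨fun x y h => hinj _ (hinjP ?_), fun y hy => ?_⟩
  · rw [← toU_mp, ← toU_mp, h]
  · let w := toU ι (algOf R B) y
    have hw : TensorProduct.mk R B (B ⊗[R] M) 1 w = LinearMap.lTensor B (TensorProduct.mk R B M 1) w := by
      have e' : (Algebra.TensorProduct.includeLeft : B →ₐ[R] B ⊗[R] B).toLinearMap.rTensor M w =
          (Algebra.TensorProduct.includeRight : B →ₐ[R] B ⊗[R] B).toLinearMap.rTensor M w := by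
        have h := congrArg (fun v => toU ι (algOf R (B ⊗[R] B)) v) hy
        simp only at h
        rwa [toU_mp, toU_mp] at h
      have e := congrArg (TensorProduct.assoc R B B M) e'
      have eL : ∀ v : B ⊗[R] M, TensorProduct.assoc R B B M
          ((Algebra.TensorProduct.includeLeft : B →ₐ[R] B ⊗[R] B).toLinearMap.rTensor M v) =
            LinearMap.lTensor B (TensorProduct.mk R B M 1) v := by
        intro v
        induction v using TensorProduct.induction_on with
        | zero => simp
        | add x y hx hy => simp only [map_add, hx, hy]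
        | tmul b m => simp
      have eR : ∀ v : B ⊗[R] M, TensorProduct.assoc R B B M
          ((Algebra.TensorProduct.includeRight : B →ₐ[R] B ⊗[R] B).toLinearMap.rTensor M v) =
            TensorProduct.mk R B (B ⊗[R] M) 1 v := by
        intro v
        induction v using TensorProduct.induction_on with
        | zero => simp
        | add x y hx hy => simp only [map_add, hx, hy]
        | tmul b m => simp
      exact (eR w).symm.trans (e.symm.trans (eL w))
    obtain ⟨m, hm⟩ := mem_range_of_amitsur R B M w hw
    have hm' : fR.hom.toLinearMap.rTensor M ((1 : R) ⊗ₜ[R] m) = w := by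
      rw [hmk, TensorProduct.lid_tmul, one_smul]; exact hm
    obtain ⟨x, hx⟩ := (hran (algOf R R) ((1 : R) ⊗ₜ[R] m)).mpr (hinjP (by
      rw [map_zero, rTensor_baseChange, hm']
      exact (hran _ _).mp ⟨y, rfl⟩))
    exact ⟨x, hinj _ (by rw [toU_mp, hx]; exact hm')⟩

end Groth.Agent.AdeqLib
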