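import Groth.Agent.AdeqLib.Amitsur

/-!
Vanishing of the first Amitsur cohomology of adequate functors.
-/

set_option autoImplicit false
set_option linter.style.haveILetI false
set_option backward.isDefEq.respectTransparency false
universe u v

noncomputable section

namespace Groth.Agent.AdeqLib

open CategoryTheory TensorProduct
open Adeq (MVF Alg pt ptHom underline adequate algOf)

section Module

variable {R C : Type u} [CommRing R] [CommRing C] [Algebra R C]
  {X : Type v} [AddCommGroup X] [Module R X]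

/-- The next Amitsur differential. -/
def amNext (d : X →ₗ[R] C ⊗[R] X) : C ⊗[R] X →ₗ[R] C ⊗[R] (C ⊗[R] X) :=
  TensorProduct.mk R C (C ⊗[R] X) 1 - d.lTensor C

lemma amNext_comp {d : X →ₗ[R] C ⊗[R] X} {X₀ : Type v} [AddCommGroup X₀] [Module R X₀] (e : X₀ →ₗ[R] X)
    (h : d ∘ₗ e = 0) (hd : ∀ x, d x - (1 : C) ⊗ₜ[R] x ∈ LinearMap.range (e.lTensor C)) :
    amNext d ∘ₗ d = 0 := by
  ext x
  obtain ⟨w, hw⟩ := hd x
  have h0 : d.lTensor C (d x - (1 : C) ⊗ₜ[R] x) = 0 := by
    rw [← hw, ← LinearMap.comp_apply, ← LinearMap.lTensor_comp, h, LinearMap.lTensor_zero, LinearMap.zero_apply]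
  rw [map_sub, LinearMap.lTensor_tmul, sub_eq_zero] at h0
  simp [amNext, h0]

/-- Exactness of the Amitsur differentials over a faithfully flat algebra. -/
theorem amNext_exact [Module.FaithfullyFlat R C] (d : X →ₗ[R] C ⊗[R] X) (h : amNext d ∘ₗ d = 0) :
    Function.Exact d (amNext d) := by
  refine Module.FaithfullyFlat.lTensor_reflects_exact R C d (amNext d) fun z => ⟨fun hz => ?_, ?_⟩
  · let μ : C ⊗[R] (C ⊗[R] X) →ₗ[R] C ⊗[R] X :=
      (LinearMap.rTensor X (LinearMap.mul' R C)) ∘ₗ (TensorProduct.assoc R C C X).symm.toLinearMap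
    let μ' : C ⊗[R] (C ⊗[R] (C ⊗[R] X)) →ₗ[R] C ⊗[R] (C ⊗[R] X) :=
      (LinearMap.rTensor (C ⊗[R] X) (LinearMap.mul' R C)) ∘ₗ
        (TensorProduct.assoc R C C (C ⊗[R] X)).symm.toLinearMap
    refine ⟨μ z, ?_⟩
    have nat : ∀ (b : C) (q : C ⊗[R] (C ⊗[R] X)), μ' (b ⊗ₜ[R] q) = b • q := by
      intro b q
      induction q using TensorProduct.induction_on with
      | zero => simp [μ']
      | tmul a y => simp [μ', TensorProduct.smul_tmul']
      | add y y' hy hy' => rw [TensorProduct.tmul_add, map_add, hy, hy', smul_add]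
    have key : μ' ∘ₗ (amNext d).lTensor C = LinearMap.id - d.lTensor C ∘ₗ μ := by
      ext b a x
      simp [μ, amNext, nat, smul_sub, TensorProduct.smul_tmul', TensorProduct.tmul_sub]
    have := LinearMap.congr_fun key z
    simp only [LinearMap.comp_apply, hz, map_zero, LinearMap.sub_apply, LinearMap.id_apply] at this
    exact (sub_eq_zero.mp this.symm).symm
  · rintro ⟨w, rfl⟩
    rw [← LinearMap.comp_apply, ← LinearMap.lTensor_comp, h, LinearMap.lTensor_zero, LinearMap.zero_apply]

end Module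

section Adequate

variable {R : Type u} [CommRing R] (C : Type u) [CommRing C] [Algebra R C]

/-- `C ⊗ C` as an algebra. -/
abbrev alg2 : Alg R := algOf R (C ⊗[R] C)

/-- `C ⊗ C ⊗ C` as an algebra. -/
abbrev alg3 : Alg R := algOf R (C ⊗[R] (C ⊗[R] C))

/-- `c ↦ c ⊗ 1`. -/
def inL : algOf R C ⟶ alg2 C :=
  CommAlgCat.ofHom (Algebra.TensorProduct.includeLeft : C →ₐ[R] C ⊗[R] C)

/-- `c ↦ 1 ⊗ c`. -/
def inR : algOf R C ⟶ alg2 C :=
  CommAlgCat.ofHom (Algebra.TensorProduct.includeRight : C →ₐ[R] C ⊗[R] C)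

/-- The face missing the first factor. -/
def face0 : alg2 (R := R) C ⟶ alg3 C :=
  CommAlgCat.ofHom (Algebra.TensorProduct.includeRight : C ⊗[R] C →ₐ[R] C ⊗[R] (C ⊗[R] C))

/-- The face missing the middle factor. -/
def face1 : alg2 (R := R) C ⟶ alg3 C :=
  CommAlgCat.ofHom (Algebra.TensorProduct.map (AlgHom.id R C) (Algebra.TensorProduct.includeRight : C →ₐ[R] C ⊗[R] C))

/-- The face missing the last factor. -/
def face2 : alg2 (R := R) C ⟶ alg3 C :=
  CommAlgCat.ofHom (Algebra.TensorProduct.map (AlgHom.id R C) (Algebra.TensorProduct.includeLeft : C →ₐ[R] C ⊗[R] C))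

variable {M : ModuleCat.{u + 1} R}

lemma assoc_inLR (v : C ⊗[R] M) :
    TensorProduct.assoc R C C M ((inR (R := R) C).hom.toLinearMap.rTensor M v - (inL (R := R) C).hom.toLinearMap.rTensor M v) =
      amNext (TensorProduct.mk R C M 1) v := by
  induction v using TensorProduct.induction_on with
  | zero => simp
  | add x y hx hy => simp only [map_add, map_sub] at hx hy ⊢; rw [← hx, ← hy]; abel
  | tmul c m => simp [amNext, inL, inR]

lemma assoc_faces (v : (C ⊗[R] C) ⊗[R] M) :
    (TensorProduct.assoc R C C M).lTensor C (TensorProduct.assoc R C (C ⊗[R] C) M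
      ((face0 (R := R) C).hom.toLinearMap.rTensor M v - (face1 (R := R) C).hom.toLinearMap.rTensor M v
        + (face2 (R := R) C).hom.toLinearMap.rTensor M v)) =
      amNext (amNext (TensorProduct.mk R C M 1)) (TensorProduct.assoc R C C M v) := by
  induction v using TensorProduct.induction_on with
  | zero => simp
  | add x y hx hy => simp only [map_add, map_sub] at hx hy ⊢; rw [← hx, ← hy]; abel
  | tmul q m =>
    induction q using TensorProduct.induction_on with
    | zero => simp
    | add x y hx hy =>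
      simp only [TensorProduct.add_tmul, map_add, map_sub] at hx hy ⊢; rw [← hx, ← hy]; abel
    | tmul a b => simp [amNext, face0, face1, face2, TensorProduct.tmul_sub]; abel

/-- Amitsur cocycles in degree one of an adequate functor are coboundaries. -/
theorem adequate_cocycle [Module.FaithfullyFlat R C] {F : MVF R} (hF : adequate R F)
    (z : F.obj (pt (alg2 (R := R) C))) (hz : mp F (face0 (R := R) C) z - mp F (face1 (R := R) C) z + mp F (face2 (R := R) C) z = 0) :
    ∃ y, mp F (inR (R := R) C) y - mp F (inL (R := R) C) y = z := by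
  obtain ⟨M, N, n, ι, hinj, hran⟩ := exists_emb hF
  let fR : algOf R R ⟶ algOf R C := CommAlgCat.ofHom (Algebra.ofId R C)
  let ι₀ : M →ₗ[R] C ⊗[R] M := TensorProduct.mk R C M 1
  have hc1 : amNext ι₀ ∘ₗ ι₀ = 0 := by
    ext m
    simp [amNext, ι₀]
  have hc2 : amNext (amNext ι₀) ∘ₗ amNext ι₀ = 0 := amNext_comp ι₀ hc1 fun x => by
    refine ⟨-x, ?_⟩
    simp [amNext]
  have hex := amNext_exact (amNext ι₀) hc2 (TensorProduct.assoc R C C M (toU ι (alg2 (R := R) C) z))
  have e := congrArg (toU ι (alg3 (R := R) C)) hz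
  rw [map_add, map_sub, toU_mp, toU_mp, toU_mp, map_zero] at e
  obtain ⟨w, hw⟩ := hex.mp ((assoc_faces C _).symm.trans
    ((congrArg (fun q => (TensorProduct.assoc R C C M).lTensor C (TensorProduct.assoc R C (C ⊗[R] C) M q)) e).trans
      ((congrArg _ (map_zero _)).trans (map_zero _))))
  have hw' : (inR (R := R) C).hom.toLinearMap.rTensor M w - (inL (R := R) C).hom.toLinearMap.rTensor M w = toU ι (alg2 (R := R) C) z :=
    (TensorProduct.assoc R C C M).injective ((assoc_inLR C w).trans hw)
  have hn : amNext (TensorProduct.mk R C N 1) (n.hom.baseChange (algOf R C) w) = 0 := by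
    rw [← assoc_inLR, rTensor_baseChange, rTensor_baseChange, ← map_sub, hw',
      (hran (alg2 (R := R) C) _).mp ⟨z, rfl⟩, map_zero]
  have hc1' : amNext (TensorProduct.mk R C N 1) ∘ₗ TensorProduct.mk R C N 1 = 0 := by
    ext m
    simp [amNext]
  obtain ⟨q, hq⟩ := (amNext_exact (TensorProduct.mk R C N 1) hc1' _).mp hn
  -- `q` lies in the image of `n`, because the next functor in a resolution by modules is exact
  let n' : N ⟶ ModuleCat.of R (N ⧸ LinearMap.range n.hom) := ModuleCat.ofHom (LinearMap.range n.hom).mkQ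
  have hnn : n'.hom ∘ₗ n.hom = 0 := LinearMap.ext fun x => (Submodule.Quotient.mk_eq_zero _).mpr ⟨x, rfl⟩
  have hq' : n'.hom q = 0 := by
    refine Module.FaithfullyFlat.tensorProduct_mk_injective (A := R) (B := C) (N ⧸ LinearMap.range n.hom) ?_
    rw [map_zero]
    have := congrArg (n'.hom.baseChange (algOf R C)) hq
    rw [TensorProduct.mk_apply, LinearMap.baseChange_tmul, ← LinearMap.comp_apply,
      ← LinearMap.baseChange_comp, hnn, LinearMap.baseChange_zero, LinearMap.zero_apply] at this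
    exact this
  obtain ⟨m, rfl⟩ : ∃ m, n.hom m = q := (Submodule.Quotient.mk_eq_zero _).mp hq'
  obtain ⟨y, hy⟩ := (hran (algOf R C) (w - (1 : C) ⊗ₜ[R] m)).mpr (by
    rw [map_sub, LinearMap.baseChange_tmul, sub_eq_zero]
    exact hq.symm)
  refine ⟨y, hinj _ ?_⟩
  rw [map_sub, toU_mp, toU_mp, hy, map_sub, map_sub, ← hw']
  simp [inL, inR, Algebra.TensorProduct.one_def]

end Adequate

end Groth.Agent.AdeqLib
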