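import Groth.Agent.AdeqLib.SiteInst

/-!
Adequate modules on the big fppf site: locality, pullback, kernels, flat descent in the first two degrees.
-/

set_option autoImplicit false
set_option linter.style.haveILetI false
set_option backward.isDefEq.respectTransparency false
universe u

noncomputable section

namespace Groth.Agent.AdeqLib

open CategoryTheory Limits Opposite AlgebraicGeometry TensorProduct
open Adeq (MVF Alg pt ptHom adequate adequateMod toMVF specOver toSect)

/-- The fppf precoverage. -/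
local notation "Kf" => Scheme.fppfPrecoverage

lemma fppf_ofArrows_iff {S : Scheme.{u}} {ι : Type*} {X : ι → Scheme.{u}} {f : ∀ i, X i ⟶ S} :
    Presieve.ofArrows X f ∈ Kf S ↔ (∀ x, ∃ i, x ∈ Set.range (f i)) ∧ ∀ i, fppfP (f i) :=
  Scheme.ofArrows_mem_precoverage_iff _

/-- A module all of whose functors of sections on affine objects are adequate is adequate. -/
theorem adequateMod_of_affines {S : Scheme.{u}} (M : BigSite.Mod Kf S)
    (h : ∀ (R : CommRingCat.{u}) (a : Spec R ⟶ S), adequate R ((toMVF Kf a).obj M)) :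
    adequateMod Kf S M := by
  refine ⟨{U : S.Opens // IsAffineOpen U}, fun U => Γ(S, U.1), fun U => U.2.fromSpec,
    fppf_ofArrows_iff.mpr ⟨fun x => ?_, fun U => fppfP_imm _⟩, fun U => h _ _⟩
  obtain ⟨V, hV, hxV, -⟩ := TopologicalSpace.Opens.isBasis_iff_nbhd.mp
    S.isBasis_affineOpens (U := ⊤) (x := x) trivial
  exact ⟨⟨V, hV⟩, by rw [IsAffineOpen.range_fromSpec]; exact hxV⟩

section Pull

variable {S T : Scheme.{u}} (f : T ⟶ S) (M : BigSite.Mod Kf S) {R : CommRingCat.{u}}
  (a : Spec R ⟶ T)

/-- An affine object over `T` seen over `S`. -/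
def pullObjIso (B : Alg R) :
    (Over.map f).obj ((specOver a).obj (op B)) ≅ (specOver (a ≫ f)).obj (op B) :=
  Over.isoMk (Iso.refl _) ((Category.id_comp _).trans (Category.assoc _ _ _).symm)

/-- The comparison on values. -/
def pullApp (B : Alg R) : ((toMVF Kf (a ≫ f)).obj M).obj (pt B) →ₗ[(B : Type u)]
    ((toMVF Kf a).obj ((BigSite.pullMod Kf f).obj M)).obj (pt B) where
  toFun x := M.val.presheaf.map (pullObjIso f a B).hom.op x
  map_add' := map_add (M.val.presheaf.map (pullObjIso f a B).hom.op).hom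
  map_smul' r x := (M.val.map_smul (pullObjIso f a B).hom.op (toSect Kf (a ≫ f) B r) x)

/-- The comparison map. -/
def pullHom : (toMVF Kf (a ≫ f)).obj M ⟶ (toMVF Kf a).obj ((BigSite.pullMod Kf f).obj M) :=
  mkHom (pullApp f M a) fun {B B'} g x => by
    change M.val.presheaf.map (pullObjIso f a B').hom.op (M.val.presheaf.map ((specOver (a ≫ f)).map g.op).op x) =
      M.val.presheaf.map ((Over.map f).map ((specOver a).map g.op)).op
        (M.val.presheaf.map (pullObjIso f a B).hom.op x)
    rw [← ConcreteCategory.comp_apply, ← ConcreteCategory.comp_apply, ← Functor.map_comp, ← Functor.map_comp,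
      ← op_comp, ← op_comp]
    congr 3

lemma isIso_pullHom : IsIso (pullHom f M a) :=
  isIso_of_bijective _ fun B =>
    ConcreteCategory.bijective_of_isIso (M.val.presheaf.map (pullObjIso f a B).hom.op)

/-- Functor of sections of a pullback. -/
def pullIso : (toMVF Kf (a ≫ f)).obj M ≅ (toMVF Kf a).obj ((BigSite.pullMod Kf f).obj M) :=
  haveI := isIso_pullHom f M a
  asIso (pullHom f M a)

end Pull

theorem adequateMod_pullMod {S T : Scheme.{u}} (f : T ⟶ S) (M : BigSite.Mod Kf S)
    (hM : adequateMod Kf S M) : adequateMod Kf T ((BigSite.pullMod Kf f).obj M) :=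
  adequateMod_of_affines _ fun _ a => adequate_of_iso (pullIso f M a) (adequate_toMVF_fppf M hM (a ≫ f))

theorem adequateMod_of_cover {S : Scheme.{u}} (M : BigSite.Mod Kf S) {ι : Type u}
    (T : ι → Scheme.{u}) (f : ∀ i, T i ⟶ S) (hcov : Presieve.ofArrows T f ∈ Kf S)
    (h : ∀ i, adequateMod Kf (T i) ((BigSite.pullMod Kf (f i)).obj M)) : adequateMod Kf S M := by
  choose κ R a hc hadq using h
  rw [fppf_ofArrows_iff] at hcov
  refine ⟨Σ i, κ i, fun p => R p.1 p.2, fun p => a p.1 p.2 ≫ f p.1,
    fppf_ofArrows_iff.mpr ⟨fun x => ?_, fun p => ?_⟩, fun p => adequate_of_iso (pullIso (f p.1) M _).symm (hadq p.1 p.2)⟩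
  · obtain ⟨i, y, rfl⟩ := hcov.1 x
    obtain ⟨k, z, rfl⟩ := (fppf_ofArrows_iff.mp (hc i)).1 y
    exact ⟨⟨i, k⟩, z, Scheme.Hom.comp_apply _ _ _⟩
  · exact MorphismProperty.comp_mem _ _ _ ((fppf_ofArrows_iff.mp (hc p.1)).2 p.2) (hcov.2 p.1)

/-! ### Kernels -/

section Kernel

variable {S : Scheme.{u}} {M N : BigSite.Mod Kf S} (φ : M ⟶ N)

/-- The component of a morphism of modules at an object of the big site. -/
abbrev secMap {M N : BigSite.Mod Kf S} (φ : M ⟶ N) (U : Over S) :
    BigSite.sectMod Kf M U → BigSite.sectMod Kf N U := fun x => φ.val.app (op U) x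

lemma kernel_sections (U : Over S) :
    Function.Injective (secMap (kernel.ι φ) U) ∧
      ∀ x, secMap φ U x = 0 → ∃ y, secMap (kernel.ι φ) U y = x := by
  let G := SheafOfModules.evaluation.{u + 1} (BigSite.ORing Kf S) (op U)
  haveI : G.PreservesZeroMorphisms := ⟨fun _ _ => rfl⟩
  let hl := isLimitOfHasKernelOfPreservesLimit G φ
  let e := hl.conePointUniqueUpToIso (ModuleCat.kernelIsLimit (G.map φ))
  have he : ∀ z, (G.map (kernel.ι φ)).hom (e.inv.hom z) = z.1 := fun z =>
    ConcreteCategory.congr_hom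
      (hl.conePointUniqueUpToIso_inv_comp (ModuleCat.kernelIsLimit (G.map φ)) WalkingParallelPair.zero) z
  refine ⟨fun x y h => ?_, fun x hx => ⟨e.inv.hom ⟨x, hx⟩, he ⟨x, hx⟩⟩⟩
  haveI : Mono (G.map (kernel.ι φ)) := inferInstance
  exact (ModuleCat.mono_iff_injective (G.map (kernel.ι φ))).mp inferInstance h

/-- The comparison with the kernel of the functors of sections. -/
theorem isIso_kernelLift {R : CommRingCat.{u}} (a : Spec R ⟶ S) :
    IsIso (kernel.lift ((toMVF Kf a).map φ) ((toMVF Kf a).map (kernel.ι φ))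
      (by rw [← Functor.map_comp, kernel.condition, Functor.map_zero])) :=
  isIso_of_bijective _ fun B => by
    obtain ⟨hi, hs⟩ := kernel_sections φ ((specOver a).obj (op B))
    constructor
    · intro x y h
      have e := congrArg (appL (kernel.ι ((toMVF Kf a).map φ)) B) h
      rw [← appL_comp, ← appL_comp, kernel.lift_ι] at e
      exact hi e
    · intro z
      obtain ⟨y, hy⟩ := hs (appL (kernel.ι ((toMVF Kf a).map φ)) B z) (appL_kernel ((toMVF Kf a).map φ) B z)
      refine ⟨y, injective_of_mono (kernel.ι ((toMVF Kf a).map φ)) B ?_⟩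
      rw [← appL_comp, kernel.lift_ι]
      exact hy

theorem adequateMod_kernel (hM : adequateMod Kf S M) (hN : adequateMod Kf S N) :
    adequateMod Kf S (kernel φ) :=
  adequateMod_of_affines _ fun _ a =>
    haveI := isIso_kernelLift φ a
    adequate_of_iso (asIso (kernel.lift ((toMVF Kf a).map φ) ((toMVF Kf a).map (kernel.ι φ)) _)).symm
      (adequate_kernel _ (adequate_toMVF_fppf M hM a) (adequate_toMVF_fppf N hN a))

end Kernel

end Groth.Agent.AdeqLib
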