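import Groth.Agent.AdeqLib.TPow
import Groth.Agent.AdeqLib.ModBasic
import Groth.Agent.CechGen.Basic
import Mathlib.AlgebraicGeometry.Limits

/-!
The Čech complex of an adequate module for a faithfully flat map of affine schemes is exact in positive degrees.
-/

set_option autoImplicit false
set_option linter.style.haveILetI false
set_option backward.isDefEq.respectTransparency false
universe u

noncomputable section

namespace Groth.Agent.AdeqLib

open CategoryTheory Limits Opposite AlgebraicGeometry TensorProduct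
open Adeq (MVF Alg pt ptHom algOf adequate adequateMod toMVF specOver)

variable {R : CommRingCat.{u}} (B : Type u) [CommRing B] [Algebra R B]

/-- An affine scheme over `Spec R`. -/
abbrev specR (D : Alg R) : Over (Spec R) := Over.mk (Spec.map (CommRingCat.ofHom (algebraMap R D)))

/-- A map of algebras as a map of affine schemes. -/
def specRMap {D D' : Alg R} (f : D ⟶ D') : specR D' ⟶ specR D :=
  Over.homMk (Spec.map (CommRingCat.ofHom f.hom.toRingHom)) (by
    change Spec.map (CommRingCat.ofHom f.hom.toRingHom) ≫ Spec.map (CommRingCat.ofHom (algebraMap R D)) =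
      Spec.map (CommRingCat.ofHom (algebraMap R D'))
    rw [← Spec.map_comp, ← CommRingCat.ofHom_comp, AlgHom.toRingHom_eq_coe, AlgHom.comp_algebraMap])

lemma specRMap_comp {D D' D'' : Alg R} (f : D ⟶ D') (g : D' ⟶ D'') :
    specRMap (f ≫ g) = specRMap g ≫ specRMap f := by
  ext : 1
  change Spec.map (CommRingCat.ofHom (g.hom.comp f.hom).toRingHom) = Spec.map _ ≫ Spec.map _
  rw [← Spec.map_comp, ← CommRingCat.ofHom_comp]
  rfl

/-- The structure map of the global sections of a scheme over `Spec R`. -/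
def gammaAlg (W : Over (Spec R)) : Alg R :=
  letI : Algebra R Γ(W.left, ⊤) := ((Scheme.ΓSpecIso R).inv ≫ W.hom.appTop).hom.toAlgebra
  algOf R Γ(W.left, ⊤)

lemma toSpecΓ_inj {W : Scheme.{u}} {T : CommRingCat.{u}} {f g : T ⟶ Γ(W, ⊤)}
    (e : W.toSpecΓ ≫ Spec.map f = W.toSpecΓ ≫ Spec.map g) : f = g :=
  Quiver.Hom.op_inj ((ΓSpec.adjunction.homEquiv W (op T)).injective (a₁ := f.op) (a₂ := g.op)
    (by rw [Adjunction.homEquiv_unit, Adjunction.homEquiv_unit]; exact e))

lemma exists_algHom {W : Over (Spec R)} {D : Alg R} (g : W ⟶ specR D) :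
    ∃ φ : D ⟶ gammaAlg W,
      g.left = W.left.toSpecΓ ≫ Spec.map (CommRingCat.ofHom φ.hom.toRingHom) := by
  have hφ : CommRingCat.ofHom (algebraMap R D) ≫ (Scheme.ΓSpecIso (CommRingCat.of (D : Type u))).inv ≫
      g.left.appTop = (Scheme.ΓSpecIso R).inv ≫ W.hom.appTop := by
    rw [← Over.w g]
    change _ = _ ≫ (g.left ≫ Spec.map (CommRingCat.ofHom (algebraMap R D))).appTop
    rw [Scheme.Hom.comp_appTop, ← Category.assoc (Scheme.ΓSpecIso R).inv, ← Scheme.ΓSpecIso_inv_naturality,
      Category.assoc]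
  letI : Algebra R Γ(W.left, ⊤) := ((Scheme.ΓSpecIso R).inv ≫ W.hom.appTop).hom.toAlgebra
  refine ⟨CommAlgCat.ofHom
    ({ ((Scheme.ΓSpecIso (CommRingCat.of (D : Type u))).inv ≫ g.left.appTop).hom with
      commutes' := fun r => ConcreteCategory.congr_hom hφ r } : (D : Type u) →ₐ[R] Γ(W.left, ⊤)), ?_⟩
  exact hom_eq_toSpecΓ g.left

lemma specR_fan_hom_ext {m : ℕ} {W : Over (Spec R)} {f g : W ⟶ specR (tpow B m)}
    (h : ∀ i, f ≫ specRMap (tproj B m i) = g ≫ specRMap (tproj B m i)) : f = g := by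
  obtain ⟨φ, hφ⟩ := exists_algHom f
  obtain ⟨ψ, hψ⟩ := exists_algHom g
  suffices φ = ψ by ext : 1; rw [hφ, hψ, this]
  refine tpow_hom_ext B fun i => CommAlgCat.hom_ext (AlgHom.ext fun b => ?_)
  have e := congrArg (fun q => q.left) (h i)
  simp only [Over.comp_left] at e
  rw [hφ, hψ] at e
  change (W.left.toSpecΓ ≫ Spec.map _) ≫ Spec.map _ = (W.left.toSpecΓ ≫ Spec.map _) ≫ Spec.map _ at e
  rw [Category.assoc, Category.assoc, ← Spec.map_comp, ← Spec.map_comp] at e
  exact ConcreteCategory.congr_hom (toSpecΓ_inj e) b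

lemma exists_specR_lift {m : ℕ} {W : Over (Spec R)} (f : Fin m → (W ⟶ specR (algOf R B))) :
    ∃ l : W ⟶ specR (tpow B m), ∀ i, l ≫ specRMap (tproj B m i) = f i := by
  choose φ hφ using fun i => exists_algHom (f i)
  obtain ⟨ψ, hψ⟩ := exists_tlift B m φ
  refine ⟨Over.homMk (W.left.toSpecΓ ≫ Spec.map (CommRingCat.ofHom ψ.hom.toRingHom)) ?_, fun i => ?_⟩
  · letI : Algebra R Γ(W.left, ⊤) := ((Scheme.ΓSpecIso R).inv ≫ W.hom.appTop).hom.toAlgebra
    change (W.left.toSpecΓ ≫ Spec.map _) ≫ Spec.map (CommRingCat.ofHom (algebraMap R _)) = W.hom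
    rw [Category.assoc, ← Spec.map_comp, ← CommRingCat.ofHom_comp]
    refine Eq.trans ?_ (hom_eq_toSpecΓ W.hom).symm
    refine congrArg (fun q : R →+* Γ(W.left, ⊤) => W.left.toSpecΓ ≫ Spec.map (CommRingCat.ofHom q)) ?_
    exact RingHom.ext fun r => ψ.hom.commutes r
  · ext : 1
    change (W.left.toSpecΓ ≫ Spec.map _) ≫ Spec.map _ = (f i).left
    rw [hφ i, Category.assoc, ← Spec.map_comp, ← CommRingCat.ofHom_comp, ← hψ i]
    rfl

/-- The fan of projections. -/
def tFan (m : ℕ) : Fan fun _ : Fin m => specR (algOf R B) :=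
  Fan.mk (specR (tpow B m)) fun i => specRMap (tproj B m i)

/-- The tensor power is the product. -/
def tFanLimit (m : ℕ) : IsLimit (tFan (R := R) B m) :=
  mkFanLimit _ (fun s => (exists_specR_lift B fun i => s.proj i).choose)
    (fun s i => (exists_specR_lift B fun i => s.proj i).choose_spec i)
    (fun s f hf => specR_fan_hom_ext B fun i => (hf i).trans ((exists_specR_lift B fun i => s.proj i).choose_spec i).symm)

variable {S : Scheme.{u}} (a : Spec R ⟶ S) (M : BigSite.Mod Scheme.fppfPrecoverage S)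

/-- The presheaf on schemes over `Spec R`. -/
abbrev presR : (Over (Spec R))ᵒᵖ ⥤ AddCommGrpCat.{u + 1} :=
  (Over.map a).op ⋙ ((BigSite.toAbMod Scheme.fppfPrecoverage S).obj M).obj

/-- The value on an affine scheme. -/
def presEquiv (D : Alg R) :
    (presR a M).obj (op (specR D)) ≃+ ((toMVF Scheme.fppfPrecoverage a).obj M).obj (pt D) :=
  AddEquiv.refl _

lemma presEquiv_map {D D' : Alg R} (f : D ⟶ D') (x : (presR a M).obj (op (specR D))) :
    presEquiv a M D' ((presR a M).map (specRMap f).op x) =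
      mp ((toMVF Scheme.fppfPrecoverage a).obj M) f (presEquiv a M D x) := rfl

variable [Module.FaithfullyFlat R B]

theorem cech_exact (hM : adequateMod Scheme.fppfPrecoverage S M) (p : ℕ) :
    CechGen.CechExact (fun _ : PUnit.{u + 2} => specR (algOf R B)) (presR a M) p := by
  let Y : PUnit.{u + 2} → Over (Spec R) := fun _ => specR (algOf R B)
  let P := presR a M
  let F := (toMVF Scheme.fppfPrecoverage a).obj M
  let e : ∀ {n : ℕ} (t : Fin (n + 1) → PUnit.{u + 2}), specR (tpow B (n + 1)) ≅ CechGen.tupleProd Y t :=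
    fun {n} t => (tFanLimit B (n + 1)).conePointUniqueUpToIso (productIsProduct (Y ∘ t))
  have he : ∀ {n : ℕ} (t : Fin (n + 1) → PUnit.{u + 2}) i, (e t).hom ≫ Pi.π (Y ∘ t) i = specRMap (tproj B (n + 1) i) :=
    fun {n} t i => IsLimit.conePointUniqueUpToIso_hom_comp _ _ (Discrete.mk i)
  have hdrop : ∀ {n : ℕ} (t : Fin (n + 2) → PUnit.{u + 2}) (k : Fin (n + 2)),
      (e t).hom ≫ CechGen.tupleDrop Y t k = specRMap (face B (n + 1) k) ≫ (e (t ∘ k.succAbove)).hom := by
    intro n t k
    refine Pi.hom_ext _ _ fun i => ?_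
    rw [Category.assoc, Category.assoc, he, ← specRMap_comp, tproj_face, CechGen.tupleDrop]
    exact (congrArg ((e t).hom ≫ ·) (Pi.lift_π _ i)).trans (he t _)
  let T : ∀ n, CechGen.Cochain Y P n → F.obj (pt (tpow B (n + 1))) := fun n x =>
    presEquiv a M _ (P.map (e fun _ => PUnit.unit).hom.op (x fun _ => PUnit.unit))
  have hT : ∀ n (x : CechGen.Cochain Y P n) (t : Fin (n + 1) → PUnit.{u + 2}),
      presEquiv a M _ (P.map (e t).hom.op (x t)) = T n x := by
    intro n x t
    obtain rfl : t = fun _ => PUnit.unit := funext fun _ => rfl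
    rfl
  have hcd : ∀ n (x : CechGen.Cochain Y P n), T (n + 1) (CechGen.cd Y P x) = tdF B F (n + 1) (T n x) := by
    intro n x
    simp only [T, CechGen.cd_sum, map_sum, map_zsmul, tdF, AddMonoidHom.finsetSum_apply, AddMonoidHom.smul_apply]
    refine Finset.sum_congr rfl fun k _ => congrArg (HSMul.hSMul ((-1 : ℤ) ^ (k : ℕ))) ?_
    rw [← ConcreteCategory.comp_apply, ← P.map_comp, ← op_comp, hdrop, op_comp, P.map_comp,
      ConcreteCategory.comp_apply, presEquiv_map, hT]
  have hinj : ∀ n, Function.Injective (T n) := fun n x y h => funext fun t => by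
    obtain rfl : t = fun _ => PUnit.unit := funext fun _ => rfl
    exact (ConcreteCategory.bijective_of_isIso (P.map (e fun _ => PUnit.unit).hom.op)).1
      ((presEquiv a M _).injective h)
  have hsurj : ∀ n, Function.Surjective (T n) := fun n z => by
    obtain ⟨v, hv⟩ := (ConcreteCategory.bijective_of_isIso (P.map (e (n := n) fun _ => PUnit.unit).hom.op)).2
      ((presEquiv a M _).symm z)
    refine ⟨fun t => (show (fun _ => PUnit.unit) = t from funext fun _ => rfl) ▸ v, ?_⟩
    change presEquiv a M _ (P.map (e fun _ => PUnit.unit).hom.op v) = z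
    rw [hv, AddEquiv.apply_symm_apply]
  intro x hx
  obtain ⟨y, hy⟩ := adequate_tdF_exact (adequate_toMVF_fppf M hM a) p (T (p + 1) x) (by
    rw [← hcd, hx]
    change presEquiv a M _ (P.map _ 0) = 0
    rw [map_zero, map_zero])
  obtain ⟨y', rfl⟩ := hsurj p y
  exact ⟨y', hinj (p + 1) ((hcd p y').trans hy)⟩

end Groth.Agent.AdeqLib
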