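import Groth.Agent.AdeqLib.Univ
import Mathlib.LinearAlgebra.TensorProduct.Vanishing
import Mathlib.RingTheory.TensorProduct.DirectLimitFG
import Mathlib.LinearAlgebra.TensorProduct.Finiteness
import Mathlib.Algebra.DirectSum.Module
import Mathlib.Algebra.Category.ModuleCat.Products
import Mathlib.Algebra.Category.ModuleCat.Presheaf.Colimits
import Mathlib.Algebra.Category.ModuleCat.Presheaf.Limits
import Mathlib.CategoryTheory.Limits.Preserves.Shapes.Products
import Mathlib.LinearAlgebra.FreeModule.Basic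
import Mathlib.RingTheory.Finiteness.Basic

/-!
Covering adequate functors by linearly adequate ones; closure properties of adequate functors.
-/

set_option autoImplicit false
set_option linter.style.haveILetI false
set_option backward.isDefEq.respectTransparency false
universe u

noncomputable section

namespace Groth.Agent.AdeqLib

open CategoryTheory Limits Opposite TensorProduct
open Adeq (MVF Alg pt ptHom underline adequate linAdequate)

variable {A : Type u} [CommRing A]

/-! ### Standard linearly adequate functors -/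

/-- The free module `A^n`, one universe up. -/
abbrev stdMod (A : Type u) [CommRing A] (n : ℕ) : ModuleCat.{u + 1} A :=
  ModuleCat.of A (ULift.{u + 1} (Fin n → A))

/-- Its standard basis. -/
def stdBasis (A : Type u) [CommRing A] (n : ℕ) : Module.Basis (Fin n) A (stdMod A n) :=
  (Pi.basisFun A (Fin n)).map ULift.moduleEquiv.symm

/-- A matrix. -/
abbrev Mat (A : Type u) : Type u := Σ n k : ℕ, Fin n → Fin k → A

/-- The linear map of a matrix. -/
def stdMap (c : Mat A) : stdMod A c.1 ⟶ stdMod A c.2.1 :=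
  ModuleCat.ofHom ((stdBasis A c.1).constr A fun i => ∑ j, c.2.2 i j • stdBasis A c.2.1 j)

/-- The linearly adequate functor of a matrix. -/
abbrev stdL (c : Mat A) : MVF A := L (stdMap c)

lemma linAdequate_stdL (c : Mat A) : linAdequate A (stdL c) :=
  ⟨_, _, stdMap c, Module.Finite.equiv ULift.moduleEquiv.symm, Module.Free.of_basis (stdBasis A c.1),
    Module.Finite.equiv ULift.moduleEquiv.symm, Module.Free.of_basis (stdBasis A c.2.1), ⟨Iso.refl _⟩⟩

lemma adequate_L {P P' : ModuleCat.{u + 1} A} (a : P ⟶ P') : adequate A (L a) :=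
  ⟨P, P', a, ⟨Iso.refl _⟩⟩

lemma exists_finBasis (M : ModuleCat.{u + 1} A) [Module.Finite A M] [Module.Free A M] :
    ∃ n, Nonempty (Module.Basis (Fin n) A M) := by
  rcases subsingleton_or_nontrivial A with hA | hA
  · haveI : Subsingleton M := Module.subsingleton A M
    exact ⟨0, ⟨Module.Basis.empty _⟩⟩
  · haveI := Module.Finite.finite_basis (Module.Free.chooseBasis A M)
    exact ⟨_, ⟨(Module.Free.chooseBasis A M).reindex (Finite.equivFin _)⟩⟩

/-! ### Relations in tensor products -/

lemma exists_relations {N : ModuleCat.{u + 1} A} {B : Type u} [AddCommGroup B] [Module A B] {n : ℕ}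
    (b : Fin n → B) (z : Fin n → N) (h : ∑ i, b i ⊗ₜ[A] z i = 0) :
    ∃ (n' : ℕ) (b' : Fin n' → B) (e : Fin n → Fin n') (k : ℕ) (c : Fin n' → Fin k → A) (y : Fin k → N),
      Function.Injective e ∧ (∀ i, b' (e i) = b i) ∧
      (∀ l, (∀ i, e i ≠ l) → ∑ j, c l j • y j = 0) ∧
      (∀ i, z i = ∑ j, c (e i) j • y j) ∧ ∀ j, ∑ l, c l j • b' l = 0 := by
  classical
  have hPfg : (Submodule.span A (Set.range b)).FG := Submodule.fg_span (Set.finite_range b)
  set t : Submodule.span A (Set.range b) ⊗[A] N :=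
    ∑ i, ⟨b i, Submodule.subset_span ⟨i, rfl⟩⟩ ⊗ₜ[A] z i with ht
  obtain ⟨Q, hPQ, hQ, hQ0⟩ := TensorProduct.eq_zero_of_fg_of_subtype_eq_zero hPfg
    (show LinearMap.rTensor N (Submodule.span A (Set.range b)).subtype t = 0 by
      rw [ht, map_sum]; exact h)
  obtain ⟨G, hG⟩ := hQ
  have hGQ : ∀ g : G, (g : B) ∈ Q := fun g => hG ▸ Submodule.subset_span g.2
  have hbQ : ∀ i, b i ∈ Q := fun i => hPQ (Submodule.subset_span ⟨i, rfl⟩)
  let m' : Fin n ⊕ G → Q := Sum.elim (fun i => ⟨b i, hbQ i⟩) fun g => ⟨g, hGQ g⟩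
  let z' : Fin n ⊕ G → N := Sum.elim z 0
  have hspan : Submodule.span A (Set.range m') = ⊤ := by
    apply Submodule.map_injective_of_injective Q.injective_subtype
    rw [Submodule.map_span, Submodule.map_top, Submodule.range_subtype]
    refine le_antisymm (Submodule.span_le.mpr ?_) ?_
    · rintro _ ⟨q, _, rfl⟩; exact q.2
    · conv_lhs => rw [← hG]
      refine Submodule.span_mono fun g hg => ⟨m' (Sum.inr ⟨g, hg⟩), ⟨_, rfl⟩, rfl⟩
  have hzero : ∑ l, m' l ⊗ₜ[A] z' l = 0 := by
    rw [Fintype.sum_sum_type]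
    simp only [m', z', Sum.elim_inl, Sum.elim_inr, Pi.zero_apply, TensorProduct.tmul_zero,
      Finset.sum_const_zero, add_zero]
    rw [ht, map_sum] at hQ0
    exact hQ0
  obtain ⟨k, c, y, hy1, hy2⟩ := TensorProduct.vanishesTrivially_of_sum_tmul_eq_zero A hspan hzero
  let eq := Fintype.equivFin (Fin n ⊕ G)
  refine ⟨_, fun l => (m' (eq.symm l) : B), fun i => eq (Sum.inl i), k, fun l j => c (eq.symm l) j, y,
    eq.injective.comp Sum.inl_injective, fun i => by simp [m'], fun l hl => ?_, fun i => ?_, fun j => ?_⟩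
  · rw [← hy1 (eq.symm l)]
    rcases hcase : eq.symm l with i | g
    · exact absurd (eq.symm_apply_eq.mp hcase).symm (hl i)
    · rfl
  · simpa [z'] using hy1 (Sum.inl i)
  · have := congrArg (fun q : Q => (q : B)) (hy2 j)
    simp only [Submodule.coe_sum, Submodule.coe_smul, ZeroMemClass.coe_zero] at this
    rw [← this]
    exact (Fintype.sum_equiv eq _ _ (fun l => by simp)).symm

/-- Every element of an adequate functor comes from a standard linearly adequate one. -/
theorem exists_hit {F : MVF A} (hF : adequate A F) (B : Alg A) (ξ : F.obj (pt B)) :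
    ∃ (c : Mat A) (ψ : stdL c ⟶ F) (w : (stdL c).obj (pt B)), appL ψ B w = ξ := by
  classical
  obtain ⟨M, N, nn, ι, hinj, hran⟩ := exists_emb hF
  obtain ⟨S, hS⟩ := TensorProduct.exists_finset (toU ι B ξ)
  let eS := S.equivFin
  let b : Fin S.card → B := fun i => (eS.symm i).1.1
  let m : Fin S.card → M := fun i => (eS.symm i).1.2
  have hv : toU ι B ξ = ∑ i, b i ⊗ₜ[A] m i := by
    rw [hS, ← Finset.sum_coe_sort]
    exact Fintype.sum_equiv eS _ _ (fun i => by simp [b, m])
  have h0 : ∑ i, b i ⊗ₜ[A] nn.hom (m i) = 0 := by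
    have := (hran B _).mp ⟨ξ, rfl⟩
    rw [hv, map_sum] at this
    simpa using this
  obtain ⟨n', b', e, k, c, y, hej, hb', hout, hin, hrel⟩ := exists_relations b _ h0
  let m' : Fin n' → M := Function.extend e m 0
  have hm' : ∀ l, nn.hom (m' l) = ∑ j, c l j • y j := by
    intro l
    by_cases hl : ∃ i, e i = l
    · obtain ⟨i, rfl⟩ := hl
      simp only [m', hej.extend_apply]
      exact hin i
    · simp only [m', Function.extend_apply' _ _ _ hl, Pi.zero_apply, map_zero]
      exact (hout l (not_exists.mp hl)).symm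
  let cc : Mat A := ⟨n', k, c⟩
  let g : stdMod A n' ⟶ M := ModuleCat.ofHom ((stdBasis A n').constr A m')
  let h : stdMod A k ⟶ N := ModuleCat.ofHom ((stdBasis A k).constr A y)
  have hsq : nn.hom ∘ₗ g.hom = h.hom ∘ₗ (stdMap cc).hom := by
    refine (stdBasis A n').ext fun l => ?_
    simp only [LinearMap.comp_apply, g, h, stdMap, cc, ModuleCat.hom_ofHom, Module.Basis.constr_basis,
      map_sum, map_smul, hm']
  obtain ⟨ψ, hψ⟩ := exists_factor ι (fun B => (toU_injective ι B).mp (hinj B))
    (kernel.ι ((underline A).map (stdMap cc)) ≫ (underline A).map g) (fun B' z => by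
      have : nn.hom.baseChange B' (toU (kernel.ι ((underline A).map (stdMap cc)) ≫ (underline A).map g) B' z) = 0 := by
        rw [toU_map, ← LinearMap.comp_apply, ← LinearMap.baseChange_comp, hsq,
          LinearMap.baseChange_comp, LinearMap.comp_apply, ← toU_map, kernel.condition, toU_zero,
          map_zero]
      exact (hran B' _).mpr this)
  set v : (B : Type u) ⊗[A] stdMod A n' := ∑ l, b' l ⊗ₜ[A] stdBasis A n' l with hvdef
  have hv0 : (stdMap cc).hom.baseChange B v = 0 := by
    simp only [hvdef, map_sum, LinearMap.baseChange_tmul, stdMap, cc, ModuleCat.hom_ofHom,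
      Module.Basis.constr_basis, TensorProduct.tmul_sum, TensorProduct.tmul_smul,
      TensorProduct.smul_tmul']
    rw [Finset.sum_comm]
    simp only [← TensorProduct.sum_tmul, hrel, TensorProduct.zero_tmul, Finset.sum_const_zero]
  obtain ⟨w, hw⟩ := exists_kernel_lift ((underline A).map (stdMap cc)) (B := B) (x := v) hv0
  refine ⟨cc, ψ, w, hinj B ?_⟩
  rw [← toU_comp, hψ, toU_map, show toU (kernel.ι ((underline A).map (stdMap cc))) B w = v from hw,
    hv, hvdef, map_sum]
  simp only [LinearMap.baseChange_tmul, g, ModuleCat.hom_ofHom, Module.Basis.constr_basis]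
  rw [← Finset.sum_subset (Finset.subset_univ (Finset.univ.image e)), Finset.sum_image fun i _ j _ h => hej h]
  · exact Finset.sum_congr rfl fun i _ => by
      erw [Module.Basis.constr_basis]
      rw [show m' (e i) = m i from hej.extend_apply _ _ _, hb']
  · intro l _ hl
    simp only [Finset.mem_image, Finset.mem_univ, true_and] at hl
    erw [Module.Basis.constr_basis]
    simp only [m', Function.extend_apply' _ _ _ hl, Pi.zero_apply, TensorProduct.tmul_zero]

/-! ### Direct sums -/

section DirectSum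

variable {T : Type (u + 1)} [DecidableEq T] (P : T → ModuleCat.{u + 1} A)

/-- The direct sum. -/
abbrev dsum : ModuleCat.{u + 1} A := ModuleCat.of A (DirectSum T fun t => P t)

lemma exists_sum_component (B : Alg A) (v : (B : Type u) ⊗[A] dsum P) :
    ∃ s : Finset T, ∀ s', s ⊆ s' → v = ∑ t ∈ s', (DirectSum.lof A T (fun t => P t) t).baseChange B
      ((DirectSum.component A T (fun t => P t) t).baseChange B v) := by
  classical
  induction v using TensorProduct.induction_on with
  | zero => exact ⟨∅, fun s' _ => by simp⟩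
  | tmul b z =>
    refine ⟨DFinsupp.support z, fun s' hs => ?_⟩
    simp only [LinearMap.baseChange_tmul, ← TensorProduct.tmul_sum]
    congr 1
    conv_lhs => rw [← DirectSum.sum_support_of z]
    refine (Finset.sum_subset hs fun t _ ht => ?_)
    rw [DFinsupp.notMem_support_iff.mp ht, map_zero]
  | add v w hv hw =>
    obtain ⟨s, hs⟩ := hv
    obtain ⟨s₂, hs₂⟩ := hw
    refine ⟨s ∪ s₂, fun s' h => ?_⟩
    conv_lhs => rw [hs s' (Finset.union_subset_iff.mp h).1, hs₂ s' (Finset.union_subset_iff.mp h).2]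
    rw [← Finset.sum_add_distrib]
    exact Finset.sum_congr rfl fun t _ => by rw [map_add, map_add]

variable {P} {P' : T → ModuleCat.{u + 1} A}

/-- The diagonal map. -/
abbrev dmap (a : ∀ t, P t ⟶ P' t) : dsum P ⟶ dsum P' :=
  ModuleCat.ofHom (DirectSum.lmap fun t => (a t).hom)

lemma component_dmap (a : ∀ t, P t ⟶ P' t) (B : Alg A) (v : (B : Type u) ⊗[A] dsum P) (t : T) :
    (DirectSum.component A T (fun t => P' t) t).baseChange B ((dmap a).hom.baseChange B v) =
      (a t).hom.baseChange B ((DirectSum.component A T (fun t => P t) t).baseChange B v) := by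
  rw [← LinearMap.comp_apply, ← LinearMap.baseChange_comp, ← LinearMap.comp_apply,
    ← LinearMap.baseChange_comp]
  congr 2

lemma dmap_lof (a : ∀ t, P t ⟶ P' t) (B : Alg A) (t : T) (v : (B : Type u) ⊗[A] P t) :
    (dmap a).hom.baseChange B ((DirectSum.lof A T (fun t => P t) t).baseChange B v) =
      (DirectSum.lof A T (fun t => P' t) t).baseChange B ((a t).hom.baseChange B v) := by
  rw [← LinearMap.comp_apply, ← LinearMap.baseChange_comp, ← LinearMap.comp_apply,
    ← LinearMap.baseChange_comp]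
  congr 2
  exact LinearMap.ext fun x => DirectSum.lmap_lof (R := A) (M := fun t => P t) (N := fun t => P' t) (f := fun t => (a t).hom) t x

end DirectSum

/-- The image of an adequate functor in `underline M` is of the form `g (ker a)`. -/
theorem exists_image {F : MVF A} (hF : adequate A F) {M : ModuleCat.{u + 1} A}
    (φ : F ⟶ (underline A).obj M) :
    ∃ (P P' : ModuleCat.{u + 1} A) (a : P ⟶ P') (g : P ⟶ M),
      ∀ B, IsImg a g B fun x => ∃ ξ, toU φ B ξ = x := by
  classical
  let T : Type (u + 1) := Σ B : Alg A, F.obj (pt B)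
  choose c ψ w hw using fun t : T => exists_hit hF t.1 t.2
  choose g hg using fun t : T =>
    exists_extend (stdBasis A (c t).1) (stdBasis A (c t).2.1) (stdMap (c t)) (ψ t ≫ φ)
  refine ⟨_, _, dmap fun t => stdMap (c t), ModuleCat.ofHom (DirectSum.toModule A T M fun t => (g t).hom),
    fun B x => ⟨?_, ?_⟩⟩
  · rintro ⟨ξ, rfl⟩
    let t : T := ⟨B, ξ⟩
    refine ⟨(DirectSum.lof A T (fun t => stdMod A (c t).1) t).baseChange B
      (toU (kernel.ι ((underline A).map (stdMap (c t)))) B (w t)), ?_, ?_⟩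
    · rw [dmap_lof (P := fun t => stdMod A (c t).1) (P' := fun t => stdMod A (c t).2.1), ← toU_map,
        kernel.condition, toU_zero, map_zero]
    · rw [← LinearMap.comp_apply, ← LinearMap.baseChange_comp,
        show ((ModuleCat.ofHom (DirectSum.toModule A T M fun t => (g t).hom)).hom ∘ₗ
          DirectSum.lof A T (fun t => stdMod A (c t).1) t) = (g t).hom from
          LinearMap.ext fun x => DirectSum.toModule_lof (ι := T) (M := fun t => stdMod A (c t).1) (φ := fun t => (g t).hom) A t x, ← toU_map, hg t, toU_comp]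
      exact congrArg (toU φ B) (hw t)
  · rintro ⟨v, hv, rfl⟩
    obtain ⟨s, hs⟩ := exists_sum_component (fun t => stdMod A (c t).1) B v
    choose y hy using fun t : T => exists_kernel_lift ((underline A).map (stdMap (c t))) (B := B)
      (x := (DirectSum.component A T (fun t => stdMod A (c t).1) t).baseChange B v) (by
        change (stdMap (c t)).hom.baseChange B _ = 0
        rw [← component_dmap (P := fun t => stdMod A (c t).1) (P' := fun t => stdMod A (c t).2.1)
          (fun t => stdMap (c t)) B v t, hv, map_zero])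
    refine ⟨∑ t ∈ s, appL (ψ t) B (y t), ?_⟩
    conv_rhs => rw [hs s subset_rfl]
    rw [map_sum, map_sum]
    refine Finset.sum_congr rfl fun t _ => ?_
    rw [← toU_comp, ← hg t, toU_map,
      show toU (kernel.ι ((underline A).map (stdMap (c t)))) B (y t) = _ from hy t]
    rw [← LinearMap.comp_apply (_ : _ →ₗ[(B : Type u)] _) ((DirectSum.lof A T (fun t => stdMod A (c t).1) t).baseChange B),
      ← LinearMap.baseChange_comp]
    congr 2
    exact (LinearMap.ext fun x => DirectSum.toModule_lof (ι := T) (M := fun t => stdMod A (c t).1) (φ := fun t => (g t).hom) A t x).symm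

lemma bc_bc {P P' M : Type (u + 1)} [AddCommGroup P] [Module A P] [AddCommGroup P'] [Module A P']
    [AddCommGroup M] [Module A M] (g : P' →ₗ[A] M) (f : P →ₗ[A] P') (B : Alg A)
    (v : (B : Type u) ⊗[A] P) :
    g.baseChange B (f.baseChange B v) = (g ∘ₗ f).baseChange B v := by
  rw [LinearMap.baseChange_comp]; rfl

lemma baseChange_prod_eq_zero {P P' M : ModuleCat.{u + 1} A} (a : P →ₗ[A] P') (g : P →ₗ[A] M)
    (B : Alg A) (v : (B : Type u) ⊗[A] P) :
    (a.prod g).baseChange B v = 0 ↔ a.baseChange B v = 0 ∧ g.baseChange B v = 0 := by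
  constructor
  · intro h
    have h1 := congrArg ((LinearMap.fst A P' M).baseChange B) h
    have h2 := congrArg ((LinearMap.snd A P' M).baseChange B) h
    rw [← LinearMap.comp_apply, ← LinearMap.baseChange_comp, LinearMap.fst_prod, map_zero] at h1
    rw [← LinearMap.comp_apply, ← LinearMap.baseChange_comp, LinearMap.snd_prod, map_zero] at h2
    exact ⟨h1, h2⟩
  · rintro ⟨h1, h2⟩
    rw [show a.prod g = LinearMap.inl A P' M ∘ₗ a + LinearMap.inr A P' M ∘ₗ g by ext p <;> simp,
      LinearMap.baseChange_add, LinearMap.add_apply, LinearMap.baseChange_comp,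
      LinearMap.baseChange_comp, LinearMap.comp_apply, LinearMap.comp_apply, h1, h2, map_zero,
      map_zero, add_zero]

/-- Kernels of maps of adequate functors are adequate. -/
theorem adequate_kernel {F G : MVF A} (φ : F ⟶ G) (hF : adequate A F) (hG : adequate A G) :
    adequate A (kernel φ) := by
  obtain ⟨M₁, N₁, n₁, ι₁, hinj₁, hran₁⟩ := exists_emb hF
  obtain ⟨M₂, N₂, n₂, ι₂, hinj₂, hran₂⟩ := exists_emb hG
  let M : ModuleCat.{u + 1} A := ModuleCat.of A (M₁ × M₂)
  let i₁ : M₁ ⟶ M := ModuleCat.ofHom (LinearMap.inl A M₁ M₂)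
  let i₂ : M₂ ⟶ M := ModuleCat.ofHom (LinearMap.inr A M₁ M₂)
  let Φ : F ⟶ (underline A).obj M := ι₁ ≫ (underline A).map i₁ + φ ≫ ι₂ ≫ (underline A).map i₂
  have hfst : ∀ (B : Alg A) ξ, (LinearMap.fst A M₁ M₂).baseChange (B : Type u) (toU Φ B ξ) = toU ι₁ B ξ := by
    intro B ξ
    rw [show toU Φ B ξ = (LinearMap.inl A M₁ M₂).baseChange (B : Type u) (toU ι₁ B ξ) +
      (LinearMap.inr A M₁ M₂).baseChange (B : Type u) (toU ι₂ B (appL φ B ξ)) from rfl, map_add]
    rw [bc_bc, bc_bc, LinearMap.fst_comp_inl, LinearMap.fst_comp_inr]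
    simp
  have hsnd : ∀ (B : Alg A) ξ, (LinearMap.snd A M₁ M₂).baseChange (B : Type u) (toU Φ B ξ) =
      toU ι₂ B (appL φ B ξ) := by
    intro B ξ
    rw [show toU Φ B ξ = (LinearMap.inl A M₁ M₂).baseChange (B : Type u) (toU ι₁ B ξ) +
      (LinearMap.inr A M₁ M₂).baseChange (B : Type u) (toU ι₂ B (appL φ B ξ)) from rfl, map_add]
    rw [bc_bc, bc_bc, LinearMap.snd_comp_inl, LinearMap.snd_comp_inr]
    simp
  obtain ⟨P, P', a, g, hg⟩ := exists_image hF Φ
  refine adequate_of_img (M := M₁) (ModuleCat.ofHom (X := P) (a.hom.prod (LinearMap.snd A M₁ M₂ ∘ₗ g.hom)))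
    (ModuleCat.ofHom (X := P) (LinearMap.fst A M₁ M₂ ∘ₗ g.hom)) (kernel.ι φ ≫ ι₁)
    (fun B => (hinj₁ B).comp (injective_of_mono (kernel.ι φ) B)) fun B x => ⟨?_, ?_⟩
  · rintro ⟨y, rfl⟩
    obtain ⟨v, hv, hgv⟩ := (hg B _).mp ⟨appL (kernel.ι φ) B y, rfl⟩
    refine ⟨v, (baseChange_prod_eq_zero (M := M₂) _ _ B v).mpr ⟨hv, ?_⟩, ?_⟩
    · rw [LinearMap.baseChange_comp, LinearMap.comp_apply, hgv, hsnd, appL_kernel, map_zero]
    · rw [ModuleCat.hom_ofHom, LinearMap.baseChange_comp, LinearMap.comp_apply, hgv, hfst, toU_comp]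
  · rintro ⟨v, hv, rfl⟩
    obtain ⟨hv₁, hv₂⟩ := (baseChange_prod_eq_zero (M := M₂) _ _ B v).mp hv
    obtain ⟨ξ, hξ⟩ := (hg B _).mpr ⟨v, hv₁, rfl⟩
    rw [LinearMap.baseChange_comp, LinearMap.comp_apply, ← hξ, hsnd] at hv₂
    obtain ⟨y, hy⟩ := exists_kernel_lift φ (hinj₂ B (hv₂.trans (map_zero _).symm))
    refine ⟨y, ?_⟩
    rw [ModuleCat.hom_ofHom, LinearMap.baseChange_comp, LinearMap.comp_apply, ← hξ, hfst, toU_comp,
      hy]

/-- Cokernels of maps of adequate functors are adequate. -/
theorem adequate_cokernel {F G : MVF A} (φ : F ⟶ G) (hF : adequate A F) (hG : adequate A G) :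
    adequate A (cokernel φ) := by
  obtain ⟨M, N, n, ι, hinj, hran⟩ := exists_emb hG
  obtain ⟨P, P', a, g, hg⟩ := exists_image hF (φ ≫ ι)
  have hq : φ ≫ ι ≫ (underline A).map (imgMap a g) = 0 := homU_ext fun B ξ => by
    rw [toU_comp, toU_map, toU_zero]
    exact (imgMap_ker a g B _).mpr ((hg B _).mp ⟨ξ, rfl⟩)
  refine adequate_of_img n (imgMap a g) (cokernel.desc φ _ hq) (fun B => ?_) fun B x => ⟨?_, ?_⟩
  · rw [injective_iff_map_eq_zero]
    intro z hz
    obtain ⟨y, rfl⟩ := surjective_of_epi (cokernel.π φ) B z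
    rw [← toU_comp, cokernel.π_desc, toU_map] at hz
    obtain ⟨ξ, hξ⟩ := (hg B _).mpr ((imgMap_ker a g B _).mp hz)
    exact (cokernel_ker φ B y).mpr ⟨ξ, hinj B hξ⟩
  · rintro ⟨z, rfl⟩
    obtain ⟨y, rfl⟩ := surjective_of_epi (cokernel.π φ) B z
    refine ⟨toU ι B y, (hran B _).mp ⟨y, rfl⟩, ?_⟩
    rw [← toU_comp, cokernel.π_desc, toU_map]
  · rintro ⟨v, hv, rfl⟩
    obtain ⟨y, rfl⟩ := (hran B v).mpr hv
    exact ⟨appL (cokernel.π φ) B y, by rw [← toU_comp, cokernel.π_desc, toU_map]⟩

lemma adequate_of_iso {F G : MVF A} (e : F ≅ G) (h : adequate A F) : adequate A G :=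
  (adequate A).prop_of_iso e h

/-- Binary sums of adequate functors are adequate. -/
theorem adequate_biprod {F G : MVF A} (hF : adequate A F) (hG : adequate A G) :
    adequate A (F ⊞ G) := by
  obtain ⟨M₁, N₁, n₁, ι₁, hinj₁, hran₁⟩ := exists_emb hF
  obtain ⟨M₂, N₂, n₂, ι₂, hinj₂, hran₂⟩ := exists_emb hG
  let i₁ : M₁ ⟶ ModuleCat.of A (M₁ × M₂) := ModuleCat.ofHom (LinearMap.inl A M₁ M₂)
  let i₂ : M₂ ⟶ ModuleCat.of A (M₁ × M₂) := ModuleCat.ofHom (LinearMap.inr A M₁ M₂)
  let Φ : F ⊞ G ⟶ (underline A).obj (ModuleCat.of A (M₁ × M₂)) :=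
    biprod.fst ≫ ι₁ ≫ (underline A).map i₁ + biprod.snd ≫ ι₂ ≫ (underline A).map i₂
  have hfst : ∀ (B : Alg A) ξ, (LinearMap.fst A M₁ M₂).baseChange (B : Type u) (toU Φ B ξ) =
      toU ι₁ B (appL biprod.fst B ξ) := by
    intro B ξ
    rw [show toU Φ B ξ = (LinearMap.inl A M₁ M₂).baseChange (B : Type u) (toU ι₁ B (appL biprod.fst B ξ)) +
      (LinearMap.inr A M₁ M₂).baseChange (B : Type u) (toU ι₂ B (appL biprod.snd B ξ)) from rfl, map_add]
    rw [bc_bc, bc_bc, LinearMap.fst_comp_inl, LinearMap.fst_comp_inr]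
    simp
  have hsnd : ∀ (B : Alg A) ξ, (LinearMap.snd A M₁ M₂).baseChange (B : Type u) (toU Φ B ξ) =
      toU ι₂ B (appL biprod.snd B ξ) := by
    intro B ξ
    rw [show toU Φ B ξ = (LinearMap.inl A M₁ M₂).baseChange (B : Type u) (toU ι₁ B (appL biprod.fst B ξ)) +
      (LinearMap.inr A M₁ M₂).baseChange (B : Type u) (toU ι₂ B (appL biprod.snd B ξ)) from rfl, map_add]
    rw [bc_bc, bc_bc, LinearMap.snd_comp_inl, LinearMap.snd_comp_inr]
    simp
  have hinl : ∀ (B : Alg A) ξ, toU Φ B (appL biprod.inl B ξ) = (LinearMap.inl A M₁ M₂).baseChange B (toU ι₁ B ξ) := by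
    intro B ξ
    rw [← toU_comp, show (biprod.inl : F ⟶ F ⊞ G) ≫ Φ = ι₁ ≫ (underline A).map i₁ by simp [Φ]]
    rfl
  have hinr : ∀ (B : Alg A) ξ, toU Φ B (appL biprod.inr B ξ) = (LinearMap.inr A M₁ M₂).baseChange B (toU ι₂ B ξ) := by
    intro B ξ
    rw [← toU_comp, show (biprod.inr : G ⟶ F ⊞ G) ≫ Φ = ι₂ ≫ (underline A).map i₂ by simp [Φ]]
    rfl
  have htot : ∀ B (z : (F ⊞ G).obj (pt B)),
      z = appL biprod.inl B (appL biprod.fst B z) + appL biprod.inr B (appL biprod.snd B z) := by
    intro B z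
    rw [← appL_comp biprod.fst, ← appL_comp biprod.snd, ← appL_add, biprod.total, appL_id]
  refine adequate_of_emb (ModuleCat.ofHom (n₁.hom.prodMap n₂.hom)) Φ (fun B => ?_) fun B x => ?_
  · rw [injective_iff_map_eq_zero]
    intro z hz
    have e1 := hfst B z
    have e2 := hsnd B z
    rw [hz, map_zero] at e1 e2
    rw [htot B z, hinj₁ B (e1.symm.trans (map_zero _).symm), hinj₂ B (e2.symm.trans (map_zero _).symm),
      map_zero, map_zero, add_zero]
  · rw [ModuleCat.hom_ofHom, show n₁.hom.prodMap n₂.hom =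
      (n₁.hom ∘ₗ LinearMap.fst A M₁ M₂).prod (n₂.hom ∘ₗ LinearMap.snd A M₁ M₂) from rfl,
      baseChange_prod_eq_zero (P := ModuleCat.of A (M₁ × M₂)), LinearMap.baseChange_comp,
      LinearMap.baseChange_comp, LinearMap.comp_apply, LinearMap.comp_apply, ← hran₁, ← hran₂]
    constructor
    · rintro ⟨z, rfl⟩
      exact ⟨⟨_, (hfst B z).symm⟩, _, (hsnd B z).symm⟩
    · rintro ⟨⟨y₁, h₁⟩, y₂, h₂⟩
      refine ⟨appL biprod.inl B y₁ + appL biprod.inr B y₂, ?_⟩
      rw [map_add, hinl, hinr, h₁, h₂, ← LinearMap.comp_apply, ← LinearMap.baseChange_comp,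
        ← LinearMap.comp_apply, ← LinearMap.baseChange_comp, ← LinearMap.add_apply,
        ← LinearMap.baseChange_add]
      rw [show LinearMap.inl A M₁ M₂ ∘ₗ LinearMap.fst A M₁ M₂ +
        LinearMap.inr A M₁ M₂ ∘ₗ LinearMap.snd A M₁ M₂ = LinearMap.id by ext <;> simp,
        LinearMap.baseChange_id, LinearMap.id_apply]

/-! ### Coproducts and colimits -/

lemma exists_sigma_sum {T : Type (u + 1)} (F : T → MVF A) (B : Alg A)
    (z : (∐ F).obj (pt B)) :
    ∃ (s : Finset T) (y : ∀ t, (F t).obj (pt B)), z = ∑ t ∈ s, appL (Sigma.ι F t) B (y t) := by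
  classical
  let ev := PresheafOfModules.evaluation.{u + 1} (Adeq.ringOf A) (pt B)
  haveI : PreservesColimitsOfShape (Discrete T) ev :=
    PresheafOfModules.evaluation_preservesColimitsOfShape _ _ _
  let e : ev.obj (∐ F) ≅ ModuleCat.of _ (DirectSum T fun t => (ev.obj (F t))) :=
    (PreservesCoproduct.iso ev F) ≪≫ ModuleCat.coprodIsoDirectSum.{u, u + 1, u + 1} _
  have he : ∀ t, ModuleCat.ofHom (DirectSum.lof _ T (fun t => ev.obj (F t)) t) ≫ e.inv =
      ev.map (Sigma.ι F t) := by
    intro t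
    simp only [e, Iso.trans_inv, ← Category.assoc, ModuleCat.lof_coprodIsoDirectSum_inv]
    simp [PreservesCoproduct.inv_hom]
  let d : DirectSum T fun t => (ev.obj (F t)) := e.hom.hom z
  refine ⟨DFinsupp.support d, fun t => d t, ?_⟩
  calc z = e.inv.hom d := (congrArg (fun k : ev.obj (∐ F) ⟶ ev.obj (∐ F) => k.hom z) e.hom_inv_id).symm
    _ = ∑ t ∈ DFinsupp.support d, e.inv.hom (DirectSum.of (fun t => ev.obj (F t)) t (d t)) := by
      conv_lhs => rw [← DirectSum.sum_support_of d]
      rw [map_sum]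
    _ = _ := Finset.sum_congr rfl fun t _ =>
      congrArg (fun k : ev.obj (F t) ⟶ ev.obj (∐ F) => k.hom (d t)) (he t)

/-- Coproducts of adequate functors are adequate. -/
theorem adequate_sigma {T : Type (u + 1)} (F : T → MVF A) (hF : ∀ t, adequate A (F t)) :
    adequate A (∐ F) := by
  classical
  choose M N n ι hinj hran using fun t => exists_emb (hF t)
  let Φ : ∐ F ⟶ (underline A).obj (dsum M) :=
    Sigma.desc fun t => ι t ≫ (underline A).map (ModuleCat.ofHom (DirectSum.lof A T (fun t => M t) t))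
  have hι : ∀ t B y, toU Φ B (appL (Sigma.ι F t) B y) =
      (DirectSum.lof A T (fun t => M t) t).baseChange B (toU (ι t) B y) := by
    intro t B y
    rw [← toU_comp, Sigma.ι_desc, toU_map]
    rfl
  refine adequate_of_emb (dmap n) Φ (fun B => ?_) fun B x => ⟨?_, ?_⟩
  · rw [injective_iff_map_eq_zero]
    intro z hz
    obtain ⟨s, y, rfl⟩ := exists_sigma_sum F B z
    refine Finset.sum_eq_zero fun t ht => ?_
    have h1 := congrArg ((DirectSum.component A T (fun t => M t) t).baseChange B) hz
    simp only [map_sum, map_zero, hι] at h1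
    rw [Finset.sum_eq_single t] at h1
    · rw [← LinearMap.comp_apply, ← LinearMap.baseChange_comp,
        show DirectSum.component A T (fun t => M t) t ∘ₗ DirectSum.lof A T (fun t => M t) t =
          LinearMap.id from LinearMap.ext fun x => DirectSum.component.lof_self (M := fun t => M t) A t x,
        LinearMap.baseChange_id, LinearMap.id_apply] at h1
      rw [hinj t B (h1.trans (map_zero _).symm), map_zero]
    · intro t' _ hne
      rw [← LinearMap.comp_apply, ← LinearMap.baseChange_comp,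
        show DirectSum.component A T (fun t => M t) t ∘ₗ DirectSum.lof A T (fun t => M t) t' = 0 from
          LinearMap.ext fun x => (DirectSum.component.of (M := fun t => M t) A t t' x).trans (dif_neg hne),
        LinearMap.baseChange_zero, LinearMap.zero_apply]
    · exact fun h => absurd ht h
  · rintro ⟨z, rfl⟩
    obtain ⟨s, y, rfl⟩ := exists_sigma_sum F B z
    simp only [map_sum, hι]
    refine Finset.sum_eq_zero fun t _ => ?_
    rw [dmap_lof, (hran t B _).mp ⟨y t, rfl⟩, map_zero]
  · intro hx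
    obtain ⟨s, hs⟩ := exists_sum_component M B x
    choose y hy using fun t => (hran t B ((DirectSum.component A T (fun t => M t) t).baseChange B x)).mpr
      (by rw [← component_dmap, hx, map_zero])
    refine ⟨∑ t ∈ s, appL (Sigma.ι F t) B (y t), ?_⟩
    conv_rhs => rw [hs s subset_rfl]
    simp only [map_sum, hι, hy]

/-- Colimits of adequate functors are adequate. -/
theorem adequate_colim {J : Type (u + 1)} [SmallCategory J] (D : J ⥤ MVF A)
    (hD : ∀ j, adequate A (D.obj j)) : adequate A (colimit D) := by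
  let r : (∐ fun f : Σ i j : J, i ⟶ j => D.obj f.1) ⟶ ∐ D.obj :=
    Sigma.desc fun f => D.map f.2.2 ≫ Sigma.ι D.obj f.2.1 - Sigma.ι D.obj f.1
  let c : Cocone D :=
    { pt := cokernel r
      ι :=
        { app := fun j => Sigma.ι D.obj j ≫ cokernel.π r
          naturality := fun i j f => by
            have h := congrArg (fun k => Sigma.ι (fun f : Σ i j : J, i ⟶ j => D.obj f.1) ⟨i, j, f⟩ ≫ k)
              (cokernel.condition r)
            simp only [r, Sigma.ι_desc_assoc, Preadditive.sub_comp, Category.assoc, comp_zero,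
              sub_eq_zero] at h
            simpa using h } }
  have hc : IsColimit c :=
    { desc := fun s => cokernel.desc r (Sigma.desc s.ι.app) (Sigma.hom_ext _ _ fun f => by
        simp [r, Preadditive.sub_comp, s.w])
      fac := fun s j => by simp [c]
      uniq := fun s m hm => by
        refine (cancel_epi (cokernel.π r)).mp (Sigma.hom_ext _ _ fun j => ?_)
        simpa [c] using hm j }
  exact adequate_of_iso (hc.coconePointUniqueUpToIso (colimit.isColimit D))
    (adequate_cokernel r (adequate_sigma _ fun f => hD _) (adequate_sigma _ hD))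

/-- The data attached to an epimorphism out of an adequate functor. -/
lemma adExt_of_epi {G H : MVF A} (π : G ⟶ H) [Epi π] (h : adequate A (kernel π)) :
    AdExt (kernel.ι π) π where
  inj := injective_of_mono _
  surj := surjective_of_epi π
  exact B y := (kernel_range π B y).symm
  adeq := h

lemma adExt_of_shortExact {S : ShortComplex (MVF A)} (hS : S.ShortExact) (h : adequate A S.X₁) :
    AdExt S.f S.g := by
  haveI := hS.mono_f
  haveI := hS.epi_g
  refine ⟨injective_of_mono _, surjective_of_epi _, fun B y => ⟨fun hy => ?_, ?_⟩, h⟩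
  · obtain ⟨w, hw⟩ := exists_kernel_lift S.g hy
    obtain ⟨l, hl⟩ := hS.exact.lift' (kernel.ι S.g) (kernel.condition S.g)
    exact ⟨appL l B w, by rw [← appL_comp, hl, hw]⟩
  · rintro ⟨w, rfl⟩
    rw [← appL_comp, S.zero, appL_zero]

lemma exists_lift_stdL {F G H : MVF A} {j : F ⟶ G} {π : G ⟶ H} (E : AdExt j π) {c : Mat A}
    (ψ : stdL c ⟶ H) : ∃ s : stdL c ⟶ G, s ≫ π = ψ :=
  exists_lift (stdBasis A c.1) (stdBasis A c.2.1) (stdMap c) E ψ

/-- Extensions of adequate functors are adequate. -/
theorem adequate_ext {S : ShortComplex (MVF A)} (hS : S.ShortExact) (h₁ : adequate A S.X₁)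
    (h₃ : adequate A S.X₃) : adequate A S.X₂ := by
  have E := adExt_of_shortExact hS h₁
  let T : Type (u + 1) := Σ B : Alg A, S.X₃.obj (pt B)
  choose c ψ w hw using fun t : T => exists_hit h₃ t.1 t.2
  choose s hs using fun t : T => exists_lift_stdL E (ψ t)
  set C := ∐ fun t : T => stdL (c t)
  have hC : adequate A C := adequate_sigma _ fun t => adequate_L _
  set ψ' : C ⟶ S.X₃ := Sigma.desc ψ
  set s' : C ⟶ S.X₂ := Sigma.desc s
  have hs' : s' ≫ S.g = ψ' := Sigma.hom_ext _ _ fun t => by simp [s', ψ', hs]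
  have hψ' : ∀ B, Function.Surjective (appL ψ' B) := fun B y =>
    ⟨appL (Sigma.ι (fun t : T => stdL (c t)) ⟨B, y⟩) B (w ⟨B, y⟩), by
      rw [← appL_comp, Sigma.ι_desc]
      exact hw ⟨B, y⟩⟩
  set p : S.X₁ ⊞ C ⟶ S.X₂ := biprod.desc S.f s'
  have hsq : biprod.snd ≫ ψ' = p ≫ S.g := by
    apply biprod.hom_ext' <;> simp [p, hs', S.zero]
  haveI : Epi p := epi_of_surjective p fun B y => by
    obtain ⟨z, hz⟩ := hψ' B (appL S.g B y)
    obtain ⟨x, hx⟩ := (E.exact B (y - appL s' B z)).mp (by
      rw [map_sub, ← appL_comp s', hs', hz, sub_self])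
    refine ⟨appL biprod.inl B x + appL biprod.inr B z, ?_⟩
    rw [map_add, ← appL_comp biprod.inl, ← appL_comp biprod.inr, biprod.inl_desc, biprod.inr_desc, hx, sub_add_cancel]
  let q : kernel p ⟶ kernel ψ' := kernel.lift ψ' (kernel.ι p ≫ biprod.snd) (by
    rw [Category.assoc, hsq, kernel.condition_assoc, zero_comp])
  haveI : IsIso q := isIso_of_bijective q fun B => by
    have hq : ∀ y, appL (kernel.ι ψ') B (appL q B y) = appL biprod.snd B (appL (kernel.ι p) B y) := by
      intro y
      rw [← appL_comp, ← appL_comp, kernel.lift_ι]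
    constructor
    · rw [injective_iff_map_eq_zero]
      intro y hy
      apply injective_of_mono (kernel.ι p) B
      rw [map_zero]
      have h2 := hq y
      rw [hy, map_zero] at h2
      set z := appL (kernel.ι p) B y with hz
      have ht : z = appL biprod.inl B (appL biprod.fst B z) + appL biprod.inr B (appL biprod.snd B z) := by
        rw [← appL_comp biprod.fst, ← appL_comp biprod.snd, ← appL_add, biprod.total, appL_id]
      have h3 : appL p B z = 0 := appL_kernel p B y
      rw [ht, ← h2, map_zero, add_zero, ← appL_comp biprod.inl, biprod.inl_desc] at h3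
      rw [ht, ← h2, E.inj B (h3.trans (map_zero _).symm), map_zero, map_zero, add_zero]
    · intro k
      set z := appL (kernel.ι ψ') B k with hz
      obtain ⟨x, hx⟩ := (E.exact B (appL s' B z)).mp (by
        rw [← appL_comp, hs']
        exact appL_kernel ψ' B k)
      obtain ⟨y, hy⟩ := exists_kernel_lift p (x := appL biprod.inr B z - appL biprod.inl B x) (by
        rw [map_sub, ← appL_comp biprod.inr p, ← appL_comp biprod.inl p, biprod.inl_desc, biprod.inr_desc, hx, sub_self])
      refine ⟨y, injective_of_mono (kernel.ι ψ') B ?_⟩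
      rw [hq, hy, map_sub, ← appL_comp biprod.inr, ← appL_comp biprod.inl, biprod.inr_snd, biprod.inl_snd, appL_id,
        appL_zero, sub_zero]
  have hker : adequate A (kernel p) :=
    adequate_of_iso (asIso q).symm (adequate_kernel ψ' hC h₃)
  haveI : IsIso (cokernel.desc (kernel.ι p) p (kernel.condition p)) :=
    isIso_of_bijective _ fun B => by
      constructor
      · rw [injective_iff_map_eq_zero]
        intro z hz
        obtain ⟨y, rfl⟩ := surjective_of_epi (cokernel.π (kernel.ι p)) B z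
        rw [← appL_comp, cokernel.π_desc] at hz
        exact (cokernel_ker _ B y).mpr (exists_kernel_lift p hz)
      · intro z
        obtain ⟨y, rfl⟩ := surjective_of_epi p B z
        exact ⟨appL (cokernel.π (kernel.ι p)) B y, by rw [← appL_comp, cokernel.π_desc]⟩
  exact adequate_of_iso (asIso (cokernel.desc (kernel.ι p) p (kernel.condition p)))
    (adequate_cokernel _ hker (adequate_biprod h₁ hC))

end Groth.Agent.AdeqLib
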