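import Groth.Agent.AdeqLib.SheafAffine
import Groth.Agent.AdeqLib.Cover
import Mathlib.Algebra.Category.ModuleCat.Presheaf.Colimits
import Mathlib.Algebra.Category.Grp.Abelian

/-!
Sheafification, cokernels and colimits of adequate modules.
-/

set_option autoImplicit false
set_option linter.style.haveILetI false
set_option backward.isDefEq.respectTransparency false
universe u

noncomputable section

namespace Groth.Agent.AdeqLib

open CategoryTheory Limits Opposite AlgebraicGeometry
open Adeq (MVF Alg pt adequate adequateMod toMVF toMVFPre specOver)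

local notation "Kf" => Scheme.fppfPrecoverage

variable {S : Scheme.{u}}

/-- The sheafification functor. -/
abbrev shf (S : Scheme.{u}) :
    PresheafOfModules.{u + 1} (BigSite.ORing Scheme.fppfPrecoverage S).obj ⥤ BigSite.Mod Scheme.fppfPrecoverage S :=
  PresheafOfModules.sheafification (𝟙 (BigSite.ORing Scheme.fppfPrecoverage S).obj)

theorem adequateMod_shf (P : PresheafOfModules.{u + 1} (BigSite.ORing Kf S).obj)
    (h : ∀ (R : CommRingCat.{u}) (a : Spec R ⟶ S), adequate R ((toMVFPre Kf a).obj P)) :
    adequateMod Kf S ((shf S).obj P) := by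
  let η : P ⟶ ((shf S).obj P).val :=
    (PresheafOfModules.sheafificationAdjunction (𝟙 (BigSite.ORing Kf S).obj)).unit.app P
  haveI : Presheaf.IsLocallyInjective (QuotSh.J Kf S) ((PresheafOfModules.toPresheaf _).map η) :=
    inferInstanceAs (Presheaf.IsLocallyInjective (QuotSh.J Kf S) (CategoryTheory.toSheafify (QuotSh.J Kf S) P.presheaf))
  haveI : Presheaf.IsLocallySurjective (QuotSh.J Kf S) ((PresheafOfModules.toPresheaf _).map η) :=
    inferInstanceAs (Presheaf.IsLocallySurjective (QuotSh.J Kf S) (CategoryTheory.toSheafify (QuotSh.J Kf S) P.presheaf))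
  exact adequateMod_of_locallyBijective P _ η h

/-- A sheaf is the sheafification of its underlying presheaf. -/
def shfIso (S : Scheme.{u}) : SheafOfModules.forget (BigSite.ORing Scheme.fppfPrecoverage S) ⋙ shf S ≅
    𝟭 (BigSite.Mod Scheme.fppfPrecoverage S) :=
  asIso (PresheafOfModules.sheafificationAdjunction (𝟙 (BigSite.ORing Scheme.fppfPrecoverage S).obj)).counit

section Colimits

variable {R : CommRingCat.{u}} (a : Spec R ⟶ S) (J : Type (u + 1)) [SmallCategory J]

/-- Underlying abelian presheaves of the functors of sections. -/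
def toMVFPreCompToPresheaf : toMVFPre Kf a ⋙ PresheafOfModules.toPresheaf (Adeq.ringOf R) ≅
    PresheafOfModules.toPresheaf (BigSite.ORing Kf S).obj ⋙
      (Functor.whiskeringLeft _ _ _).obj (specOver a).op :=
  Iso.refl _

instance toMVFPre_preservesColimits : PreservesColimitsOfShape J (toMVFPre Kf a) := by
  haveI : PreservesColimitsOfShape J (toMVFPre Kf a ⋙ PresheafOfModules.toPresheaf (Adeq.ringOf R)) :=
    preservesColimitsOfShape_of_natIso (toMVFPreCompToPresheaf a).symm
  haveI : ReflectsColimitsOfShape J (PresheafOfModules.toPresheaf.{u + 1} (Adeq.ringOf (R : Type u))) :=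
    reflectsColimitsOfShape_of_reflectsIsomorphisms
  exact preservesColimitsOfShape_of_reflects_of_preserves _
    (PresheafOfModules.toPresheaf (Adeq.ringOf R))

end Colimits

/-- Colimits of adequate modules are adequate. -/
theorem adequateMod_colimit {J : Type (u + 1)} [SmallCategory J] (D : J ⥤ BigSite.Mod Kf S)
    (hD : ∀ j, adequateMod Kf S (D.obj j)) : adequateMod Kf S (colimit D) := by
  let D' := D ⋙ SheafOfModules.forget (BigSite.ORing Kf S)
  have h : adequateMod Kf S ((shf S).obj (colimit D')) := adequateMod_shf _ fun R a =>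
    adequate_of_iso (preservesColimitIso (toMVFPre Kf a) D').symm
      (adequate_colim _ fun j => adequate_toMVF_fppf (D.obj j) (hD j) a)
  exact (adequateMod Kf S).prop_of_iso ((preservesColimitIso (shf S) D') ≪≫
    HasColimit.isoOfNatIso (Functor.associator _ _ _ ≪≫ Functor.isoWhiskerLeft D (shfIso S) ≪≫ D.rightUnitor)) h

/-- Cokernels of maps of adequate modules are adequate. -/
theorem adequateMod_cokernel {M N : BigSite.Mod Kf S} (φ : M ⟶ N) (hM : adequateMod Kf S M)
    (hN : adequateMod Kf S N) : adequateMod Kf S (cokernel φ) := by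
  let φ' := (SheafOfModules.forget (BigSite.ORing Kf S)).map φ
  haveI : (shf S).PreservesZeroMorphisms :=
    Functor.preservesZeroMorphisms_of_isLeftAdjoint _
  have h : adequateMod Kf S ((shf S).obj (cokernel φ')) := adequateMod_shf _ fun R a => by
    haveI : PreservesColimitsOfShape WalkingParallelPair (toMVFPre Kf a) := by
      haveI : PreservesColimitsOfShape (AsSmall.{u + 1} WalkingParallelPair) (toMVFPre Kf a) := inferInstance
      exact preservesColimitsOfShape_of_equiv AsSmall.equiv.symm _
    exact adequate_of_iso (PreservesCokernel.iso (toMVFPre Kf a) φ').symm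
      ((adequate_cokernel _ (adequate_toMVF_fppf M hM a) (adequate_toMVF_fppf N hN a)))
  exact (adequateMod Kf S).prop_of_iso ((PreservesCokernel.iso (shf S) φ') ≪≫
    cokernel.mapIso ((shf S).map φ') φ ((shfIso S).app M) ((shfIso S).app N)
      ((shfIso S).hom.naturality φ)) h

end Groth.Agent.AdeqLib
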