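import Groth.Prelude.Def_Adeq
import Groth.Agent.MVFGro.Basic
import Mathlib.Algebra.Category.ModuleCat.Presheaf.EpiMono
import Mathlib.CategoryTheory.Abelian.Basic
import Mathlib.LinearAlgebra.TensorProduct.RightExactness
import Mathlib.LinearAlgebra.Prod

/-!
Elementwise calculus of module-valued functors and the basic criterion for adequacy: a functor
embedded in `underline M` with image `g(ker a)` is adequate.
-/

set_option autoImplicit false
set_option linter.style.haveILetI false
set_option backward.isDefEq.respectTransparency false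
universe u

noncomputable section

namespace Groth.Agent.AdeqLib

open CategoryTheory Limits Opposite TensorProduct
open Adeq (MVF Alg pt ptHom underline adequate linAdequate)

variable {A : Type u} [CommRing A]

/-- The transition map of a module-valued functor. -/
def mp (F : MVF A) {B B' : Alg A} (f : B ⟶ B') : F.obj (pt B) →+ F.obj (pt B') where
  toFun := fun x => F.map (ptHom f) x
  map_zero' := map_zero (F.map (ptHom f)).hom
  map_add' := map_add (F.map (ptHom f)).hom

lemma mp_smul (F : MVF A) {B B' : Alg A} (f : B ⟶ B') (b : B) (x : F.obj (pt B)) :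
    mp F f (b • x) = f.hom b • mp F f x :=
  PresheafOfModules.map_smul F (ptHom f) b x

lemma mp_id (F : MVF A) (B : Alg A) (x : F.obj (pt B)) : mp F (𝟙 B) x = x := by
  change F.map (𝟙 (pt B)) x = x
  rw [F.map_id]
  rfl

lemma mp_comp (F : MVF A) {B B' B'' : Alg A} (f : B ⟶ B') (g : B' ⟶ B'') (x : F.obj (pt B)) :
    mp F (f ≫ g) x = mp F g (mp F f x) :=
  PresheafOfModules.map_comp_apply F (ptHom f) (ptHom g) x

/-- The component of a morphism. -/
def appL {F G : MVF A} (φ : F ⟶ G) (B : Alg A) : F.obj (pt B) →ₗ[B] G.obj (pt B) where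
  toFun := fun x => φ.app (pt B) x
  map_add' := map_add (φ.app (pt B)).hom
  map_smul' := fun b x => (φ.app (pt B)).hom.map_smul b x

lemma appL_mp {F G : MVF A} (φ : F ⟶ G) {B B' : Alg A} (f : B ⟶ B') (x : F.obj (pt B)) :
    appL φ B' (mp F f x) = mp G f (appL φ B x) :=
  PresheafOfModules.naturality_apply φ (ptHom f) x

@[simp] lemma appL_comp {F G H : MVF A} (φ : F ⟶ G) (ψ : G ⟶ H) (B : Alg A) (x : F.obj (pt B)) :
    appL (φ ≫ ψ) B x = appL ψ B (appL φ B x) := rfl

@[simp] lemma appL_id (F : MVF A) (B : Alg A) (x : F.obj (pt B)) : appL (𝟙 F) B x = x := rfl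

@[simp] lemma appL_zero {F G : MVF A} (B : Alg A) (x : F.obj (pt B)) :
    appL (0 : F ⟶ G) B x = 0 := rfl

@[simp] lemma appL_add {F G : MVF A} (φ ψ : F ⟶ G) (B : Alg A) (x : F.obj (pt B)) :
    appL (φ + ψ) B x = appL φ B x + appL ψ B x := rfl

@[simp] lemma appL_sub {F G : MVF A} (φ ψ : F ⟶ G) (B : Alg A) (x : F.obj (pt B)) :
    appL (φ - ψ) B x = appL φ B x - appL ψ B x := rfl

lemma hom_ext {F G : MVF A} {φ ψ : F ⟶ G} (h : ∀ B x, appL φ B x = appL ψ B x) : φ = ψ := by
  ext X x
  obtain ⟨⟨B⟩⟩ := X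
  exact h B x

/-- A morphism from natural linear maps. -/
def mkHom {F G : MVF A} (app : ∀ B : Alg A, F.obj (pt B) →ₗ[B] G.obj (pt B))
    (nat : ∀ {B B' : Alg A} (f : B ⟶ B') (x : F.obj (pt B)), app B' (mp F f x) = mp G f (app B x)) :
    F ⟶ G :=
  PresheafOfModules.homMk
    { app := fun X => AddCommGrpCat.ofHom (app X.unop.unop).toAddMonoidHom
      naturality := fun X Y f => by
        apply AddCommGrpCat.ext
        intro x
        exact nat f.unop.unop x }
    (fun X r m => (app X.unop.unop).map_smul r m)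

@[simp] lemma appL_mkHom {F G : MVF A} (app : ∀ B : Alg A, F.obj (pt B) →ₗ[B] G.obj (pt B))
    (nat : ∀ {B B' : Alg A} (f : B ⟶ B') (x : F.obj (pt B)), app B' (mp F f x) = mp G f (app B x))
    (B : Alg A) (x : F.obj (pt B)) : appL (mkHom app nat) B x = app B x := rfl

lemma injective_of_mono {F G : MVF A} (φ : F ⟶ G) [Mono φ] (B : Alg A) :
    Function.Injective (appL φ B) :=
  PresheafOfModules.injective_of_mono φ (X := pt B)

lemma surjective_of_epi {F G : MVF A} (φ : F ⟶ G) [Epi φ] (B : Alg A) :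
    Function.Surjective (appL φ B) :=
  PresheafOfModules.surjective_of_epi φ (X := pt B)

lemma mono_of_injective {F G : MVF A} (φ : F ⟶ G) (h : ∀ B, Function.Injective (appL φ B)) :
    Mono φ :=
  PresheafOfModules.mono_of_injective (fun {X} => h X.unop.unop)

lemma epi_of_surjective {F G : MVF A} (φ : F ⟶ G) (h : ∀ B, Function.Surjective (appL φ B)) :
    Epi φ :=
  PresheafOfModules.epi_of_surjective (fun {X} => h X.unop.unop)

lemma isIso_of_bijective {F G : MVF A} (φ : F ⟶ G) (h : ∀ B, Function.Bijective (appL φ B)) :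
    IsIso φ := by
  haveI := mono_of_injective φ fun B => (h B).1
  haveI := epi_of_surjective φ fun B => (h B).2
  exact isIso_of_mono_of_epi φ

/-- An element killed by `φ` comes from the kernel. -/
lemma exists_kernel_lift {F G : MVF A} (φ : F ⟶ G) {B : Alg A} {x : F.obj (pt B)}
    (hx : appL φ B x = 0) : ∃ y, appL (kernel.ι φ) B y = x := by
  have h0 : MVFGro.hom x ≫ φ = 0 := by
    refine hom_ext fun Y m => ?_
    change appL φ Y (MVFGro.homApp x Y m) = 0
    induction m using Finsupp.induction_linear with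
    | zero => rw [map_zero, map_zero]
    | add a b ha hb => rw [map_add, map_add, ha, hb, add_zero]
    | single h r =>
      rw [MVFGro.homApp_single, map_smul]
      change r.down • appL φ Y (mp F h x) = 0
      rw [appL_mp, hx, map_zero, smul_zero]
  refine ⟨appL (kernel.lift φ (MVFGro.hom x) h0) B (Finsupp.single (𝟙 B) (ULift.up 1)), ?_⟩
  rw [← appL_comp, kernel.lift_ι]
  exact MVFGro.hom_self x

lemma appL_kernel {F G : MVF A} (φ : F ⟶ G) (B : Alg A) (y : (kernel φ).obj (pt B)) :
    appL φ B (appL (kernel.ι φ) B y) = 0 := by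
  rw [← appL_comp, kernel.condition, appL_zero]

lemma kernel_range {F G : MVF A} (φ : F ⟶ G) (B : Alg A) (x : F.obj (pt B)) :
    (∃ y, appL (kernel.ι φ) B y = x) ↔ appL φ B x = 0 :=
  ⟨fun ⟨y, hy⟩ => hy ▸ appL_kernel φ B y, exists_kernel_lift φ⟩

lemma cokernel_ker {F G : MVF A} (φ : F ⟶ G) (B : Alg A) (x : G.obj (pt B)) :
    appL (cokernel.π φ) B x = 0 ↔ ∃ y, appL φ B y = x := by
  constructor
  · intro h
    obtain ⟨z, hz⟩ := exists_kernel_lift _ h
    obtain ⟨y, hy⟩ := surjective_of_epi (Abelian.factorThruImage φ) B z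
    refine ⟨y, ?_⟩
    rw [← hz, ← hy, ← appL_comp, Abelian.image.fac]
  · rintro ⟨y, rfl⟩
    rw [← appL_comp, cokernel.condition, appL_zero]

/-- Factor through an injective map. -/
lemma exists_factor {F G H : MVF A} (ι : G ⟶ H) (hι : ∀ B, Function.Injective (appL ι B))
    (φ : F ⟶ H) (h : ∀ B x, ∃ y, appL ι B y = appL φ B x) : ∃ l : F ⟶ G, l ≫ ι = φ := by
  haveI := mono_of_injective ι hι
  have h0 : φ ≫ cokernel.π ι = 0 := hom_ext fun B x => by
    rw [appL_comp, appL_zero]
    exact (cokernel_ker ι B _).mpr (h B x)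
  exact ⟨Abelian.monoLift ι φ h0, Abelian.monoLift_comp _ _ _⟩

/-! ### Functors of the form `underline M` -/

/-- The value of `underline M` as a tensor product. -/
def uEquiv (M : ModuleCat.{u + 1} A) (B : Alg A) :
    ((underline A).obj M).obj (pt B) ≃ₗ[B] (B : Type u) ⊗[A] M where
  toFun := fun x => x
  invFun := fun x => x
  map_add' := fun _ _ => rfl
  map_smul' := fun _ _ => rfl
  left_inv := fun _ => rfl
  right_inv := fun _ => rfl

/-- A morphism to `underline M` on values. -/
def toU {F : MVF A} {M : ModuleCat.{u + 1} A} (φ : F ⟶ (underline A).obj M) (B : Alg A) :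
    F.obj (pt B) →ₗ[B] (B : Type u) ⊗[A] M :=
  (uEquiv M B).toLinearMap ∘ₗ appL φ B

lemma toU_mp {F : MVF A} {M : ModuleCat.{u + 1} A} (φ : F ⟶ (underline A).obj M) {B B' : Alg A}
    (f : B ⟶ B') (x : F.obj (pt B)) :
    toU φ B' (mp F f x) = f.hom.toLinearMap.rTensor M (toU φ B x) :=
  appL_mp φ f x

@[simp] lemma toU_comp {F G : MVF A} {M : ModuleCat.{u + 1} A} (ψ : F ⟶ G)
    (φ : G ⟶ (underline A).obj M) (B : Alg A) (x : F.obj (pt B)) :
    toU (ψ ≫ φ) B x = toU φ B (appL ψ B x) := rfl

@[simp] lemma toU_map {F : MVF A} {M N : ModuleCat.{u + 1} A} (φ : F ⟶ (underline A).obj M)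
    (g : M ⟶ N) (B : Alg A) (x : F.obj (pt B)) :
    toU (φ ≫ (underline A).map g) B x = g.hom.baseChange B (toU φ B x) := rfl

@[simp] lemma toU_add {F : MVF A} {M : ModuleCat.{u + 1} A} (φ ψ : F ⟶ (underline A).obj M)
    (B : Alg A) (x : F.obj (pt B)) : toU (φ + ψ) B x = toU φ B x + toU ψ B x := rfl

@[simp] lemma toU_zero {F : MVF A} {M : ModuleCat.{u + 1} A}
    (B : Alg A) (x : F.obj (pt B)) : toU (0 : F ⟶ (underline A).obj M) B x = 0 := rfl

lemma toU_injective {F : MVF A} {M : ModuleCat.{u + 1} A} (φ : F ⟶ (underline A).obj M)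
    (B : Alg A) : Function.Injective (toU φ B) ↔ Function.Injective (appL φ B) := Iff.rfl

lemma homU_ext {F : MVF A} {M : ModuleCat.{u + 1} A} {φ ψ : F ⟶ (underline A).obj M}
    (h : ∀ B x, toU φ B x = toU ψ B x) : φ = ψ := hom_ext h

lemma rTensor_smul {M : ModuleCat.{u + 1} A} {B B' : Alg A} (f : B ⟶ B') (b : B)
    (x : (B : Type u) ⊗[A] M) :
    f.hom.toLinearMap.rTensor M (b • x) = f.hom b • f.hom.toLinearMap.rTensor M x :=
  mp_smul ((underline A).obj M) f b x

lemma rTensor_baseChange {M N : ModuleCat.{u + 1} A} {B B' : Alg A} (l : (B : Type u) →ₗ[A] B')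
    (g : M →ₗ[A] N) (x : (B : Type u) ⊗[A] M) :
    l.rTensor N (g.baseChange B x) = g.baseChange B' (l.rTensor M x) := by
  induction x using TensorProduct.induction_on with
  | zero => simp
  | tmul b m => simp
  | add x y hx hy => simp [map_add, hx, hy]

/-- An adequate functor embeds in some `underline M` with image the kernel of `underline n`. -/
theorem exists_emb {F : MVF A} (h : adequate A F) :
    ∃ (M N : ModuleCat.{u + 1} A) (n : M ⟶ N) (ι : F ⟶ (underline A).obj M),
      (∀ B, Function.Injective (toU ι B)) ∧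
        ∀ B x, (∃ y, toU ι B y = x) ↔ n.hom.baseChange B x = 0 := by
  obtain ⟨M, N, n, ⟨e⟩⟩ := h
  refine ⟨M, N, n, e.hom ≫ kernel.ι _, fun B => ?_, fun B x => ?_⟩
  · exact injective_of_mono (e.hom ≫ kernel.ι _) B
  · refine Iff.trans ?_ (kernel_range ((underline A).map n) B x)
    constructor
    · rintro ⟨y, hy⟩; exact ⟨appL e.hom B y, hy⟩
    · rintro ⟨y, hy⟩
      refine ⟨appL e.inv B y, ?_⟩
      change appL (kernel.ι _) B (appL e.hom B (appL e.inv B y)) = x
      rw [← appL_comp e.inv e.hom, e.inv_hom_id, appL_id]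
      exact hy

/-- A functor embedded in `underline M` as the kernel of `underline n` is adequate. -/
theorem adequate_of_emb {F : MVF A} {M N : ModuleCat.{u + 1} A} (n : M ⟶ N)
    (ι : F ⟶ (underline A).obj M) (hι : ∀ B, Function.Injective (toU ι B))
    (h : ∀ B x, (∃ y, toU ι B y = x) ↔ n.hom.baseChange B x = 0) : adequate A F := by
  have h0 : ι ≫ (underline A).map n = 0 := homU_ext fun B x => by
    rw [toU_map, toU_zero]
    exact (h B _).mp ⟨x, rfl⟩
  haveI : IsIso (kernel.lift _ ι h0) := isIso_of_bijective _ fun B => by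
    constructor
    · intro x y hxy
      apply hι B
      have := congrArg (appL (kernel.ι ((underline A).map n)) B) hxy
      rwa [← appL_comp, ← appL_comp, kernel.lift_ι] at this
    · intro z
      obtain ⟨y, hy⟩ := (h B _).mpr (appL_kernel ((underline A).map n) B z)
      refine ⟨y, injective_of_mono (kernel.ι ((underline A).map n)) B ?_⟩
      rw [← appL_comp, kernel.lift_ι]
      exact hy
  exact ⟨M, N, n, ⟨asIso (kernel.lift _ ι h0)⟩⟩

/-- `g` carries `ker a` onto the subset. -/
def IsImg {P P' M : ModuleCat.{u + 1} A} (a : P ⟶ P') (g : P ⟶ M) (B : Alg A)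
    (S : (B : Type u) ⊗[A] M → Prop) : Prop :=
  ∀ x, S x ↔ ∃ v, a.hom.baseChange B v = 0 ∧ g.hom.baseChange B v = x

variable {P P' : ModuleCat.{u + 1} A}

/-- The module `coker (a, g)` and the map to it. -/
def imgTarget {M : ModuleCat.{u + 1} A} (a : P ⟶ P') (g : P ⟶ M) : ModuleCat.{u + 1} A :=
  ModuleCat.of A ((P' × M) ⧸ LinearMap.range (a.hom.prod g.hom))

/-- The map `M ⟶ coker (a, g)`. -/
def imgMap {M : ModuleCat.{u + 1} A} (a : P ⟶ P') (g : P ⟶ M) : M ⟶ imgTarget a g :=
  ModuleCat.ofHom ((LinearMap.range (a.hom.prod g.hom)).mkQ ∘ₗ LinearMap.inr A P' M)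

lemma imgMap_ker {M : ModuleCat.{u + 1} A} (a : P ⟶ P') (g : P ⟶ M) (B : Alg A)
    (x : (B : Type u) ⊗[A] M) :
    (imgMap a g).hom.baseChange B x = 0 ↔
      ∃ v, a.hom.baseChange B v = 0 ∧ g.hom.baseChange B v = x := by
  have hex : Function.Exact ((a.hom.prod g.hom).baseChange B)
      ((LinearMap.range (a.hom.prod g.hom)).mkQ.baseChange B) := by
    have := lTensor_exact (R := A) (Q := (B : Type u)) (LinearMap.exact_map_mkQ_range (a.hom.prod g.hom))
      (Submodule.mkQ_surjective _)
    exact this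
  have hsplit : ∀ v, (a.hom.prod g.hom).baseChange B v =
      (LinearMap.inl A P' M).baseChange B (a.hom.baseChange B v) +
        (LinearMap.inr A P' M).baseChange B (g.hom.baseChange B v) := by
    intro v
    rw [← LinearMap.comp_apply, ← LinearMap.baseChange_comp, ← LinearMap.comp_apply,
      ← LinearMap.baseChange_comp, ← LinearMap.add_apply, ← LinearMap.baseChange_add]
    congr 1
    ext p <;> simp [← TensorProduct.tmul_add]
  have e : (imgMap a g).hom.baseChange B x =
      (LinearMap.range (a.hom.prod g.hom)).mkQ.baseChange B ((LinearMap.inr A P' M).baseChange B x) := by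
    change ((LinearMap.range (a.hom.prod g.hom)).mkQ ∘ₗ LinearMap.inr A P' M).baseChange B x = _
    rw [LinearMap.baseChange_comp]
    rfl
  rw [e, hex _]
  constructor
  · rintro ⟨v, hv⟩
    rw [hsplit] at hv
    have h1 := congrArg ((LinearMap.fst A P' M).baseChange B) hv
    have h2 := congrArg ((LinearMap.snd A P' M).baseChange B) hv
    simp only [map_add, ← LinearMap.comp_apply, ← LinearMap.baseChange_comp,
      LinearMap.fst_comp_inl, LinearMap.fst_comp_inr, LinearMap.snd_comp_inl, LinearMap.snd_comp_inr,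
      LinearMap.baseChange_id, LinearMap.baseChange_zero, LinearMap.zero_apply, add_zero, zero_add,
      LinearMap.id_comp, LinearMap.zero_comp, LinearMap.id_apply, ← LinearMap.comp_assoc] at h1 h2
    exact ⟨v, h1, h2⟩
  · rintro ⟨v, h1, h2⟩
    exact ⟨v, by rw [hsplit, h1, h2, map_zero, zero_add]⟩

/-- The master criterion: a subfunctor of `underline M` of the form `g (ker a)` is adequate. -/
theorem adequate_of_img {F : MVF A} {M : ModuleCat.{u + 1} A} (a : P ⟶ P') (g : P ⟶ M)
    (ι : F ⟶ (underline A).obj M) (hι : ∀ B, Function.Injective (toU ι B))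
    (h : ∀ B, IsImg a g B fun x => ∃ y, toU ι B y = x) : adequate A F :=
  adequate_of_emb (imgMap a g) ι hι fun B x => (h B x).trans (imgMap_ker a g B x).symm

end Groth.Agent.AdeqLib
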