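import Groth.Agent.AdeqLib.Cover
import Mathlib.CategoryTheory.Adjunction.Comma
import Mathlib.CategoryTheory.Preadditive.Injective.Basic

/-!
The coreflector onto adequate functors.
-/

set_option autoImplicit false
set_option linter.style.haveILetI false
set_option backward.isDefEq.respectTransparency false
universe u

noncomputable section

namespace Groth.Agent.AdeqLib

open CategoryTheory Limits Opposite TensorProduct
open Adeq (MVF Alg pt ptHom underline adequate linAdequate)

variable {A : Type u} [CommRing A]

instance hasColimits_mvf : HasColimitsOfSize.{u + 1, u + 1} (MVF A) :=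
  PresheafOfModules.hasColimitsOfSize.{u + 1} (Adeq.ringOf A)

instance (priority := 2000) hasCoproduct_mvf {T : Type (u + 1)} (F : T → MVF A) : HasCoproduct F :=
  hasColimits_mvf.has_colimits_of_shape (Discrete T) |>.has_colimit _

/-- Coproducts in `MVF A`. -/
abbrev sig' {T : Type (u + 1)} (F : T → MVF A) : MVF A := sigmaObj F

/-- All morphisms from standard linearly adequate functors. -/
abbrev Idx (F : MVF A) : Type (u + 1) := Σ c : Mat A, stdL c ⟶ F

/-- Their sources, summed. -/
abbrev cov (F : MVF A) : MVF A := sig' fun t : Idx F => stdL t.1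

/-- The tautological map. -/
abbrev covMap (F : MVF A) : cov F ⟶ F := Sigma.desc fun t => t.2

lemma adequate_cov (F : MVF A) : adequate A (cov F) := adequate_sigma _ fun _ => adequate_L _

lemma epi_covMap {F : MVF A} (hF : adequate A F) : Epi (covMap F) :=
  epi_of_surjective _ fun B y => by
    obtain ⟨c, ψ, w, hw⟩ := exists_hit hF B y
    refine ⟨appL (Sigma.ι (fun t : Idx F => stdL t.1) ⟨c, ψ⟩) B w, ?_⟩
    rw [← appL_comp, Sigma.ι_desc]
    exact hw

variable (F : MVF A)

/-- The map whose image is the part of the kernel covered by adequate functors. -/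
abbrev relMap : cov (kernel (covMap F)) ⟶ cov F := covMap _ ≫ kernel.ι (covMap F)

/-- The coreflection. -/
abbrev Q : MVF A := cokernel (relMap F)

lemma adequate_Q : adequate A (Q F) :=
  adequate_cokernel _ (adequate_cov _) (adequate_cov _)

/-- The counit. -/
abbrev eps : Q F ⟶ F := cokernel.desc (relMap F) (covMap F) (by
  rw [Category.assoc, kernel.condition, comp_zero])

variable {F}

lemma eq_zero_of_comp_eps {X : MVF A} (hX : adequate A X) (h : X ⟶ Q F) (h0 : h ≫ eps F = 0) :
    h = 0 := by
  haveI := epi_covMap hX
  rw [← cancel_epi (covMap X), comp_zero]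
  refine Sigma.hom_ext _ _ fun t => ?_
  rw [Sigma.ι_desc_assoc, comp_zero]
  have E := adExt_of_epi (cokernel.π (relMap F))
    (adequate_kernel _ (adequate_cov F) (adequate_Q F))
  obtain ⟨u', hu'⟩ := exists_lift_stdL E (t.2 ≫ h)
  have hk : u' ≫ covMap F = 0 := by
    rw [← cokernel.π_desc (relMap F) (covMap F) (by rw [Category.assoc, kernel.condition, comp_zero]),
      reassoc_of% hu']
    change t.2 ≫ h ≫ eps F = 0
    rw [h0, comp_zero]
  have hu : u' = Sigma.ι (fun t : Idx (kernel (covMap F)) => stdL t.1) ⟨t.1, kernel.lift _ u' hk⟩ ≫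
      relMap F := by
    rw [Sigma.ι_desc_assoc, kernel.lift_ι]
  rw [← hu', hu, Category.assoc, cokernel.condition, comp_zero]

lemma hom_ext_eps {X : MVF A} (hX : adequate A X) {h h' : X ⟶ Q F} (e : h ≫ eps F = h' ≫ eps F) :
    h = h' :=
  sub_eq_zero.mp (eq_zero_of_comp_eps hX _ (by rw [Preadditive.sub_comp, e, sub_self]))

lemma exists_lift_eps {X : MVF A} (hX : adequate A X) (g : X ⟶ F) : ∃ h : X ⟶ Q F, h ≫ eps F = g := by
  haveI := epi_covMap hX
  let g' : cov X ⟶ Q F :=
    (Sigma.desc fun t : Idx X => Sigma.ι (fun t : Idx F => stdL t.1) ⟨t.1, t.2 ≫ g⟩) ≫ cokernel.π (relMap F)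
  have hg' : g' ≫ eps F = covMap X ≫ g := by
    refine Sigma.hom_ext _ _ fun t => ?_
    simp [g']
  have h0 : kernel.ι (covMap X) ≫ g' = 0 :=
    eq_zero_of_comp_eps (adequate_kernel _ (adequate_cov X) hX) _ (by
      rw [Category.assoc, hg', kernel.condition_assoc, zero_comp])
  refine ⟨Abelian.epiDesc (covMap X) g' h0, ?_⟩
  rw [← cancel_epi (covMap X), Abelian.comp_epiDesc_assoc, hg']

theorem isLeftAdjoint_ι (A : Type u) [CommRing A] : (adequate A).ι.IsLeftAdjoint := by
  have hT : ∀ F : MVF A, HasTerminal (CostructuredArrow (adequate A).ι F) := fun F => by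
    let T : CostructuredArrow (adequate A).ι F :=
      CostructuredArrow.mk (Y := (⟨Q F, adequate_Q F⟩ : Adeq.Adequate A))
        (show (adequate A).ι.obj ⟨Q F, adequate_Q F⟩ ⟶ F from eps F)
    have : IsTerminal T := by
      refine IsTerminal.ofUniqueHom (fun X => ?_) (fun X m => ?_)
      · exact CostructuredArrow.homMk
          (ObjectProperty.homMk (exists_lift_eps X.left.property X.hom).choose)
          (by exact (exists_lift_eps X.left.property X.hom).choose_spec)
      · apply CostructuredArrow.hom_ext
        apply ObjectProperty.hom_ext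
        exact hom_ext_eps X.left.property ((CostructuredArrow.w m).trans
          (exists_lift_eps X.left.property X.hom).choose_spec.symm)
    exact this.hasTerminal
  haveI := hT
  exact isLeftAdjoint_of_costructuredArrowTerminals _

theorem enoughInjectives (A : Type u) [CommRing A] : EnoughInjectives (Adeq.Adequate A) := by
  haveI := isLeftAdjoint_ι A
  haveI : (adequate A).ι.PreservesMonomorphisms := ⟨fun {X Y} f hf => by
    refine Preadditive.mono_of_kernel_zero ?_
    let K : Adeq.Adequate A := ⟨kernel f.hom, adequate_kernel f.hom X.property Y.property⟩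
    let k : K ⟶ X := ObjectProperty.homMk (kernel.ι f.hom)
    have : k = 0 := by
      rw [← cancel_mono f, zero_comp]
      exact ObjectProperty.hom_ext _ (kernel.condition f.hom)
    exact congrArg ((adequate A).ι.map) this⟩
  haveI : EnoughInjectives (MVF A) := inferInstance
  refine ⟨fun X => ?_⟩
  let adj := Adjunction.ofIsLeftAdjoint (adequate A).ι
  let J := Injective.under ((adequate A).ι.obj X)
  haveI : (adequate A).ι.rightAdjoint.obj J |> Injective := adj.map_injective J inferInstance
  refine ⟨⟨(adequate A).ι.rightAdjoint.obj J, inferInstance, adj.homEquiv _ _ (Injective.ι _), ?_⟩⟩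
  haveI : Mono ((adequate A).ι.map (adj.homEquiv X J (Injective.ι ((adequate A).ι.obj X))) ≫ adj.counit.app J) := by
    have e := (adj.homEquiv X J).symm_apply_apply (Injective.ι ((adequate A).ι.obj X))
    rw [Adjunction.homEquiv_counit] at e
    rw [e]
    infer_instance
  exact (adequate A).ι.mono_of_mono_map (mono_of_mono _ (adj.counit.app J))

end Groth.Agent.AdeqLib
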