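import Groth.Agent.AdeqLib.Props

/-!
Descent of adequacy along a finite family of algebras.
-/

set_option autoImplicit false
set_option linter.style.haveILetI false
set_option backward.isDefEq.respectTransparency false
universe u

noncomputable section

namespace Groth.Agent.AdeqLib

open CategoryTheory Limits Opposite TensorProduct
open Adeq (MVF Alg pt ptHom underline adequate linAdequate)

variable {A : Type u} [CommRing A]

/-- A functor embedded in an adequate one as the common kernel of a finite family of maps to adequate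
functors is adequate. -/
theorem adequate_of_kernels {F G : MVF A} {n : ℕ} (H : Fin n → MVF A) (d : ∀ i, G ⟶ H i)
    (hG : adequate A G) (hH : ∀ i, adequate A (H i)) (ι : F ⟶ G)
    (hinj : ∀ B, Function.Injective (appL ι B))
    (hran : ∀ B x, (∃ y, appL ι B y = x) ↔ ∀ i, appL (d i) B x = 0) : adequate A F := by
  induction n generalizing G with
  | zero =>
    haveI : IsIso ι := isIso_of_bijective _ fun B =>
      ⟨hinj B, fun x => (hran B x).mpr fun i => i.elim0⟩
    exact adequate_of_iso (asIso ι).symm hG
  | succ n ih =>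
    obtain ⟨l, hl⟩ := exists_factor (kernel.ι (d 0)) (fun B => injective_of_mono _ B) ι fun B x =>
      exists_kernel_lift _ ((hran B _).mp ⟨x, rfl⟩ 0)
    refine ih (fun i => H i.succ) (fun i => kernel.ι (d 0) ≫ d i.succ) (adequate_kernel _ hG (hH 0))
      (fun i => hH i.succ) l (fun B x y h => hinj B (by rw [← hl, appL_comp, appL_comp, h])) fun B x => ?_
    constructor
    · rintro ⟨y, rfl⟩ i
      rw [appL_comp, ← appL_comp l, hl]
      exact (hran B _).mp ⟨y, rfl⟩ i.succ
    · intro h
      obtain ⟨y, hy⟩ := (hran B (appL (kernel.ι (d 0)) B x)).mpr fun i => by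
        refine Fin.cases ?_ (fun i => ?_) i
        · exact appL_kernel _ B x
        · exact h i
      exact ⟨y, injective_of_mono (kernel.ι (d 0)) B (by rw [← appL_comp, hl, hy])⟩

/-- A functor embedded in a finite product of adequate functors as the common kernel of finitely many maps
out of the factors is adequate. -/
theorem adequate_of_finite_equalizer {F : MVF A} {n : ℕ} (G : Fin n → MVF A) (H : Fin n → Fin n → MVF A)
    (hG : ∀ i, adequate A (G i)) (hH : ∀ i j, adequate A (H i j)) (η : ∀ i, F ⟶ G i)
    (p : ∀ i j, G i ⟶ H i j) (q : ∀ i j, G j ⟶ H i j)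
    (hinj : ∀ B x y, (∀ i, appL (η i) B x = appL (η i) B y) → x = y)
    (hcomp : ∀ i j B x, appL (p i j) B (appL (η i) B x) = appL (q i j) B (appL (η j) B x))
    (hglue : ∀ (B : Alg A) (y : ∀ i, (G i).obj (pt B)),
      (∀ i j, appL (p i j) B (y i) = appL (q i j) B (y j)) → ∃ x, ∀ i, appL (η i) B x = y i) :
    adequate A F := by
  classical
  haveI := HasFiniteBiproducts.of_hasFiniteProducts (C := MVF A)
  let P := ⨁ G
  have hP : adequate A P :=
    adequate_of_iso (biproduct.isoCoproduct G).symm
      (adequate_of_iso (Sigma.whiskerEquiv (g := fun t : ULift.{u + 1} (Fin n) => G t.down) (f := G)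
        Equiv.ulift.symm (fun _ => Iso.refl _)).symm (adequate_sigma _ fun t => hG t.down))
  let e := finProdFinEquiv (m := n) (n := n)
  let d : ∀ k : Fin (n * n), P ⟶ H (e.symm k).1 (e.symm k).2 := fun k =>
    biproduct.π G (e.symm k).1 ≫ p _ _ - biproduct.π G (e.symm k).2 ≫ q _ _
  have hl : ∀ B x i, appL (biproduct.π G i) B (appL (biproduct.lift η) B x) = appL (η i) B x := fun B x i => by
    rw [← appL_comp, biproduct.lift_π]
  have hsum : ∀ (B : Alg A) (s : Finset (Fin n)) (φ : Fin n → (P ⟶ P)) x,
      appL (∑ i ∈ s, φ i) B x = ∑ i ∈ s, appL (φ i) B x := by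
    intro B s φ x
    induction s using Finset.induction_on with
    | empty => simp
    | insert a s ha ih => rw [Finset.sum_insert ha, Finset.sum_insert ha, appL_add, ih]
  have hext : ∀ B x y, (∀ i, appL (biproduct.π G i) B x = appL (biproduct.π G i) B y) → x = y := by
    intro B x y h
    have t : (∑ i : Fin n, biproduct.π G i ≫ biproduct.ι G i) = 𝟙 P := biproduct.total
    rw [← appL_id P B x, ← appL_id P B y, ← t, hsum, hsum]
    exact Finset.sum_congr rfl fun i _ => congrArg (fun v => appL (biproduct.ι G i) B v) (h i)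
  refine adequate_of_kernels _ d hP (fun k => hH _ _) (biproduct.lift η)
    (fun B x y h => hinj B x y fun i => by rw [← hl, ← hl, h]) fun B x => ?_
  constructor
  · rintro ⟨y, rfl⟩ k
    simp only [d, appL_sub, appL_comp, sub_eq_zero]
    exact (congrArg (appL (p _ _) B) (hl B y _)).trans ((hcomp _ _ B y).trans
      (congrArg (appL (q _ _) B) (hl B y _)).symm)
  · intro h
    obtain ⟨z, hz⟩ := hglue B (fun i => appL (biproduct.π G i) B x) fun i j => by
      have := h (e (i, j))
      simp only [d, appL_sub, appL_comp, sub_eq_zero] at this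
      rw [Equiv.symm_apply_apply] at this
      exact this
    exact ⟨z, hext B _ _ fun i => by rw [hl, hz]⟩

section Cover

variable (A' A'' : Type u) [CommRing A'] [Algebra A A'] [CommRing A''] [Algebra A A'']

/-- The two coface maps from `push restr F` for `A'` resp. `A''` to the mixed one. -/
abbrev mixed (F : MVF A) : MVF A :=
  (Adeq.push A A').obj ((Adeq.restr A A').obj ((Adeq.push A A'').obj ((Adeq.restr A A'').obj F)))

end Cover

/-- Descent of adequacy along a finite family of algebras. -/
theorem adequate_of_cover (F : MVF A) {n : ℕ} (A' : Fin n → Type u) [∀ i, CommRing (A' i)]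
    [∀ i, Algebra A (A' i)] (h₁ : ∀ i, adequate (A' i) ((Adeq.restr A (A' i)).obj F))
    (h₂ : ∀ (B : Alg A) x y, (∀ i, mp F (Adeq.Alg.unit A (A' i) B) x = mp F (Adeq.Alg.unit A (A' i) B) y) →
      x = y)
    (h₃ : ∀ (B : Alg A) (y : ∀ i, F.obj (pt (resAlg (A' i) (bcAlg (A' i) B)))),
      (∀ i j, mp F (Adeq.Alg.unit A (A' j) (resAlg (A' i) (bcAlg (A' i) B))) (y i) =
        mp F ((Adeq.Alg.restr A (A' j)).map ((Adeq.Alg.baseChange A (A' j)).map (Adeq.Alg.unit A (A' i) B)))
          (y j)) → ∃ x, ∀ i, mp F (Adeq.Alg.unit A (A' i) B) x = y i) :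
    adequate A F := by
  let P : Fin n → MVF A := fun i => (Adeq.push A (A' i)).obj ((Adeq.restr A (A' i)).obj F)
  have hP : ∀ i, adequate A (P i) := fun i => adequate_push (A' i) (h₁ i)
  refine adequate_of_finite_equalizer P (fun i j => mixed (A' i) (A' j) F) hP
    (fun i j => adequate_push (A' i) (adequate_restr (A' i) (hP j))) (fun i => unitHom (A' i) F)
    (fun i j => (Adeq.push A (A' i)).map ((Adeq.restr A (A' i)).map (unitHom (A' j) F)))
    (fun i j => unitHom (A' i) (P j)) h₂ (fun i j B x => ?_) h₃
  exact appL_mp (unitHom (A' j) F) (Adeq.Alg.unit A (A' i) B) x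

end Groth.Agent.AdeqLib
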