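import Groth.Agent.AdeqLib.SheafAffine
import Groth.Agent.AdeqLib.Cover

/-!
Extensions of adequate modules.
-/

set_option autoImplicit false
set_option linter.style.haveILetI false
set_option backward.isDefEq.respectTransparency false
universe u

noncomputable section

namespace Groth.Agent.AdeqLib

open CategoryTheory Limits Opposite AlgebraicGeometry TensorProduct
open Adeq (MVF Alg pt algOf adequate adequateMod toMVF toMVFPre specOver)

local notation "Kf" => Scheme.fppfPrecoverage

variable {S : Scheme.{u}} {R : CommRingCat.{u}} (a : Spec R ⟶ S)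

/-- The double overlap is the intersection. -/
lemma exists_lift_ov2 {n : ℕ} (A : Fin n → Type u) [∀ j, CommRing (A j)] [∀ j, Algebra R (A j)] (i j : Fin n)
    {W : Over S} (gi : W ⟶ (specOver a).obj (op (algOf R (A i)))) (gj : W ⟶ (specOver a).obj (op (algOf R (A j))))
    (e : gi ≫ (specOver a).map (strMap A i).op = gj ≫ (specOver a).map (strMap A j).op) :
    ∃ h : W ⟶ (specOver a).obj (op (ov2 A i j)),
      h ≫ (specOver a).map (resL A i j).op = gi ∧ h ≫ (specOver a).map (resR A i j).op = gj := by
  have w : gi.left ≫ Spec.map (CommRingCat.ofHom (algebraMap R (A i))) =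
      gj.left ≫ Spec.map (CommRingCat.ofHom (algebraMap R (A j))) := congrArg (fun q => q.left) e
  let h₀ := pullback.lift gi.left gj.left w ≫ (pullbackSpecIso R (A i) (A j)).hom
  have h1 : h₀ ≫ Spec.map (CommRingCat.ofHom Algebra.TensorProduct.includeLeftRingHom) = gi.left := by
    rw [Category.assoc, pullbackSpecIso_hom_fst, pullback.lift_fst]
  have h2 : h₀ ≫ Spec.map (CommRingCat.ofHom (AlgHom.toRingHom
      (Algebra.TensorProduct.includeRight : A j →ₐ[R] A i ⊗[R] A j))) = gj.left := by
    rw [Category.assoc]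
    exact (congrArg (_ ≫ ·) (pullbackSpecIso_hom_snd R (A i) (A j))).trans (pullback.lift_snd _ _ _)
  refine ⟨Over.homMk h₀ ?_, ?_, ?_⟩
  · refine Eq.trans ?_ (Over.w gi)
    rw [← h1]
    refine ((congrArg (h₀ ≫ ·) (Over.w ((specOver a).map (resL A i j).op)).symm).trans ?_)
    exact (Category.assoc _ _ _).symm
  · ext : 1
    exact h1
  · ext : 1
    exact h2

variable (C : ShortComplex (BigSite.Mod Kf S)) (hC : C.ShortExact) (h₁ : adequateMod Kf S C.X₁)

include hC h₁ in
/-- Surjectivity of the last map of a short exact sequence on an affine object. -/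
lemma surjective_base : Function.Surjective (C.g.val.app (op (baseObj a))) := by
  intro s
  haveI := hC.epi_g
  haveI := hC.mono_f
  have hls : Sheaf.IsLocallySurjective ((BigSite.toAbMod Kf S).map C.g) :=
    (Sheaf.isLocallySurjective_iff_epi' _ _).mpr inferInstance
  obtain ⟨n, A, _, _, hfl, hs, hcov, hmem⟩ := exists_alg_family a (hls.imageSieve_mem s)
  haveI := hfl
  let f := (toMVF Kf a).map C.f
  let g := (toMVF Kf a).map C.g
  obtain ⟨y, hy'⟩ : ∃ y : ∀ j, ((toMVF Kf a).obj C.X₂).obj (pt (algOf R (A j))),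
      ∀ j, appL g (algOf R (A j)) (y j) = mp ((toMVF Kf a).obj C.X₃) (strMap A j) s :=
    ⟨fun j => (hmem j).choose, fun j => (hmem j).choose_spec⟩
  have hfi : ∀ B, Function.Injective (appL f B) := fun B => by
    have : Mono ((SheafOfModules.evaluation.{u + 1} (BigSite.ORing Kf S) (op ((specOver a).obj (op B)))).map C.f) :=
      inferInstance
    exact fun x y h => (ModuleCat.mono_iff_injective _).mp this h
  have hfg : ∀ B x, appL g B (appL f B x) = 0 := fun B x => by
    rw [← appL_comp]
    simp only [f, g, ← Functor.map_comp, C.zero, Functor.map_zero, appL_zero]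
  have hlift : ∀ B x, appL g B x = 0 → ∃ w, appL f B w = x := fun B x hx => by
    obtain ⟨k, hk⟩ := (kernel_sections C.g ((specOver a).obj (op B))).2 x hx
    haveI : IsIso (kernel.lift C.g C.f C.zero) := by
      haveI := hC.exact.epi_kernelLift
      haveI : Mono (kernel.lift C.g C.f C.zero) := mono_of_mono_fac (kernel.lift_ι _ _ _)
      exact isIso_of_mono_of_epi _
    refine ⟨appL ((toMVF Kf a).map (inv (kernel.lift C.g C.f C.zero))) B k, ?_⟩
    rw [← appL_comp]
    simp only [f, ← Functor.map_comp, IsIso.inv_comp_eq, kernel.lift_ι]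
    rw [show inv (kernel.lift C.g C.f C.zero) ≫ C.f = kernel.ι C.g from by simp]
    exact hk
  choose w hw using fun ij : Fin n × Fin n =>
    hlift (ov2 A ij.1 ij.2) (mp ((toMVF Kf a).obj C.X₂) (resR A ij.1 ij.2) (y ij.2) - mp ((toMVF Kf a).obj C.X₂) (resL A ij.1 ij.2) (y ij.1)) (by
      rw [map_sub, appL_mp, appL_mp, hy', hy', ← mp_comp, ← mp_comp, sub_eq_zero]
      exact congrArg (fun q : algOf R R ⟶ ov2 A ij.1 ij.2 => mp ((toMVF Kf a).obj C.X₃) q s) (CommAlgCat.hom_ext (Subsingleton.elim _ _)))
  obtain ⟨v, hv⟩ := family_cocycle A (F := (toMVF Kf a).obj C.X₁) (adequate_toMVF_fppf C.X₁ h₁ a) hs (fun i j => w (i, j))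
    fun i j k => hfi _ (by
      rw [map_zero, map_add, map_sub, appL_mp, appL_mp, appL_mp, hw (j, k), hw (i, k), hw (i, j)]
      simp only [map_sub, ← mp_comp]
      have e₁ : resL (R := (R : Type u)) A j k ≫ res0 A i j k = resR A i j ≫ res2 A i j k := by
        ext x; simp [resL, resR, res0, res2]
      have e₂ : resR (R := (R : Type u)) A j k ≫ res0 A i j k = resR A i k ≫ res1 A i j k := by
        ext x; simp [resR, res0, res1]
      have e₃ : resL (R := (R : Type u)) A i k ≫ res1 A i j k = resL A i j ≫ res2 A i j k := by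
        ext x; simp [resL, res1, res2, Algebra.TensorProduct.one_def]
      rw [e₁, e₂, e₃]
      abel)
  obtain ⟨-, hglue⟩ := sections_glue C.X₂ (fun j => (specOver a).map (strMap A j).op) hcov
  obtain ⟨x, hx⟩ := hglue (fun j => y j - appL f (algOf R (A j)) (v j)) fun i j W gi gj e => by
    obtain ⟨h, rfl, rfl⟩ := exists_lift_ov2 a A i j gi gj e
    rw [op_comp, op_comp, Functor.map_comp, Functor.map_comp, ConcreteCategory.comp_apply,
      ConcreteCategory.comp_apply]
    refine congrArg _ ?_
    change mp ((toMVF Kf a).obj C.X₂) (resL A i j) (y i - appL f (algOf R (A i)) (v i)) = mp ((toMVF Kf a).obj C.X₂) (resR A i j) (y j - appL f (algOf R (A j)) (v j))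
    have := congrArg (appL f (ov2 A i j)) (hv i j)
    rw [map_sub, appL_mp, appL_mp, hw (i, j)] at this
    rw [map_sub, map_sub]
    exact sub_eq_zero.mp ((by abel : _ = _).trans (sub_eq_zero.mpr this))
  refine ⟨x, (sections_glue C.X₃ (fun j => (specOver a).map (strMap A j).op) hcov).1 _ _ fun j => ?_⟩
  refine Eq.trans (appL_mp g (strMap A j) x).symm ?_
  change appL g (algOf R (A j)) (mp ((toMVF Kf a).obj C.X₂) (strMap A j) x) = mp ((toMVF Kf a).obj C.X₃) (strMap A j) s
  rw [show mp ((toMVF Kf a).obj C.X₂) (strMap A j) x = _ from hx j, map_sub, hy', hfg, sub_zero]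

include hC h₁ in
/-- The middle of an extension of adequate modules is adequate. -/
theorem adequateMod_ext (h₃ : adequateMod Kf S C.X₃) : adequateMod Kf S C.X₂ := by
  refine adequateMod_of_affines _ fun R a => ?_
  haveI := hC.mono_f
  have hker : ∀ B x, appL ((toMVF Kf a).map C.g) B x = 0 → ∃ w, appL ((toMVF Kf a).map C.f) B w = x := fun B x hx => by
    obtain ⟨k, hk⟩ := (kernel_sections C.g ((specOver a).obj (op B))).2 x hx
    haveI := hC.exact.epi_kernelLift
    haveI : Mono (kernel.lift C.g C.f C.zero) := mono_of_mono_fac (kernel.lift_ι _ _ _)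
    haveI := isIso_of_mono_of_epi (kernel.lift C.g C.f C.zero)
    refine ⟨appL ((toMVF Kf a).map (inv (kernel.lift C.g C.f C.zero))) B k, ?_⟩
    rw [← appL_comp, ← Functor.map_comp, show inv (kernel.lift C.g C.f C.zero) ≫ C.f = kernel.ι C.g from by simp]
    exact hk
  let D : ShortComplex (MVF R) := ShortComplex.mk ((toMVF Kf a).map C.f) ((toMVF Kf a).map C.g)
    (by rw [← Functor.map_comp, C.zero, Functor.map_zero])
  haveI : Mono D.f := mono_of_injective _ fun B => by
    have : Mono ((SheafOfModules.evaluation.{u + 1} (BigSite.ORing Kf S) (op ((specOver a).obj (op B)))).map C.f) :=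
      inferInstance
    exact fun x y h => (ModuleCat.mono_iff_injective _).mp this h
  haveI : Epi D.g := epi_of_surjective _ fun B s => by
    let e := selfIso a B
    obtain ⟨x, hx⟩ := surjective_base _ C hC h₁ (C.X₃.val.presheaf.map e.hom.op s)
    refine ⟨C.X₂.val.presheaf.map e.inv.op x, ?_⟩
    refine Eq.trans (PresheafOfModules.naturality_apply C.g.val e.inv.op x) ?_
    refine (congrArg (C.X₃.val.presheaf.map e.inv.op) hx).trans ?_
    rw [← ConcreteCategory.comp_apply, ← Functor.map_comp, ← op_comp, e.inv_hom_id, op_id, C.X₃.val.presheaf.map_id]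
    rfl
  haveI : Epi (kernel.lift D.g D.f D.zero) := epi_of_surjective _ fun B z => by
    obtain ⟨w, hw⟩ := hker B (appL (kernel.ι D.g) B z) (appL_kernel D.g B z)
    refine ⟨w, injective_of_mono (kernel.ι D.g) B ?_⟩
    rw [← appL_comp, kernel.lift_ι]
    exact hw
  exact adequate_ext (S := D) { exact := (D.exact_iff_epi_kernel_lift).mpr inferInstance }
    (adequate_toMVF_fppf C.X₁ h₁ a) (adequate_toMVF_fppf C.X₃ h₃ a)

end Groth.Agent.AdeqLib
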