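import Groth.Agent.AdeqLib.InjHtpy
import Mathlib.Algebra.Category.ModuleCat.Presheaf.Free
import Mathlib.Algebra.Category.ModuleCat.Presheaf.EpiMono
import Mathlib.Algebra.Category.ModuleCat.Presheaf.Abelian

/-!
An injective presheaf of modules has exact alternating complexes along a semi-simplicial object with an objectwise
extra degeneracy, and surjective restrictions along monomorphisms.
-/

set_option autoImplicit false
set_option linter.style.haveILetI false
set_option backward.isDefEq.respectTransparency false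
universe w u

noncomputable section

namespace Groth.Agent.AdeqLib

open CategoryTheory Limits Opposite

variable {C : Type w} [Category.{u} C] (R : Cᵒᵖ ⥤ RingCat.{u + 1})

/-- The free presheaf of modules on a representable. -/
abbrev freeM (X : C) : PresheafOfModules.{u + 1} R := PresheafOfModules.freeObj (uliftYoneda.{u + 1}.obj X)

/-- A generator. -/
def genM {X V : C} (f : V ⟶ X) : (freeM R X).presheaf.obj (op V) :=
  ModuleCat.freeMk (show (uliftYoneda.{u + 1}.obj X).obj (op V) from ULift.up f)

variable {R}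

lemma freeM_map {X V V' : C} (g : V' ⟶ V) (f : V ⟶ X) :
    (freeM R X).presheaf.map g.op (genM R f) = genM R (g ≫ f) :=
  (ModuleCat.freeDesc_apply _ _).trans rfl

/-- An element as a map out of the free presheaf of modules. -/
def fromM (P : PresheafOfModules.{u + 1} R) {X : C} (x : P.presheaf.obj (op X)) : freeM R X ⟶ P :=
  PresheafOfModules.freeObjDesc
    { app := fun V => ↾ fun f => P.presheaf.map (f.down : V.unop ⟶ X).op x
      naturality := fun V V' g => by
        ext f
        change P.presheaf.map (g.unop ≫ (f.down : V.unop ⟶ X)).op x = _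
        rw [op_comp, Functor.map_comp]
        rfl }

lemma fromM_gen {P : PresheafOfModules.{u + 1} R} {X V : C} (x : P.presheaf.obj (op X)) (f : V ⟶ X) :
    (fromM P x).app (op V) (genM R f) = P.presheaf.map f.op x :=
  ModuleCat.freeDesc_apply _ _

lemma freeM_hom_ext {X : C} {P : PresheafOfModules.{u + 1} R} {φ ψ : freeM R X ⟶ P}
    (h : φ.app (op X) (genM R (𝟙 X)) = ψ.app (op X) (genM R (𝟙 X))) : φ = ψ := by
  refine PresheafOfModules.hom_ext fun V => ?_
  obtain ⟨V⟩ := V
  refine ModuleCat.free_hom_ext fun f => ?_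
  change φ.app (op V) (genM R (f.down : V ⟶ X)) = ψ.app (op V) (genM R (f.down : V ⟶ X))
  have e : genM R (f.down : V ⟶ X) = (freeM R X).presheaf.map (f.down : V ⟶ X).op (genM R (𝟙 X)) := by
    rw [freeM_map, Category.comp_id]
  rw [e]
  exact (PresheafOfModules.naturality_apply φ (f.down : V ⟶ X).op (genM R (𝟙 X))).trans
    ((congrArg _ h).trans (PresheafOfModules.naturality_apply ψ (f.down : V ⟶ X).op (genM R (𝟙 X))).symm)

section Htpy

variable (X : ℕ → C) (d : ∀ n, Fin (n + 2) → (X (n + 1) ⟶ X n))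

/-- The alternating boundary. -/
def bdM (n : ℕ) : freeM R (X (n + 1)) ⟶ freeM R (X n) :=
  fromM _ (∑ k : Fin (n + 2), (-1 : ℤ) ^ (k : ℕ) • genM R (d n k))

lemma bdM_gen (n : ℕ) {V : C} (f : V ⟶ X (n + 1)) :
    (bdM X d n).app (op V) (genM R f) = ∑ k : Fin (n + 2), (-1 : ℤ) ^ (k : ℕ) • genM R (f ≫ d n k) := by
  rw [bdM, fromM_gen, map_sum]
  refine Finset.sum_congr rfl fun k _ => ?_
  rw [map_zsmul, freeM_map]

lemma bdM_fromM (P : PresheafOfModules.{u + 1} R) (n : ℕ) (x : P.presheaf.obj (op (X n))) :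
    bdM X d n ≫ fromM P x = fromM P (altD X d P.presheaf n x) := by
  refine freeM_hom_ext ?_
  rw [PresheafOfModules.comp_app, ModuleCat.comp_apply, bdM_gen, fromM_gen, op_id, P.presheaf.map_id, altD_apply]
  refine (map_sum ((fromM P x).app (op (X (n + 1)))).hom _ _).trans (Finset.sum_congr rfl fun k _ => ?_)
  refine (map_zsmul ((fromM P x).app (op (X (n + 1)))).hom _ _).trans ?_
  rw [fromM_gen, Category.id_comp]

variable (h : ∀ n {V : C}, (V ⟶ X n) → (V ⟶ X (n + 1)))
  (h₀ : ∀ n {V : C} (f : V ⟶ X n), h n f ≫ d n 0 = f)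
  (h₁ : ∀ n {V : C} (f : V ⟶ X (n + 1)) (k : Fin (n + 2)), h (n + 1) f ≫ d (n + 1) k.succ = h n (f ≫ d n k))

/-- The objectwise homotopy. -/
def hM (n : ℕ) (V : C) : (freeM R (X n)).obj (op V) ⟶ (freeM R (X (n + 1))).obj (op V) :=
  (ModuleCat.free (R.obj (op V))).map (↾ fun f => ULift.up (h n f.down))

lemma hM_gen (n : ℕ) {V : C} (f : V ⟶ X n) : hM X h n V (genM R f) = genM R (h n f) :=
  ModuleCat.free_map_apply _ _

include h₀ h₁ in
lemma homotopyM (n : ℕ) (V : C) (x : (freeM R (X (n + 1))).presheaf.obj (op V)) :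
    (bdM (R := R) X d (n + 1)).app (op V) (hM (R := R) X h (n + 1) V x) +
      hM (R := R) X h n V ((bdM (R := R) X d n).app (op V) x) = x := by
  suffices e : hM (R := R) X h (n + 1) V ≫ (bdM (R := R) X d (n + 1)).app (op V) +
      (bdM (R := R) X d n).app (op V) ≫ hM (R := R) X h n V = 𝟙 ((freeM R (X (n + 1))).obj (op V)) by
    have e' := congrArg (fun t => t.hom) e
    simp only [ModuleCat.hom_add, ModuleCat.hom_comp, ModuleCat.hom_id] at e'
    exact LinearMap.congr_fun e' x
  refine ModuleCat.free_hom_ext fun f => ?_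
  change (bdM X d (n + 1)).app (op V) (hM X h (n + 1) V (genM R f.down)) +
      hM X h n V ((bdM X d n).app (op V) (genM R f.down)) = genM R f.down
  have e : ∀ k : Fin (n + 2), hM (R := R) X h n V ((-1 : ℤ) ^ (k : ℕ) • genM R ((f.down : V ⟶ X (n + 1)) ≫ d n k)) =
      (-1 : ℤ) ^ (k : ℕ) • genM R (h n ((f.down : V ⟶ X (n + 1)) ≫ d n k)) := fun k =>
    ((hM (R := R) X h n V).hom.map_smul_of_tower _ _).trans (congrArg _ (hM_gen X h n _))
  rw [hM_gen, bdM_gen, bdM_gen]
  refine Eq.trans (congrArg _ ((map_sum (hM (R := R) X h n V).hom _ _).trans (Finset.sum_congr rfl fun k _ => e k))) ?_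
  rw [Fin.sum_univ_succ, h₀]
  simp only [Fin.val_zero, pow_zero, one_smul, h₁, Fin.val_succ, pow_succ, mul_neg, mul_one, neg_smul,
    Finset.sum_neg_distrib]
  abel

include h₀ h₁ in
theorem injective_altD_exactM (P : PresheafOfModules.{u + 1} R) [Injective P] (n : ℕ)
    (z : P.presheaf.obj (op (X (n + 1)))) (hz : altD X d P.presheaf (n + 1) z = 0) :
    ∃ y, altD X d P.presheaf n y = z := by
  let ι := kernel.ι (bdM (R := R) X d n)
  have hι : ι ≫ fromM P z = 0 := by
    refine PresheafOfModules.hom_ext fun V => ModuleCat.hom_ext (LinearMap.ext fun q => ?_)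
    obtain ⟨V⟩ := V
    have h0 : (bdM (R := R) X d n).app (op V) (ι.app (op V) q) = 0 :=
      ConcreteCategory.congr_hom (congrArg (fun t => t.app (op V)) (kernel.condition (bdM (R := R) X d n))) q
    change (fromM P z).app (op V) (ι.app (op V) q) = 0
    rw [← homotopyM (R := R) X d h h₀ h₁ n V (ι.app (op V) q), h0, map_zero, add_zero]
    refine (ConcreteCategory.congr_hom (congrArg (fun t => t.app (op V)) (bdM_fromM X d P (n + 1) z))
      (hM X h (n + 1) V (ι.app (op V) q))).trans ?_
    rw [hz]
    have : fromM P (0 : P.presheaf.obj (op (X (n + 1 + 1)))) = 0 := freeM_hom_ext (by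
      rw [fromM_gen, map_zero]; rfl)
    rw [this]
    rfl
  let S : ShortComplex (PresheafOfModules.{u + 1} R) := ShortComplex.mk ι (bdM X d n) (kernel.condition _)
  have hS : S.Exact := ShortComplex.exact_of_f_is_kernel S (kernelIsKernel (bdM (R := R) X d n))
  let ψ := hS.descToInjective (fromM P z) hι
  have hψ : bdM X d n ≫ ψ = fromM P z := hS.comp_descToInjective (fromM P z) hι
  refine ⟨ψ.app (op (X n)) (genM R (𝟙 (X n))), ?_⟩
  have e : ψ = fromM P (ψ.app (op (X n)) (genM R (𝟙 (X n)))) := freeM_hom_ext (by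
    rw [fromM_gen, op_id, P.presheaf.map_id]; rfl)
  rw [e, bdM_fromM] at hψ
  have := congrArg (fun q => q.app (op (X (n + 1))) (genM R (𝟙 (X (n + 1))))) hψ
  simpa only [fromM_gen, op_id, P.presheaf.map_id, ConcreteCategory.id_apply] using this

end Htpy

/-- An injective presheaf of modules has surjective restrictions along monomorphisms. -/
theorem injectiveM_map_surjective (P : PresheafOfModules.{u + 1} R) [Injective P] {X Y : C} (i : X ⟶ Y) [Mono i] :
    Function.Surjective (P.presheaf.map i.op) := by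
  intro x
  let j : freeM R X ⟶ freeM R Y := (PresheafOfModules.free R).map (uliftYoneda.{u + 1}.map i)
  haveI : Mono j := PresheafOfModules.mono_of_injective fun V => by
    refine Finsupp.mapDomain_injective fun f g hfg => ?_
    exact ULift.ext _ _ ((cancel_mono i).mp (congrArg ULift.down hfg))
  let ψ := Injective.factorThru (fromM P x) j
  have hj : j ≫ ψ = fromM P x := Injective.comp_factorThru _ _
  refine ⟨ψ.app (op Y) (genM R (𝟙 Y)), ?_⟩
  have e := congrArg (fun q => q.app (op X) (genM R (𝟙 X))) hj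
  have hg : j.app (op X) (genM R (𝟙 X)) = genM R (i : X ⟶ Y) :=
    (ModuleCat.free_map_apply _ _).trans (congrArg (genM R) (Category.id_comp i))
  refine (PresheafOfModules.naturality_apply ψ i.op (genM R (𝟙 Y))).symm.trans ?_
  refine (congrArg (ψ.app (op X)) ((freeM_map i (𝟙 Y)).trans (congrArg (genM R) (Category.comp_id i)))).trans ?_
  rw [← hg]
  refine e.trans ?_
  rw [fromM_gen, op_id, P.presheaf.map_id]
  rfl

end Groth.Agent.AdeqLib
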