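import Mathlib.Topology.Sheaves.Presheaf
import Mathlib.Topology.Sets.Opens
import Mathlib.Algebra.Category.Grp.Basic
import Mathlib.Order.Zorn
import Mathlib.Tactic.Abel

/-!
A map of presheaves on the opens of a space with gluing, locally surjective and with flasque kernel, is surjective.
-/

set_option autoImplicit false
set_option linter.style.haveILetI false
universe u

noncomputable section

namespace Groth.Agent.AdeqLib

open CategoryTheory Opposite TopologicalSpace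

variable {X : Type u} [TopologicalSpace X]

/-- Separatedness and gluing along open coverings. -/
def OpenGlue (P : (Opens X)ᵒᵖ ⥤ AddCommGrpCat.{u + 1}) : Prop :=
  ∀ {U : Opens X} {ι : Type (u + 1)} (V : ι → Opens X) (hle : ∀ i, V i ≤ U), (∀ x ∈ U, ∃ i, x ∈ V i) →
    (∀ x y : P.obj (op U), (∀ i, P.map (homOfLE (hle i)).op x = P.map (homOfLE (hle i)).op y) → x = y) ∧
    ∀ y : ∀ i, P.obj (op (V i)),
      (∀ i j, P.map (homOfLE (inf_le_left : V i ⊓ V j ≤ V i)).op (y i) =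
        P.map (homOfLE (inf_le_right : V i ⊓ V j ≤ V j)).op (y j)) →
      ∃ x, ∀ i, P.map (homOfLE (hle i)).op x = y i

lemma pres (P : (Opens X)ᵒᵖ ⥤ AddCommGrpCat.{u + 1}) {U V W : Opens X} (h : V ≤ U) (h' : W ≤ V) (s : P.obj (op U)) :
    P.map (homOfLE h').op (P.map (homOfLE h).op s) = P.map (homOfLE (h'.trans h)).op s :=
  ((ConcreteCategory.congr_hom (P.map_comp (homOfLE h).op (homOfLE h').op)) s).symm

variable {P₁ P₂ P₃ : (Opens X)ᵒᵖ ⥤ AddCommGrpCat.{u + 1}} (g : P₂ ⟶ P₃) (h₂ : OpenGlue P₂) (h₃ : OpenGlue P₃)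

/-- A partial lift of a section. -/
structure OLift {P₂ P₃ : (Opens X)ᵒᵖ ⥤ AddCommGrpCat.{u + 1}} (g : P₂ ⟶ P₃) (U : Opens X) (s : P₃.obj (op U)) : Type (u + 1) where
  /-- the open -/
  dom : Opens X
  le : dom ≤ U
  /-- the lift -/
  sec : P₂.obj (op dom)
  map_sec : g.app (op dom) sec = P₃.map (homOfLE le).op s

/-- Extension of partial lifts. -/
def OLift.Ext {g : P₂ ⟶ P₃} {U : Opens X} {s : P₃.obj (op U)} (a b : OLift g U s) : Prop :=
  ∃ h : a.dom ≤ b.dom, P₂.map (homOfLE h).op b.sec = a.sec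

include h₂ h₃ in
lemma exists_maximal_olift {U : Opens X} (s : P₃.obj (op U)) :
    ∃ m : OLift g U s, ∀ a, OLift.Ext m a → OLift.Ext a m := by
  have hrefl : ∀ a : OLift g U s, OLift.Ext a a := fun a =>
    ⟨le_rfl, ConcreteCategory.congr_hom (P₂.map_id _) _⟩
  refine exists_maximal_of_chains_bounded (fun c hc => ?_) fun {a b c} ⟨h, e⟩ ⟨h', e'⟩ =>
    ⟨h.trans h', by rw [← e, ← e', pres]⟩
  let V : c → Opens X := fun a => a.1.dom
  have hW : (⨆ a, V a) ≤ U := iSup_le fun a => a.1.le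
  obtain ⟨t, ht⟩ := (h₂ V (fun a => le_iSup V a) fun x hx => Opens.mem_iSup.mp hx).2
    (fun a => a.1.sec) fun i j => by
      rcases ((em (i.1 = j.1)).elim (fun e => Or.inl (e ▸ hrefl i.1))
          fun hij => hc i.2 j.2 hij : OLift.Ext i.1 j.1 ∨ OLift.Ext j.1 i.1) with ⟨h, e⟩ | ⟨h, e⟩
      · rw [← e, pres]
      · rw [← e, pres]
  refine ⟨⟨⨆ a, V a, hW, t, (h₃ V (fun a => le_iSup V a) fun x hx => Opens.mem_iSup.mp hx).1 _ _
    fun a => ?_⟩, fun a ha => ⟨le_iSup V ⟨a, ha⟩, ht ⟨a, ha⟩⟩⟩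
  rw [← NatTrans.naturality_apply, ht, pres]
  exact a.1.map_sec

variable (f : P₁ ⟶ P₂) (hgf : ∀ V (y : P₁.obj (op V)), g.app (op V) (f.app (op V) y) = 0)
  (hex : ∀ V (y : P₂.obj (op V)), g.app (op V) y = 0 → ∃ w, f.app (op V) w = y)
  (hfl : ∀ (U V : Opens X) (h : V ≤ U), Function.Surjective (P₁.map (homOfLE h).op))

include h₂ h₃ hgf hex hfl in
/-- A flasque kernel makes a locally surjective map surjective. -/
theorem osurjective (U : Opens X) (s : P₃.obj (op U))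
    (hloc : ∀ x ∈ U, ∃ (W : Opens X) (hW : W ≤ U), x ∈ W ∧ ∃ t, g.app (op W) t = P₃.map (homOfLE hW).op s) :
    ∃ t, g.app (op U) t = s := by
  obtain ⟨⟨M, hMU, t, ht⟩, hm⟩ := exists_maximal_olift g h₂ h₃ s
  suffices hUM : U ≤ M by
    refine ⟨P₂.map (homOfLE hUM).op t, ?_⟩
    rw [NatTrans.naturality_apply, ht, pres]
    exact ConcreteCategory.congr_hom (P₃.map_id _) _
  intro x hx
  obtain ⟨W, hWU, hxW, t₁, ht₁⟩ := hloc x hx
  let t₂ : P₂.obj (op (M ⊓ W)) :=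
    P₂.map (homOfLE inf_le_left).op t - P₂.map (homOfLE inf_le_right).op t₁
  obtain ⟨w, hw⟩ := hex _ t₂ (by
    simp only [t₂]
    rw [map_sub, NatTrans.naturality_apply, NatTrans.naturality_apply, ht, sub_eq_zero, pres]
    refine Eq.trans ?_ (congrArg (P₃.map (homOfLE inf_le_right).op) ht₁).symm
    exact (pres _ hWU inf_le_right s).symm)
  obtain ⟨w', hw'⟩ := hfl W (M ⊓ W) inf_le_right w
  let t' : P₂.obj (op W) := t₁ + f.app _ w'
  have ht' : g.app _ t' = P₃.map (homOfLE hWU).op s := by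
    simp only [t']
    rw [map_add, hgf, add_zero]
    exact ht₁
  have hagree : P₂.map (homOfLE (inf_le_left : M ⊓ W ≤ M)).op t =
      P₂.map (homOfLE (inf_le_right : M ⊓ W ≤ W)).op t' := by
    simp only [t']
    rw [map_add, ← NatTrans.naturality_apply, hw', hw]
    simp only [t₂]
    abel
  let V : ULift.{u + 1} Bool → Opens X := fun b => bif b.down then M else W
  have hle : ∀ b, V b ≤ M ⊔ W := by rintro ⟨_ | _⟩ <;> simp [V]
  have hcov : ∀ y ∈ M ⊔ W, ∃ b, y ∈ V b := fun y hy => by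
    rcases (show y ∈ M ∨ y ∈ W from hy) with h | h
    · exact ⟨⟨true⟩, h⟩
    · exact ⟨⟨false⟩, h⟩
  obtain ⟨u', hu'⟩ := (h₂ V hle hcov).2 (fun b => match b with | ⟨true⟩ => t | ⟨false⟩ => t') (by
    rintro ⟨_ | _⟩ ⟨_ | _⟩
    · rfl
    · have := congrArg (P₂.map (homOfLE (le_inf inf_le_right inf_le_left : W ⊓ M ≤ M ⊓ W)).op) hagree
      rw [pres, pres] at this
      exact this.symm
    · exact hagree
    · rfl)
  have hsup : M ⊔ W ≤ U := sup_le hMU hWU
  obtain ⟨h, -⟩ := hm ⟨M ⊔ W, hsup, u', (h₃ V hle hcov).1 _ _ (by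
    rintro ⟨_ | _⟩
    · rw [← NatTrans.naturality_apply, hu', pres]
      exact ht'
    · rw [← NatTrans.naturality_apply, hu', pres]
      exact ht)⟩ ⟨le_sup_left, hu' ⟨true⟩⟩
  exact h (Or.inr hxW : x ∈ M ⊔ W)


end Groth.Agent.AdeqLib
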