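import Groth.Agent.AdeqLib.TExact
import Groth.Agent.AdeqLib.InjMod
import Groth.Agent.AdeqLib.OpenZorn
import Groth.Agent.CmpSite.Shift
import Mathlib.Algebra.Category.ModuleCat.Presheaf.Sheafification

/-!
Higher direct images of parasitic adequate modules are parasitic: modules with exact Amitsur complexes and
surjective restrictions on flat objects are acyclic on flat objects.
-/

set_option autoImplicit false
set_option linter.style.haveILetI false
set_option backward.isDefEq.respectTransparency false
universe u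

noncomputable section

namespace Groth.Agent.AdeqLib

open CategoryTheory Limits Opposite AlgebraicGeometry TopologicalSpace
open Adeq (Alg algOf adequateMod parasitic specOver)

local notation "Kf" => Scheme.fppfPrecoverage

variable {T : Scheme.{u}}

/-- Surjective restrictions along open immersions between flat objects. -/
def FFl (G : BigSite.Ab Kf T) : Prop :=
  ∀ (W : Over T), Flat W.hom → ∀ {V : Over T} (i : V ⟶ W), IsOpenImmersion i.left →
    Function.Surjective (G.obj.map i.op)

section OpenF

variable (W : Over T)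

/-- An open of an object as an object. -/
abbrev openObj (V : W.left.Opens) : Over T := Over.mk (V.ι ≫ W.hom)

/-- Opens of an object as objects. -/
def openF : W.left.Opens ⥤ Over T where
  obj V := openObj W V
  map {V V'} h := Over.homMk (W.left.homOfLE (leOfHom h)) (by
    change W.left.homOfLE _ ≫ V'.ι ≫ W.hom = V.ι ≫ W.hom
    rw [← Category.assoc, Scheme.homOfLE_ι])
  map_id V := by
    ext : 1
    exact (cancel_mono V.ι).mp ((Scheme.homOfLE_ι W.left (le_refl V)).trans (Category.id_comp _).symm)
  map_comp {V V' V''} h h' := by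
    ext : 1
    exact (W.left.homOfLE_homOfLE (leOfHom h) (leOfHom h')).symm

/-- The inclusion of an open. -/
def openIncl (V : W.left.Opens) : (openF W).obj V ⟶ W := Over.homMk V.ι rfl

/-- The top open. -/
def topIso' : (openF W).obj ⊤ ≅ W := Over.isoMk W.left.topIso (by simp [openF, Scheme.topIso_hom])

lemma flat_openObj (hW : Flat W.hom) (V : W.left.Opens) : Flat ((openF W).obj V).hom := by
  change Flat (V.ι ≫ W.hom)
  haveI := hW
  infer_instance

lemma openGlue (G : BigSite.Ab Kf T) : OpenGlue ((openF W).op ⋙ G.obj) := by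
  intro (U : W.left.Opens) ι (V : ι → W.left.Opens) hle hcov
  have hc : Presieve.ofArrows (fun i => ((openF W).obj (V i)).left)
      (fun i => ((openF W).map (homOfLE (hle i))).left) ∈ Scheme.fppfPrecoverage.coverings ((openF W).obj U).left := by
    refine fppf_ofArrows_iff.mpr ⟨fun x => ?_, fun i => fppfP_imm (W.left.homOfLE (hle i))⟩
    obtain ⟨i, hi⟩ := hcov (U.ι x) (by exact x.2)
    exact ⟨i, ⟨U.ι x, hi⟩, Subtype.ext (Scheme.homOfLE_apply (e := hle i) (x := ⟨U.ι x, hi⟩))⟩
  obtain ⟨h₁, h₂⟩ := ab_glue G (fun i => (openF W).map (homOfLE (hle i))) hc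
  refine ⟨h₁, fun y hy => h₂ y fun i j Z gi gj e => ?_⟩
  have e' : gi.left ≫ (V i).ι = gj.left ≫ (V j).ι := by
    have := congrArg (fun q => q.left ≫ U.ι) e
    change (gi.left ≫ W.left.homOfLE (hle i)) ≫ U.ι = (gj.left ≫ W.left.homOfLE (hle j)) ≫ U.ι at this
    rwa [Category.assoc, Category.assoc, Scheme.homOfLE_ι, Scheme.homOfLE_ι] at this
  have hr : Set.range (gi.left ≫ (V i).ι) ⊆ Set.range (V i ⊓ V j).ι := by
    rintro _ ⟨z, rfl⟩
    rw [Scheme.Opens.range_ι]
    refine ⟨(gi.left z).2, ?_⟩
    rw [e']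
    exact (gj.left z).2
  let l := IsOpenImmersion.lift (V i ⊓ V j).ι _ hr
  have hl : l ≫ (V i ⊓ V j).ι = gi.left ≫ (V i).ι := IsOpenImmersion.lift_fac _ _ _
  let L : Z ⟶ (openF W).obj (V i ⊓ V j) := Over.homMk l (by
    change l ≫ (V i ⊓ V j).ι ≫ W.hom = Z.hom
    rw [← Category.assoc, hl, Category.assoc]
    exact Over.w gi)
  have hi : L ≫ (openF W).map (homOfLE (inf_le_left : V i ⊓ V j ≤ V i)) = gi := by
    ext : 1
    refine (cancel_mono (V i).ι).mp ?_
    change (l ≫ W.left.homOfLE (inf_le_left : V i ⊓ V j ≤ V i)) ≫ (V i).ι = _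
    rw [Category.assoc, Scheme.homOfLE_ι, hl]
  have hj : L ≫ (openF W).map (homOfLE (inf_le_right : V i ⊓ V j ≤ V j)) = gj := by
    ext : 1
    refine (cancel_mono (V j).ι).mp ?_
    change (l ≫ W.left.homOfLE (inf_le_right : V i ⊓ V j ≤ V j)) ≫ (V j).ι = _
    rw [Category.assoc, Scheme.homOfLE_ι, hl, e']
  rw [← hi, ← hj, op_comp, op_comp, Functor.map_comp, Functor.map_comp, ConcreteCategory.comp_apply,
    ConcreteCategory.comp_apply]
  exact congrArg _ (hy i j)

end OpenF

section Seq

variable {C : ShortComplex (BigSite.Ab Kf T)}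

/-- Surjectivity on flat objects. -/
theorem surjective_flat (hC : C.ShortExact) (h₁ : TExact C.X₁) (hf : FFl C.X₁) (W : Over T) (hW : Flat W.hom) :
    Function.Surjective (C.g.hom.app (op W)) := by
  intro s
  obtain ⟨t, ht⟩ := osurjective (X := W.left) (P₁ := (openF W).op ⋙ C.X₁.obj) (P₂ := (openF W).op ⋙ C.X₂.obj)
    (P₃ := (openF W).op ⋙ C.X₃.obj) (Functor.whiskerLeft (openF W).op C.g.hom) (openGlue W _) (openGlue W _)
    (Functor.whiskerLeft (openF W).op C.f.hom) (fun V y => g_f_zero _ y) (fun V y hy => sections_exact hC y hy)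
    (fun U V h => hf _ (flat_openObj W hW U) ((openF W).map (homOfLE h)) (inferInstanceAs (IsOpenImmersion (W.left.homOfLE h))))
    ⊤ (C.X₃.obj.map (topIso' W).hom.op s) fun x hx => by
      obtain ⟨V, hV, hxV, -⟩ := exists_isAffineOpen_mem_and_subset hx
      haveI : IsAffine (V : Scheme.{u}) := hV
      let a : Spec Γ(V, ⊤) ⟶ T := (V : Scheme.{u}).isoSpec.inv ≫ V.ι ≫ W.hom
      let e : baseObj a ≅ (openF W).obj V := Over.isoMk (V : Scheme.{u}).isoSpec.symm (by
        change (V : Scheme.{u}).isoSpec.inv ≫ V.ι ≫ W.hom =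
          Spec.map (CommRingCat.ofHom (algebraMap Γ(V, ⊤) Γ(V, ⊤))) ≫ a
        exact (spec_id_comp _ a).symm)
      let t' : C.X₃.obj.obj (op ((openF W).obj V)) :=
        C.X₃.obj.map ((openF W).map (homOfLE (le_top : V ≤ ⊤))).op (C.X₃.obj.map (topIso' W).hom.op s)
      obtain ⟨y, hy⟩ := surjective_base_ab hC h₁ a (C.X₃.obj.map e.hom.op t')
      refine ⟨V, le_top, hxV, C.X₂.obj.map e.inv.op y, ?_⟩
      change C.g.hom.app _ (C.X₂.obj.map e.inv.op y) = t'
      refine (NatTrans.naturality_apply C.g.hom e.inv.op y).trans ?_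
      refine (congrArg (C.X₃.obj.map e.inv.op) hy).trans ?_
      rw [← ConcreteCategory.comp_apply, ← Functor.map_comp, ← op_comp, e.inv_hom_id, op_id, C.X₃.obj.map_id]
      rfl
  refine ⟨C.X₂.obj.map (topIso' W).inv.op t, ?_⟩
  refine (NatTrans.naturality_apply C.g.hom (topIso' W).inv.op t).trans ?_
  refine (congrArg (C.X₃.obj.map (topIso' W).inv.op) ht).trans ?_
  rw [← ConcreteCategory.comp_apply, ← Functor.map_comp, ← op_comp, (topIso' W).inv_hom_id, op_id, C.X₃.obj.map_id]
  rfl

theorem ffl_quotient (hC : C.ShortExact) (h₁ : TExact C.X₁) (hf₁ : FFl C.X₁) (hf₂ : FFl C.X₂) : FFl C.X₃ := by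
  intro W hW V i hi x
  have hV : Flat V.hom := by
    rw [← Over.w i]
    haveI := hi
    haveI := hW
    infer_instance
  obtain ⟨y, rfl⟩ := surjective_flat hC h₁ hf₁ V hV x
  obtain ⟨z, rfl⟩ := hf₂ W hW i hi y
  exact ⟨C.g.hom.app _ z, (NatTrans.naturality_apply C.g.hom i.op z).symm⟩

end Seq

section InjMod

variable (I : BigSite.Mod Kf T) [Injective I]

lemma injective_presheafMod :
    Injective ((PresheafOfModules.restrictScalars (𝟙 (BigSite.ORing Kf T).obj)).obj I.val) :=
  Injective.injective_of_adjoint (PresheafOfModules.sheafificationAdjunction (𝟙 (BigSite.ORing Kf T).obj)) I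

theorem texact_injectiveMod : TExact ((BigSite.toAbMod Kf T).obj I) := by
  intro R a B _ _ _ m z hz
  haveI := injective_presheafMod I
  exact injective_altD_exactM (fun n => sp a (tpow B (n + 1))) (fun n k => spm a (face B (n + 1) k))
    (fun n {_} f => degen a B n f) (fun n {_} f => degen_tR a B n f) (fun n {_} f k => degen_face a B n f k)
    ((PresheafOfModules.restrictScalars (𝟙 (BigSite.ORing Kf T).obj)).obj I.val) m z hz

theorem ffl_injectiveMod : FFl ((BigSite.toAbMod Kf T).obj I) := fun W _ V i hi =>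
  haveI := injective_presheafMod I
  haveI : Mono i.left := inferInstance
  haveI : Mono i := Over.mono_of_mono_left i
  injectiveM_map_surjective ((PresheafOfModules.restrictScalars (𝟙 (BigSite.ORing Kf T).obj)).obj I.val) i

end InjMod

section Rpush

variable {S : Scheme.{u}} (f : T ⟶ S)

lemma flat_pullback (U : Over S) (hU : Flat U.hom) : Flat ((Over.pullback f).obj U).hom :=
  MorphismProperty.pullback_snd (P := @Flat) U.hom f hU

lemma parasitic_of_iso {M N : BigSite.Mod Kf S} (e : M ≅ N) (h : parasitic Kf S M) : parasitic Kf S N := by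
  intro U hU
  haveI : Subsingleton ((SheafOfModules.evaluation.{u + 1} (BigSite.ORing Kf S) (op U)).obj M) := h U hU
  exact ((SheafOfModules.evaluation.{u + 1} (BigSite.ORing Kf S) (op U)).mapIso e).toLinearEquiv.symm.toEquiv.subsingleton

/-- A quotient by a map which is surjective on flat objects is parasitic. -/
lemma parasitic_cokernel {A B : BigSite.Mod Kf S} (φ : A ⟶ B)
    (h : ∀ U : Over S, Flat U.hom → Function.Surjective (φ.val.app (op U))) : parasitic Kf S (cokernel φ) := by
  have h0 : ∀ U : Over S, Flat U.hom → ∀ x : (cokernel φ).val.presheaf.obj (op U), x = 0 := by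
    intro U hU x
    have hls : Sheaf.IsLocallySurjective ((BigSite.toAbMod Kf S).map (cokernel.π φ)) :=
      (Sheaf.isLocallySurjective_iff_epi' _ _).mpr inferInstance
    obtain ⟨ι, V, g, hcov, hg, hfl⟩ := exists_flat_family (hls.imageSieve_mem x)
    refine (sections_glue (cokernel φ) g hcov).1 _ _ fun i => ?_
    rw [map_zero]
    obtain ⟨b, hb⟩ := hg i
    haveI := hU
    haveI := hfl i
    obtain ⟨a, rfl⟩ := h (V i) (by rw [← Over.w (g i)]; infer_instance) b
    refine hb.symm.trans ?_
    have e := congrArg (fun q => q.val.app (op (V i))) (cokernel.condition φ)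
    exact ConcreteCategory.congr_hom e a
  exact fun U hU => ⟨fun x y => (h0 U hU x).trans (h0 U hU y).symm⟩

variable [HasInjectiveResolutions (BigSite.Mod Kf T)]

/-- Injective resolutions give enough injectives. -/
lemma enoughInjectives_mod : EnoughInjectives (BigSite.Mod Kf T) :=
  ⟨fun M => ⟨{ J := (injectiveResolution M).cocomplex.X 0, f := (injectiveResolution M).ι.f 0 }⟩⟩

theorem parasitic_rpush_succ (i : ℕ) : ∀ (M : BigSite.Mod Kf T), TExact ((BigSite.toAbMod Kf T).obj M) →
    FFl ((BigSite.toAbMod Kf T).obj M) → parasitic Kf S ((BigSite.RpushMod Kf f (i + 1)).obj M) := by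
  haveI := enoughInjectives_mod (T := T)
  haveI : PreservesFiniteLimits (BigSite.pushMod Kf f) :=
    haveI := (BigSite.modAdj Kf f).rightAdjoint_preservesLimits
    PreservesLimitsOfSize.preservesFiniteLimits.{0, 0} _
  have hse : ∀ M, ((SiteCoh.embedSeq M).map (BigSite.toAbMod Kf T)).ShortExact := fun M =>
    (SiteCoh.embedSeq_shortExact M).map_of_exact _
  induction i with
  | zero =>
    intro M h₁ hf
    obtain ⟨e⟩ := CmpSite.rightDerived_one (BigSite.pushMod Kf f) (SiteCoh.embedSeq_shortExact M)
    refine parasitic_of_iso e.symm (parasitic_cokernel _ fun U hU => ?_)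
    exact surjective_flat (hse M) h₁ hf ((Over.pullback f).obj U) (flat_pullback f U hU)
  | succ i ih =>
    intro M h₁ hf
    obtain ⟨e⟩ := CmpSite.rightDerived_shift (BigSite.pushMod Kf f) (SiteCoh.embedSeq_shortExact M) i
    exact parasitic_of_iso e.symm (ih _
      (texact_quotient (hse M) h₁ (texact_injectiveMod _)) (ffl_quotient (hse M) h₁ hf (ffl_injectiveMod _)))

/-- The higher direct images of a parasitic adequate module are parasitic. -/
theorem parasitic_rpush (M : BigSite.Mod Kf T) (hM : adequateMod Kf T M) (hP : parasitic Kf T M) (i : ℕ) :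
    parasitic Kf S ((BigSite.RpushMod Kf f i).obj M) := by
  haveI : PreservesFiniteLimits (BigSite.pushMod Kf f) :=
    haveI := (BigSite.modAdj Kf f).rightAdjoint_preservesLimits
    PreservesLimitsOfSize.preservesFiniteLimits.{0, 0} _
  cases i with
  | zero =>
    refine parasitic_of_iso ((BigSite.pushMod Kf f).rightDerivedZeroIsoSelf.app M).symm fun U hU => ?_
    exact hP _ (flat_pullback f U hU)
  | succ i =>
    refine parasitic_rpush_succ f i M (texact_adequate M hM) fun W hW V j hj x => ⟨0, ?_⟩
    haveI := hP V (by rw [← Over.w j]; haveI := hj; haveI := hW; infer_instance)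
    exact Subsingleton.elim (α := BigSite.sectMod Kf M V) _ _

end Rpush

end Groth.Agent.AdeqLib
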