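import Groth.Agent.AdeqLib.Amitsur1
import Mathlib.Algebra.BigOperators.Fin
import Mathlib.LinearAlgebra.TensorProduct.RightExactness

/-!
Tensor powers of an algebra and exactness of the Amitsur complex of an adequate functor in all degrees.
-/

set_option autoImplicit false
set_option linter.style.haveILetI false
set_option backward.isDefEq.respectTransparency false
universe u v

noncomputable section

namespace Groth.Agent.AdeqLib

open CategoryTheory TensorProduct
open Adeq (MVF Alg pt ptHom underline adequate algOf)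

variable {R : Type u} [CommRing R] (C : Type u) [CommRing C] [Algebra R C]

/-- The tensor powers. -/
def tpow : ℕ → Alg R
  | 0 => algOf R R
  | m + 1 => algOf R (C ⊗[R] (tpow m : Type u))

/-- Add a factor on the left. -/
def tR (m : ℕ) : tpow (R := R) C m ⟶ tpow C (m + 1) :=
  CommAlgCat.ofHom (Algebra.TensorProduct.includeRight :
    (tpow (R := R) C m : Type u) →ₐ[R] C ⊗[R] (tpow (R := R) C m : Type u))

/-- The first factor. -/
def tL (m : ℕ) : algOf R C ⟶ tpow C (m + 1) :=
  CommAlgCat.ofHom (Algebra.TensorProduct.includeLeft :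
    C →ₐ[R] C ⊗[R] (tpow (R := R) C m : Type u))

/-- Extend a map to one more factor. -/
def tMap {m m' : ℕ} (f : tpow (R := R) C m ⟶ tpow C m') : tpow (R := R) C (m + 1) ⟶ tpow C (m' + 1) :=
  CommAlgCat.ofHom (Algebra.TensorProduct.map (AlgHom.id R C) f.hom)

/-- The cofaces. -/
def face : ∀ m, Fin (m + 1) → (tpow (R := R) C m ⟶ tpow C (m + 1))
  | 0, _ => tR C 0
  | m + 1, k => Fin.cases (tR C (m + 1)) (fun j => tMap C (face m j)) k

/-- The factors. -/
def tproj : ∀ m, Fin m → (algOf R C ⟶ tpow C m)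
  | 0, i => i.elim0
  | m + 1, i => Fin.cases (tL C m) (fun j => tproj m j ≫ tR C m) i

lemma tproj_face : ∀ m (k : Fin (m + 1)) (i : Fin m),
    tproj (R := R) C m i ≫ face C m k = tproj C (m + 1) (k.succAbove i)
  | 0, _, i => i.elim0
  | m + 1, k, i => by
    refine Fin.cases ?_ (fun j => ?_) k
    · rw [Fin.succAbove_zero]
      rfl
    · refine Fin.cases ?_ (fun l => ?_) i
      · rw [Fin.succ_succAbove_zero]
        simp only [tproj, face, Fin.cases_zero, Fin.cases_succ]
        apply CommAlgCat.hom_ext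
        exact Algebra.TensorProduct.map_comp_includeLeft _ _
      · rw [Fin.succ_succAbove_succ]
        change (tproj C m l ≫ tR C m) ≫ tMap C (face C m j) = tproj C (m + 1) (j.succAbove l) ≫ tR C (m + 1)
        rw [← tproj_face m j l, Category.assoc, Category.assoc]
        refine congrArg (tproj C m l ≫ ·) ?_
        apply CommAlgCat.hom_ext
        exact Algebra.TensorProduct.map_comp_includeRight _ _

lemma exists_tlift {D : Alg R} : ∀ m (φ : Fin m → (algOf R C ⟶ D)),
    ∃ ψ : tpow C m ⟶ D, ∀ i, tproj C m i ≫ ψ = φ i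
  | 0, _ => ⟨CommAlgCat.ofHom (Algebra.ofId R D), fun i => i.elim0⟩
  | m + 1, φ => by
    obtain ⟨ψ, hψ⟩ := exists_tlift m fun i => φ i.succ
    refine ⟨CommAlgCat.ofHom (Algebra.TensorProduct.lift (φ 0).hom ψ.hom fun x y => mul_comm ((φ 0).hom x) (ψ.hom y)), fun i => ?_⟩
    refine Fin.cases ?_ (fun j => ?_) i
    · apply CommAlgCat.hom_ext
      exact Algebra.TensorProduct.lift_comp_includeLeft _ _ (fun x y => mul_comm ((φ 0).hom x) (ψ.hom y))
    · simp only [tproj, Fin.cases_succ, Category.assoc]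
      refine Eq.trans (congrArg (tproj C m j ≫ ·) ?_) (hψ j)
      apply CommAlgCat.hom_ext
      exact Algebra.TensorProduct.lift_comp_includeRight _ _ (fun x y => mul_comm ((φ 0).hom x) (ψ.hom y))

lemma tpow_hom_ext {D : Alg R} : ∀ {m} {f g : tpow C m ⟶ D}, (∀ i, tproj C m i ≫ f = tproj C m i ≫ g) → f = g
  | 0, f, g, _ => CommAlgCat.hom_ext (@Subsingleton.elim (R →ₐ[R] D) _ f.hom g.hom)
  | m + 1, f, g, h => by
    apply CommAlgCat.hom_ext
    refine Algebra.TensorProduct.ext ?_ ?_
    · exact congrArg (fun q => q.hom) (h 0)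
    · have e : tR C m ≫ f = tR C m ≫ g := tpow_hom_ext fun i => by
        simpa [tproj, Fin.cases_succ] using h i.succ
      exact congrArg (fun q => q.hom) e

/-! ### The differential -/

/-- The alternating sum of the cofaces. -/
def tD (m : ℕ) : (tpow (R := R) C m : Type u) →ₗ[R] C ⊗[R] (tpow (R := R) C m : Type u) :=
  ∑ k : Fin (m + 1), (-1 : ℤ) ^ (k : ℕ) • (face C m k).hom.toLinearMap

lemma sum_cases (X : Alg R) {n : ℕ} (f : Fin n → (X ⟶ algOf R (C ⊗[R] (X : Type u))))
    (g : Fin (n + 1) → (algOf R (C ⊗[R] (X : Type u)) ⟶ algOf R (C ⊗[R] (C ⊗[R] (X : Type u)))))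
    (hg₀ : ∀ z, (g 0).hom z = (1 : C) ⊗ₜ[R] z)
    (hg : ∀ (j : Fin n) (c : C) (x : X), (g j.succ).hom (c ⊗ₜ[R] x) = c ⊗ₜ[R] (f j).hom x) :
    (∑ k : Fin (n + 1), (-1 : ℤ) ^ (k : ℕ) • (g k).hom.toLinearMap) =
      amNext (∑ j : Fin n, (-1 : ℤ) ^ (j : ℕ) • (f j).hom.toLinearMap) := by
  refine TensorProduct.ext' fun c x => ?_
  simp [amNext, Fin.sum_univ_succ, hg₀, hg, TensorProduct.tmul_sum, pow_succ, sub_eq_add_neg,
    TensorProduct.tmul_smul, -zsmul_eq_mul]

lemma tD_succ (m : ℕ) : tD (R := R) C (m + 1) = amNext (tD C m) :=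
  sum_cases C (tpow C m) (face C m) (face C (m + 1)) (fun _ => rfl) fun _ _ _ => rfl

lemma tD_zero_apply (x : (tpow (R := R) C 0 : Type u)) : tD C 0 x = (1 : C) ⊗ₜ[R] x := by
  simp [tD, face, tR]
  rfl

omit C in
lemma amNext_amNext {C X : Type u} [CommRing C] [Algebra R C] [AddCommGroup X] [Module R X]
    (d : X →ₗ[R] C ⊗[R] X) (h : amNext d ∘ₗ d = 0) : amNext (amNext d) ∘ₗ amNext d = 0 :=
  amNext_comp d h fun y => ⟨-y, by simp [amNext]⟩

omit C in
lemma amNext_base {C X : Type u} [CommRing C] [Algebra R C] [AddCommGroup X] [Module R X]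
    (d : X →ₗ[R] C ⊗[R] X) (h : ∀ x, d x = (1 : C) ⊗ₜ[R] x) : amNext d ∘ₗ d = 0 :=
  LinearMap.ext fun x => by simp [amNext, h]

lemma amNext_tD : ∀ m, amNext (tD (R := R) C m) ∘ₗ tD C m = 0
  | 0 => amNext_base _ (tD_zero_apply C)
  | m + 1 => by
    rw [tD_succ]
    exact amNext_amNext (tD C m) (amNext_tD m)

variable {C}

/-- The differential with coefficients in a module. -/
def tDM (C : Type u) [CommRing C] [Algebra R C] (M : Type v) [AddCommGroup M] [Module R M] (m : ℕ) :
    (tpow (R := R) C m : Type u) ⊗[R] M →ₗ[R] (tpow (R := R) C (m + 1) : Type u) ⊗[R] M :=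
  (tD C m).rTensor M

lemma rTensor_exact {X : Type u} [AddCommGroup X] [Module R X] [Module.FaithfullyFlat R C]
    (d : X →ₗ[R] C ⊗[R] X) (h : amNext d ∘ₗ d = 0) (M : Type v) [AddCommGroup M] [Module R M] :
    Function.Exact (d.rTensor M) ((amNext d).rTensor M) := by
  let dM : X ⊗[R] M →ₗ[R] C ⊗[R] (X ⊗[R] M) := (TensorProduct.assoc R C X M).toLinearMap ∘ₗ d.rTensor M
  let a₂ : (C ⊗[R] (C ⊗[R] X)) ⊗[R] M ≃ₗ[R] C ⊗[R] (C ⊗[R] (X ⊗[R] M)) :=
    (TensorProduct.assoc R C (C ⊗[R] X) M).trans ((TensorProduct.assoc R C X M).lTensor C)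
  have hk : ∀ w, amNext dM (TensorProduct.assoc R C X M w) = a₂ ((amNext d).rTensor M w) := by
    intro w
    induction w using TensorProduct.induction_on with
    | zero => simp
    | add x y hx hy => simp only [map_add, hx, hy]
    | tmul q m =>
      induction q using TensorProduct.induction_on with
      | zero => simp
      | add x y hx hy => simp only [TensorProduct.add_tmul, map_add, hx, hy]
      | tmul c x =>
        rw [LinearMap.rTensor_tmul]
        simp [amNext, dM, a₂, TensorProduct.sub_tmul]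
  have h0 : amNext dM ∘ₗ dM = 0 := LinearMap.ext fun z => by
    change amNext dM (TensorProduct.assoc R C X M (d.rTensor M z)) = 0
    rw [hk, ← LinearMap.comp_apply, ← LinearMap.rTensor_comp, h, LinearMap.rTensor_zero, LinearMap.zero_apply,
      map_zero]
  intro w
  constructor
  · intro hw
    obtain ⟨z, hz⟩ := (amNext_exact dM h0 (TensorProduct.assoc R C X M w)).mp (by rw [hk, hw, map_zero])
    exact ⟨z, (TensorProduct.assoc R C X M).injective hz⟩
  · rintro ⟨z, rfl⟩
    rw [← LinearMap.comp_apply, ← LinearMap.rTensor_comp, h, LinearMap.rTensor_zero, LinearMap.zero_apply]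

lemma rTensor_comp_zero {X : Type u} [AddCommGroup X] [Module R X]
    (d : X →ₗ[R] C ⊗[R] X) (h : amNext d ∘ₗ d = 0) (M : Type v) [AddCommGroup M] [Module R M] (x : X ⊗[R] M) :
    (amNext d).rTensor M (d.rTensor M x) = 0 := by
  rw [← LinearMap.comp_apply, ← LinearMap.rTensor_comp, h, LinearMap.rTensor_zero, LinearMap.zero_apply]

lemma tDM_exact [Module.FaithfullyFlat R C] (M : Type v) [AddCommGroup M] [Module R M] (m : ℕ) :
    Function.Exact (tDM C M m) (tDM (R := R) C M (m + 1)) := by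
  unfold tDM
  rw [tD_succ]
  exact rTensor_exact _ (amNext_tD C m) M

lemma tDM_comp (M : Type v) [AddCommGroup M] [Module R M] (m : ℕ) (x : (tpow (R := R) C m : Type u) ⊗[R] M) :
    tDM C M (m + 1) (tDM C M m x) = 0 := by
  refine (congrArg (fun D => LinearMap.rTensor M D (tDM C M m x)) (tD_succ C m)).trans ?_
  exact rTensor_comp_zero (tD C m) (amNext_tD C m) M x

lemma tDM_baseChange {M N : ModuleCat.{u + 1} R} (g : M →ₗ[R] N) (m : ℕ)
    (x : (tpow (R := R) C m : Type u) ⊗[R] M) :
    tDM C N m (g.baseChange (tpow (R := R) C m) x) = g.baseChange (tpow (R := R) C (m + 1)) (tDM C M m x) :=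
  rTensor_baseChange (B := tpow C m) (B' := tpow C (m + 1)) (tD C m) g x

/-- The Amitsur differential of a module-valued functor. -/
def tdF (C : Type u) [CommRing C] [Algebra R C] (F : MVF R) (m : ℕ) :
    F.obj (pt (tpow C m)) →+ F.obj (pt (tpow C (m + 1))) :=
  ∑ k : Fin (m + 1), (-1 : ℤ) ^ (k : ℕ) • mp F (face C m k)

omit C in
lemma sum_rTensor {X X' : Alg R} {n : ℕ} (f : Fin n → (X ⟶ X')) (M : Type v) [AddCommGroup M] [Module R M]
    (v : (X : Type u) ⊗[R] M) :
    (∑ k : Fin n, (-1 : ℤ) ^ (k : ℕ) • (f k).hom.toLinearMap).rTensor M v =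
      ∑ k : Fin n, (-1 : ℤ) ^ (k : ℕ) • (f k).hom.toLinearMap.rTensor M v := by
  induction v using TensorProduct.induction_on with
  | zero => simp
  | add x y hx hy => simp only [map_add, smul_add, Finset.sum_add_distrib, hx, hy]
  | tmul t y =>
    rw [LinearMap.rTensor_tmul, LinearMap.sum_apply, TensorProduct.sum_tmul]
    exact Finset.sum_congr rfl fun k _ => by rw [LinearMap.smul_apply, LinearMap.rTensor_tmul, TensorProduct.smul_tmul']

lemma toU_tdF {F : MVF R} {M : ModuleCat.{u + 1} R} (ι : F ⟶ (underline R).obj M) (m : ℕ) (x : F.obj (pt (tpow C m))) :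
    toU ι (tpow C (m + 1)) (tdF C F m x) = tDM C M m (toU ι (tpow C m) x) := by
  have e : ∀ v, tDM C M m v =
      ∑ k : Fin (m + 1), (-1 : ℤ) ^ (k : ℕ) • (face (R := R) C m k).hom.toLinearMap.rTensor M v :=
    sum_rTensor (fun k => face (R := R) C m k) M
  rw [e]
  unfold tdF
  simp only [AddMonoidHom.finsetSum_apply, map_sum]
  refine Finset.sum_congr rfl fun k _ => ?_
  simp only [AddMonoidHom.smul_apply, map_zsmul, toU_mp]

/-- Exactness of the Amitsur complex of an adequate functor in all positive degrees. -/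
theorem adequate_tdF_exact [Module.FaithfullyFlat R C] {F : MVF R} (hF : adequate R F) (m : ℕ)
    (z : F.obj (pt (tpow C (m + 2)))) (hz : tdF C F (m + 2) z = 0) : ∃ y, tdF C F (m + 1) y = z := by
  obtain ⟨M, N, n, ι, hinj, hran⟩ := exists_emb hF
  obtain ⟨w, hw⟩ := (tDM_exact M (m + 1) (toU ι (tpow C (m + 2)) z)).mp (by
    rw [← toU_tdF, hz, map_zero])
  obtain ⟨q, hq⟩ := (tDM_exact N m (n.hom.baseChange (tpow C (m + 1)) w)).mp (by
    rw [tDM_baseChange, hw]
    exact (hran _ _).mp ⟨z, rfl⟩)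
  let Q : ModuleCat.{u + 1} R := ModuleCat.of R (N ⧸ LinearMap.range n.hom)
  let n' : N →ₗ[R] Q := (LinearMap.range n.hom).mkQ
  have hex : ∀ j, Function.Exact (n.hom.baseChange (tpow (R := R) C j)) (n'.baseChange (tpow (R := R) C j)) := fun j =>
    lTensor_exact (Q := (tpow (R := R) C j : Type u)) (LinearMap.exact_map_mkQ_range n.hom) (Submodule.mkQ_surjective _)
  have hsurj : ∀ j, Function.Surjective (n'.baseChange (tpow (R := R) C j)) := fun j =>
    LinearMap.lTensor_surjective (tpow (R := R) C j : Type u) (Submodule.mkQ_surjective _)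
  -- adjust `q` to lie in the image
  obtain ⟨q', hq', hq0⟩ : ∃ q', tDM C N m q' = tDM C N m q ∧ n'.baseChange (tpow (R := R) C m) q' = 0 := by
    have hd : tDM C Q m (n'.baseChange (tpow (R := R) C m) q) = 0 := by
      rw [tDM_baseChange, hq]
      exact (hex _ _).mpr ⟨w, rfl⟩
    cases m with
    | zero =>
      refine ⟨q, rfl, ?_⟩
      have hinjQ : ∀ x, tDM (R := R) C Q 0 x = 0 → x = 0 := by
        intro x hx
        refine Module.FaithfullyFlat.tensorProduct_mk_injective (A := R) (B := C) ((tpow (R := R) C 0 : Type u) ⊗[R] Q) ?_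
        rw [map_zero]
        refine Eq.trans ?_ ((congrArg (TensorProduct.assoc R C (tpow (R := R) C 0 : Type u) Q) hx).trans (map_zero _))
        clear hx
        induction x using TensorProduct.induction_on with
        | zero => simp [tDM]
        | add x y hx hy => simp only [map_add, hx, hy]
        | tmul t y =>
          change _ = TensorProduct.assoc R C (tpow (R := R) C 0 : Type u) Q ((tD C 0 t) ⊗ₜ[R] y)
          rw [tD_zero_apply]
          rfl
      exact hinjQ _ hd
    | succ j =>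
      obtain ⟨r, hr⟩ := (tDM_exact Q j _).mp hd
      obtain ⟨r', rfl⟩ := hsurj j r
      refine ⟨q - tDM C N j r', ?_, ?_⟩
      · rw [map_sub, tDM_comp, sub_zero]
      · rw [map_sub, ← tDM_baseChange, hr, sub_self]
  obtain ⟨k, hk⟩ := (hex m q').mp hq0
  obtain ⟨y, hy⟩ := (hran (tpow C (m + 1)) (w - tDM C M m k)).mpr (by
    rw [map_sub, ← tDM_baseChange, hk, hq', hq, sub_self])
  refine ⟨y, hinj _ ?_⟩
  rw [toU_tdF, hy, map_sub, tDM_comp, sub_zero]
  exact hw

end Groth.Agent.AdeqLib
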