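import Groth.Agent.AdeqLib.InjHtpy
import Groth.Agent.AdeqLib.Ext
import Groth.Agent.AdeqLib.TPow
import Groth.Agent.SiteCoh.Basic

/-!
Abelian sheaves on the big fppf site with exact Amitsur complexes: injective sheaves, adequate modules,
quotients; vanishing of the higher cohomology on affine schemes.
-/

set_option autoImplicit false
set_option linter.style.haveILetI false
set_option backward.isDefEq.respectTransparency false
universe u

noncomputable section

namespace Groth.Agent.AdeqLib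

open CategoryTheory Limits Opposite AlgebraicGeometry TensorProduct
open Adeq (MVF Alg pt algOf adequate adequateMod toMVF specOver)

local notation "Kf" => Scheme.fppfPrecoverage

variable {S : Scheme.{u}}

/-- The spectrum of an algebra as an object over `S`. -/
abbrev sp {R : CommRingCat.{u}} (a : Spec R ⟶ S) (D : Alg R) : Over S := (specOver a).obj (op D)

/-- The map of spectra. -/
abbrev spm {R : CommRingCat.{u}} (a : Spec R ⟶ S) {D D' : Alg R} (f : D ⟶ D') : sp a D' ⟶ sp a D :=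
  (specOver a).map f.op

lemma spm_comp {R : CommRingCat.{u}} (a : Spec R ⟶ S) {D D' D'' : Alg R} (f : D ⟶ D') (g : D' ⟶ D'') :
    spm a (f ≫ g) = spm a g ≫ spm a f := by
  simp only [spm, op_comp, Functor.map_comp]

/-- A presheaf as a functor of algebras. -/
abbrev algF {R : CommRingCat.{u}} (a : Spec R ⟶ S) (P : (Over S)ᵒᵖ ⥤ AddCommGrpCat.{u + 1}) :
    Alg R ⥤ AddCommGrpCat.{u + 1} :=
  (specOver a).rightOp ⋙ P

section Diff

variable {R : Type u} [CommRing R] (B : Type u) [CommRing B] [Algebra R B]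

/-- The differential of a functor of algebras. -/
def dA (F : Alg R ⥤ AddCommGrpCat.{u + 1}) (m : ℕ) : F.obj (tpow B m) →+ F.obj (tpow B (m + 1)) :=
  ∑ k : Fin (m + 1), (-1 : ℤ) ^ (k : ℕ) • (F.map (face B m k)).hom

lemma dA_apply (F : Alg R ⥤ AddCommGrpCat.{u + 1}) (m : ℕ) (x : F.obj (tpow B m)) :
    dA B F m x = ∑ k : Fin (m + 1), (-1 : ℤ) ^ (k : ℕ) • F.map (face B m k) x := by
  simp only [dA, AddMonoidHom.finsetSum_apply, AddMonoidHom.smul_apply]

/-- Adding a factor. -/
def tensF : Alg R ⥤ Alg R where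
  obj D := algOf R (B ⊗[R] (D : Type u))
  map f := CommAlgCat.ofHom (Algebra.TensorProduct.map (AlgHom.id R B) f.hom)
  map_id D := CommAlgCat.hom_ext (Algebra.TensorProduct.ext (AlgHom.ext fun b => rfl) (AlgHom.ext fun d => rfl))
  map_comp f g := CommAlgCat.hom_ext
    (Algebra.TensorProduct.ext (AlgHom.ext fun b => by simp) (AlgHom.ext fun d => by simp))

lemma tR_natural {m m' : ℕ} (f : tpow (R := R) B m ⟶ tpow B m') :
    tR B m ≫ tMap B f = f ≫ tR B m' := by
  apply CommAlgCat.hom_ext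
  exact Algebra.TensorProduct.map_comp_includeRight _ _

/-- The differential of the functor with one more factor. -/
def dT (F : Alg R ⥤ AddCommGrpCat.{u + 1}) (m : ℕ) : F.obj (tpow B (m + 1)) →+ F.obj (tpow B (m + 2)) :=
  dA B (tensF B ⋙ F) m

lemma dT_apply (F : Alg R ⥤ AddCommGrpCat.{u + 1}) (m : ℕ) (x : F.obj (tpow B (m + 1))) :
    dT B F m x = ∑ k : Fin (m + 1), (-1 : ℤ) ^ (k : ℕ) • F.map (tMap B (face B m k)) x :=
  dA_apply B (tensF B ⋙ F) m x

lemma dA_succ (F : Alg R ⥤ AddCommGrpCat.{u + 1}) (m : ℕ) (x : F.obj (tpow B (m + 1))) :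
    dA B F (m + 1) x = F.map (tR B (m + 1)) x - dT B F m x := by
  rw [dA_apply]
  refine (Fin.sum_univ_succ _).trans ?_
  rw [dT_apply, sub_eq_add_neg]
  refine Eq.trans ?_ (congrArg (_ + ·) (Finset.sum_neg_distrib _))
  refine congr_arg₂ (· + ·) ?_ (Finset.sum_congr rfl fun k _ => ?_)
  · simp only [Fin.val_zero, pow_zero, one_smul]
    rfl
  · rw [Fin.val_succ, pow_succ, mul_neg, mul_one, neg_smul]
    rfl

lemma dA_dA (m : ℕ) : ∀ (F : Alg R ⥤ AddCommGrpCat.{u + 1}) (x : F.obj (tpow B m)),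
    dA B F (m + 1) (dA B F m x) = 0 := by
  induction m with
  | zero =>
    intro F x
    have e₀ : dA B F 0 x = F.map (face B 0 0) x := by
      rw [dA_apply]
      exact (Fin.sum_univ_one _).trans (one_smul ℤ _)
    have e₁ : ∀ y : F.obj (tpow B (0 + 1)), dT B F 0 y = F.map (tMap B (face B 0 0)) y := fun y => by
      rw [dT_apply]
      exact (Fin.sum_univ_one _).trans (one_smul ℤ _)
    rw [dA_succ, e₁, e₀, sub_eq_zero, ← ConcreteCategory.comp_apply, ← ConcreteCategory.comp_apply, ← F.map_comp, ← F.map_comp]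
    exact congrArg (fun q => F.map q x) (tpow_hom_ext B fun i => i.elim0)
  | succ m ih =>
    intro F x
    have e : ∀ y : F.obj (tpow B (m + 2)), dA B F (m + 2) y = F.map (tR B (m + 2)) y - dT B F (m + 1) y :=
      fun y => dA_succ B F (m + 1) y
    rw [e]
    refine Eq.trans (congrArg₂ (· - ·) rfl ?_) (sub_self (F.map (tR B (m + 2)) (dA B F (m + 1) x)))
    refine (congrArg (dT B F (m + 1)) (dA_succ B F m x)).trans ?_
    rw [map_sub, show dT B F (m + 1) (dT B F m x) = 0 from ih (tensF B ⋙ F) x, sub_zero, dT_apply, dA_apply, map_sum]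
    refine Finset.sum_congr rfl fun k _ => ?_
    rw [map_zsmul]
    refine congrArg (HSMul.hSMul ((-1 : ℤ) ^ (k : ℕ))) ?_
    rw [← ConcreteCategory.comp_apply, ← ConcreteCategory.comp_apply]
    refine Eq.trans ?_ (congrArg (fun q => q x) (F.map_comp _ _))
    refine Eq.trans (congrArg (fun q => q x) (F.map_comp (tR B (m + 1)) (tMap B (face B (m + 1) k))).symm) ?_
    rw [tR_natural]

end Diff

/-- Exactness of all Amitsur complexes in positive degrees. -/
def TExact (G : BigSite.Ab Kf S) : Prop :=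
  ∀ (R : CommRingCat.{u}) (a : Spec R ⟶ S) (B : Type u) [CommRing B] [Algebra R B] [Module.FaithfullyFlat R B]
    (m : ℕ) (z : (algF a G.obj).obj (tpow B (m + 2))), dA B (algF a G.obj) (m + 2) z = 0 →
      ∃ y, dA B (algF a G.obj) (m + 1) y = z

/-- Adequate modules have exact Amitsur complexes. -/
theorem texact_adequate (M : BigSite.Mod Kf S) (hM : adequateMod Kf S M) :
    TExact ((BigSite.toAbMod Kf S).obj M) := by
  intro R a B _ _ _ m z hz
  have e : ∀ j (x : (algF a ((BigSite.toAbMod Kf S).obj M).obj).obj (tpow B j)),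
      dA B (algF a ((BigSite.toAbMod Kf S).obj M).obj) j x = tdF B ((toMVF Kf a).obj M) j x := by
    intro j x
    rw [dA_apply]
    simp only [tdF, AddMonoidHom.finsetSum_apply, AddMonoidHom.smul_apply]
    rfl
  rw [e] at hz
  obtain ⟨y, hy⟩ := adequate_tdF_exact (adequate_toMVF_fppf M hM a) m z hz
  exact ⟨y, (e _ _).trans hy⟩

/-! ### Injective sheaves -/

section Pair

variable {R : CommRingCat.{u}} (a : Spec R ⟶ S)

lemma pair_ext {B : Type u} [CommRing B] [Algebra R B] {n : ℕ} {V : Over S}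
    {g g' : V ⟶ sp a (tpow B (n + 1))} (h₁ : g ≫ spm a (tL B n) = g' ≫ spm a (tL B n))
    (h₂ : g ≫ spm a (tR B n) = g' ≫ spm a (tR B n)) : g = g' := by
  ext : 1
  have e₁ : g.left ≫ Spec.map (CommRingCat.ofHom Algebra.TensorProduct.includeLeftRingHom) =
      g'.left ≫ Spec.map (CommRingCat.ofHom Algebra.TensorProduct.includeLeftRingHom) :=
    congrArg (fun q => q.left) h₁
  have e₂ : g.left ≫ Spec.map (CommRingCat.ofHom (AlgHom.toRingHom
        (Algebra.TensorProduct.includeRight : (tpow (R := R) B n : Type u) →ₐ[R] B ⊗[R] (tpow (R := R) B n : Type u)))) =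
      g'.left ≫ Spec.map (CommRingCat.ofHom (AlgHom.toRingHom
        (Algebra.TensorProduct.includeRight : (tpow (R := R) B n : Type u) →ₐ[R] B ⊗[R] (tpow (R := R) B n : Type u)))) :=
    congrArg (fun q => q.left) h₂
  refine (cancel_mono (pullbackSpecIso R B (tpow (R := R) B n : Type u)).inv).mp (pullback.hom_ext ?_ ?_)
  · rw [Category.assoc, Category.assoc, pullbackSpecIso_inv_fst]
    exact e₁
  · rw [Category.assoc, Category.assoc]
    exact (congrArg (g.left ≫ ·) (pullbackSpecIso_inv_snd R B _)).trans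
      (e₂.trans (congrArg (g'.left ≫ ·) (pullbackSpecIso_inv_snd R B _)).symm)

lemma exists_pair {B : Type u} [CommRing B] [Algebra R B] {n : ℕ} {V : Over S}
    (gi : V ⟶ sp a (algOf R B)) (gj : V ⟶ sp a (tpow B n))
    (e : gi ≫ spm a (CommAlgCat.ofHom (Algebra.ofId R B) : algOf R R ⟶ algOf R B) =
      gj ≫ spm a (CommAlgCat.ofHom (Algebra.ofId R (tpow (R := R) B n : Type u)) : algOf R R ⟶ tpow B n)) :
    ∃ g : V ⟶ sp a (tpow B (n + 1)), g ≫ spm a (tL B n) = gi ∧ g ≫ spm a (tR B n) = gj := by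
  have w : gi.left ≫ Spec.map (CommRingCat.ofHom (algebraMap R B)) =
      gj.left ≫ Spec.map (CommRingCat.ofHom (algebraMap R (tpow (R := R) B n : Type u))) :=
    congrArg (fun q => q.left) e
  let h₀ := pullback.lift gi.left gj.left w ≫ (pullbackSpecIso R B (tpow (R := R) B n : Type u)).hom
  have h1 : h₀ ≫ Spec.map (CommRingCat.ofHom Algebra.TensorProduct.includeLeftRingHom) = gi.left := by
    rw [Category.assoc, pullbackSpecIso_hom_fst, pullback.lift_fst]
  have h2 : h₀ ≫ Spec.map (CommRingCat.ofHom (AlgHom.toRingHom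
      (Algebra.TensorProduct.includeRight : (tpow (R := R) B n : Type u) →ₐ[R] B ⊗[R] (tpow (R := R) B n : Type u)))) =
      gj.left := by
    rw [Category.assoc]
    exact (congrArg (_ ≫ ·) (pullbackSpecIso_hom_snd R B _)).trans (pullback.lift_snd _ _ _)
  refine ⟨Over.homMk h₀ ?_, Over.OverMorphism.ext h1, Over.OverMorphism.ext h2⟩
  refine Eq.trans ?_ (Over.w gi)
  rw [← h1]
  exact ((congrArg (h₀ ≫ ·) (Over.w (spm a (tL B n))).symm).trans (Category.assoc _ _ _).symm)

variable (B : Type u) [CommRing B] [Algebra R B]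

/-- The composite to the base. -/
abbrev toBase (D : Alg R) : sp a D ⟶ sp a (algOf R R) :=
  spm a (CommAlgCat.ofHom (Algebra.ofId R (D : Type u)) : algOf R R ⟶ D)

lemma spm_toBase {D D' : Alg R} (f : D ⟶ D') : spm a f ≫ toBase a D = toBase a D' := by
  rw [toBase, ← spm_comp]
  exact congrArg (spm a) (CommAlgCat.hom_ext (@Subsingleton.elim (R →ₐ[R] D') _ _ _))

/-- A chosen lift to the covering, depending only on the map to the base. -/
def liftB {V : Over S} (b : V ⟶ sp a (algOf R R)) (h : ∃ s : V ⟶ sp a (algOf R B), s ≫ toBase a (algOf R B) = b) :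
    V ⟶ sp a (algOf R B) := h.choose

lemma liftB_congr {V : Over S} {b b' : V ⟶ sp a (algOf R R)} (e : b = b')
    (h : ∃ s : V ⟶ sp a (algOf R B), s ≫ toBase a (algOf R B) = b)
    (h' : ∃ s : V ⟶ sp a (algOf R B), s ≫ toBase a (algOf R B) = b') : liftB a B b h = liftB a B b' h' := by
  subst e; rfl

lemma exists_toBase {n : ℕ} {V : Over S} (f : V ⟶ sp a (tpow B (n + 1))) :
    ∃ s : V ⟶ sp a (algOf R B), s ≫ toBase a (algOf R B) = f ≫ toBase a (tpow B (n + 1)) :=
  ⟨f ≫ spm a (tL B n), by rw [Category.assoc, spm_toBase]⟩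

/-- The extra degeneracy. -/
def degen (n : ℕ) {V : Over S} (f : V ⟶ sp a (tpow B (n + 1))) : V ⟶ sp a (tpow B (n + 2)) :=
  (exists_pair a (liftB a B _ (exists_toBase a B f)) f (exists_toBase a B f).choose_spec).choose

lemma degen_tL (n : ℕ) {V : Over S} (f : V ⟶ sp a (tpow B (n + 1))) :
    degen a B n f ≫ spm a (tL B (n + 1)) = liftB a B _ (exists_toBase a B f) :=
  (exists_pair a (liftB a B _ (exists_toBase a B f)) f (exists_toBase a B f).choose_spec).choose_spec.1

lemma degen_tR (n : ℕ) {V : Over S} (f : V ⟶ sp a (tpow B (n + 1))) :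
    degen a B n f ≫ spm a (tR B (n + 1)) = f :=
  (exists_pair a (liftB a B _ (exists_toBase a B f)) f (exists_toBase a B f).choose_spec).choose_spec.2

lemma degen_face (n : ℕ) {V : Over S} (f : V ⟶ sp a (tpow B (n + 2))) (k : Fin (n + 2)) :
    degen a B (n + 1) f ≫ spm a (face B (n + 2) k.succ) = degen a B n (f ≫ spm a (face B (n + 1) k)) := by
  have hf : face (R := (R : Type u)) B (n + 2) k.succ = tMap B (face B (n + 1) k) := rfl
  have hL : tL (R := (R : Type u)) B (n + 1) ≫ tMap B (face B (n + 1) k) = tL B (n + 2) := by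
    apply CommAlgCat.hom_ext
    exact Algebra.TensorProduct.map_comp_includeLeft _ _
  rw [hf]
  refine pair_ext a ?_ ?_
  · rw [Category.assoc, ← spm_comp, hL, degen_tL, degen_tL]
    exact liftB_congr a B (by rw [Category.assoc, spm_toBase]) _ _
  · rw [Category.assoc, ← spm_comp, tR_natural, spm_comp, ← Category.assoc, degen_tR, degen_tR]

end Pair

/-- Injective sheaves have exact Amitsur complexes. -/
theorem texact_injective (I : BigSite.Ab Kf S) [Injective I] : TExact I := by
  intro R a B _ _ _ m z hz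
  haveI : Injective I.obj :=
    Injective.injective_of_adjoint (sheafificationAdjunction (QuotSh.J Kf S) AddCommGrpCat.{u + 1}) I
  exact injective_altD_exact (fun n => sp a (tpow B (n + 1))) (fun n k => spm a (face B (n + 1) k))
    (fun n {_} f => degen a B n f) (fun n {_} f => degen_tR a B n f) (fun n {_} f k => degen_face a B n f k) I.obj m z hz

/-! ### Short exact sequences -/

lemma isSheafFor_ab (G : BigSite.Ab Kf S) {U : Over S} {ι : Type*} {V : ι → Over S} (g : ∀ i, V i ⟶ U)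
    (hcov : Presieve.ofArrows (fun i => (V i).left) (fun i => (g i).left) ∈ Scheme.fppfPrecoverage.coverings U.left) :
    Presieve.IsSheafFor (G.obj ⋙ forget AddCommGrpCat.{u + 1}) (Presieve.ofArrows V g) := by
  have hsh : Presieve.IsSheaf (QuotSh.J Kf S) (G.obj ⋙ forget AddCommGrpCat.{u + 1}) :=
    (isSheaf_iff_isSheaf_of_type _ _).mp
      ((Presheaf.isSheaf_iff_isSheaf_forget _ _ (forget AddCommGrpCat.{u + 1})).mp G.property)
  rw [Presieve.isSheafFor_iff_generate]
  refine hsh _ ?_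
  change Sieve.generate (Presieve.ofArrows V g) ∈ (Scheme.fppfPrecoverage.toGrothendieck.over S) U
  rw [GrothendieckTopology.mem_over_iff, Sieve.overEquiv_generate]
  refine GrothendieckTopology.superset_covering _ ?_ (Precoverage.generate_mem_toGrothendieck hcov)
  rw [Sieve.generate_le_iff]
  rintro Z f ⟨i⟩
  apply Sieve.le_generate
  exact ⟨V i, g i, 𝟙 _, ⟨i⟩, (Category.id_comp _).symm⟩

lemma ab_glue (G : BigSite.Ab Kf S) {U : Over S} {ι : Type*} {V : ι → Over S} (g : ∀ i, V i ⟶ U)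
    (hcov : Presieve.ofArrows (fun i => (V i).left) (fun i => (g i).left) ∈ Scheme.fppfPrecoverage.coverings U.left) :
    (∀ x y : G.obj.obj (op U), (∀ i, G.obj.map (g i).op x = G.obj.map (g i).op y) → x = y) ∧
    ∀ y : ∀ i, G.obj.obj (op (V i)),
      (∀ i j (W : Over S) (gi : W ⟶ V i) (gj : W ⟶ V j), gi ≫ g i = gj ≫ g j →
        G.obj.map gi.op (y i) = G.obj.map gj.op (y j)) →
      ∃ x, ∀ i, G.obj.map (g i).op x = y i := by
  have h := (Presieve.isSheafFor_arrows_iff _ _).mp (isSheafFor_ab G g hcov)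
  refine ⟨fun x y hxy => ?_, fun y hy => ?_⟩
  · refine (h (fun i => G.obj.map (g i).op y) fun i j W gi gj e => ?_).unique (fun i => hxy i) (fun i => rfl)
    change G.obj.map gi.op (G.obj.map (g i).op y) = G.obj.map gj.op (G.obj.map (g j).op y)
    rw [← ConcreteCategory.comp_apply, ← ConcreteCategory.comp_apply, ← Functor.map_comp, ← Functor.map_comp,
      ← op_comp, ← op_comp, e]
  · exact (h y fun i j W gi gj e => hy i j W gi gj e).exists

lemma subsingleton_empty (G : BigSite.Ab Kf S) (W : Over S) [IsEmpty W.left] :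
    Subsingleton (G.obj.obj (op W)) := by
  refine ⟨fun x y => (ab_glue G (ι := PEmpty.{u + 1}) (V := fun i => i.elim) (fun i => i.elim) ?_).1 x y fun i => i.elim⟩
  exact fppf_ofArrows_iff.mpr ⟨fun w => isEmptyElim w, fun i => i.elim⟩

lemma glue_prod (G : BigSite.Ab Kf S) {R : CommRingCat.{u}} (a : Spec R ⟶ S) {n : ℕ} (A : Fin n → Type u)
    [∀ j, CommRing (A j)] [∀ j, Algebra R (A j)] :
    (∀ x y : (algF a G.obj).obj (algOf R (piAlg A)),
      (∀ j, (algF a G.obj).map (prj A j) x = (algF a G.obj).map (prj A j) y) → x = y) ∧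
    ∀ y : ∀ j, (algF a G.obj).obj (algOf R (A j)), ∃ x, ∀ j, (algF a G.obj).map (prj A j) x = y j := by
  have hcov : Presieve.ofArrows (fun j => (sp a (algOf R (A j))).left) (fun j => (spm a (prj A j)).left) ∈
      Scheme.fppfPrecoverage.coverings (sp a (algOf R (piAlg A))).left := by
    refine fppf_ofArrows_iff.mpr ⟨fun p => ?_, fun j => ?_⟩
    · obtain ⟨j, q, hq⟩ := PrimeSpectrum.exists_comap_evalRingHom_eq (R := A) p
      exact ⟨j, q, hq⟩
    · exact fppfP_imm (Spec.map (CommRingCat.ofHom (Pi.evalRingHom A j)))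
  obtain ⟨h₁, h₂⟩ := ab_glue G (fun j => spm a (prj A j)) hcov
  refine ⟨h₁, fun y => h₂ y fun i j W gi gj e => ?_⟩
  by_cases hij : i = j
  · subst hij
    have : Mono (spm a (prj A i)).left :=
      inferInstanceAs (Mono (Spec.map (CommRingCat.ofHom (Pi.evalRingHom A i))))
    obtain rfl : gi = gj := Over.OverMorphism.ext
      ((cancel_mono (spm a (prj A i)).left).mp (congrArg (fun q => q.left) e))
    rfl
  · haveI : IsEmpty W.left := ⟨fun w => by
      have e' : PrimeSpectrum.comap (Pi.evalRingHom A i) (gi.left.base w) =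
          PrimeSpectrum.comap (Pi.evalRingHom A j) (gj.left.base w) :=
        congrArg (fun q => q.left.base w) e
      have h0 : Pi.single (M := A) j 1 ∈ (PrimeSpectrum.comap (Pi.evalRingHom A i) (gi.left.base w)).asIdeal := by
        refine Ideal.mem_comap.mpr ?_
        simp [Pi.single_eq_of_ne hij]
      rw [e'] at h0
      have h0 := Ideal.mem_comap.mp h0
      simp only [Pi.evalRingHom_apply, Pi.single_eq_same] at h0
      exact (Ideal.ne_top_iff_one _).mp (Ideal.IsPrime.ne_top inferInstance) h0⟩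
    exact (subsingleton_empty G W).elim _ _

section Seq

variable {C : ShortComplex (BigSite.Ab Kf S)}

lemma sections_injective (hC : C.ShortExact) (U : Over S) : Function.Injective (C.f.hom.app (op U)) := by
  haveI := hC.mono_f
  let Φ : BigSite.Ab Kf S ⥤ AddCommGrpCat.{u + 1} :=
    sheafToPresheaf _ _ ⋙ (evaluation _ AddCommGrpCat.{u + 1}).obj (op U)
  haveI : PreservesFiniteLimits Φ := comp_preservesFiniteLimits _ _
  exact (AddCommGrpCat.mono_iff_injective (Φ.map C.f)).1 inferInstance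

lemma sections_exact (hC : C.ShortExact) {U : Over S} (x : C.X₂.obj.obj (op U))
    (hx : C.g.hom.app _ x = 0) : ∃ y, C.f.hom.app _ y = x := by
  let Φ : BigSite.Ab Kf S ⥤ AddCommGrpCat.{u + 1} :=
    sheafToPresheaf _ _ ⋙ (evaluation _ AddCommGrpCat.{u + 1}).obj (op U)
  haveI : PreservesFiniteLimits Φ := comp_preservesFiniteLimits _ _
  haveI := hC.mono_f
  exact (ShortComplex.ab_exact_iff _).1 (ShortComplex.exact_of_f_is_kernel
    (ShortComplex.mk (Φ.map C.f) (Φ.map C.g) (by rw [← Functor.map_comp, C.zero, Functor.map_zero]))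
    (KernelFork.mapIsLimit _ hC.fIsKernel Φ)) x hx

lemma g_f_zero (U : Over S) (y : C.X₁.obj.obj (op U)) : C.g.hom.app _ (C.f.hom.app _ y) = 0 :=
  ConcreteCategory.congr_hom (congrArg (fun m : C.X₁ ⟶ C.X₃ => m.hom.app (op U)) C.zero) y

omit C in
lemma map_dA {G H : BigSite.Ab Kf S} (φ : G ⟶ H) {R : CommRingCat.{u}} (a : Spec R ⟶ S) (B : Type u) [CommRing B]
    [Algebra R B] (m : ℕ) (x : (algF a G.obj).obj (tpow B m)) :
    φ.hom.app (op (sp a (tpow B (m + 1)))) (dA B (algF a G.obj) m x) =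
      dA B (algF a H.obj) m (φ.hom.app (op (sp a (tpow B m))) x) := by
  rw [dA_apply, dA_apply]
  refine (map_sum (φ.hom.app (op (sp a (tpow B (m + 1))))).hom _ _).trans (Finset.sum_congr rfl fun k _ => ?_)
  refine (map_zsmul (φ.hom.app (op (sp a (tpow B (m + 1))))).hom _ _).trans (congrArg _ ?_)
  exact NatTrans.naturality_apply φ.hom (spm a (face B m k)).op x

/-- Surjectivity on an affine object. -/
theorem surjective_base_ab (hC : C.ShortExact) (h₁ : TExact C.X₁) {R : CommRingCat.{u}} (a : Spec R ⟶ S) :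
    Function.Surjective (C.g.hom.app (op (baseObj a))) := by
  intro t
  haveI := hC.epi_g
  haveI : Sheaf.IsLocallySurjective C.g := (Sheaf.isLocallySurjective_iff_epi' _ C.g).2 inferInstance
  obtain ⟨n, A, _, _, hfl, hs, hcov, hmem⟩ := exists_alg_family a
    (Presheaf.imageSieve_mem (QuotSh.J Kf S) C.g.hom t)
  haveI := hfl
  haveI := faithfullyFlat_pi (R := (R : Type u)) A hs
  let P : Type u := piAlg A
  let F₁ := algF a C.X₁.obj
  let F₂ := algF a C.X₂.obj
  let F₃ := algF a C.X₃.obj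
  let g : ∀ D : Alg R, F₂.obj D →+ F₃.obj D := fun D => (C.g.hom.app (op (sp a D))).hom
  have hg : ∀ {D D' : Alg R} (f : D ⟶ D') (x : F₂.obj D), g D' (F₂.map f x) = F₃.map f (g D x) :=
    fun f x => NatTrans.naturality_apply C.g.hom (spm a f).op x
  have hc : ∀ {D D' D'' : Alg R} (F : Alg R ⥤ AddCommGrpCat.{u + 1}) (f : D ⟶ D') (f' : D' ⟶ D'') (x : F.obj D),
      F.map f' (F.map f x) = F.map (f ≫ f') x := fun F f f' x => by rw [F.map_comp]; rfl
  let res : ∀ D : Alg R, F₃.obj D := fun D =>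
    F₃.map (CommAlgCat.ofHom (Algebra.ofId R (D : Type u)) : algOf R R ⟶ D) t
  have hres : ∀ {D D' : Alg R} (f : D ⟶ D'), F₃.map f (res D) = res D' := fun {D D'} f => by
    rw [hc]
    exact congrArg (fun q => F₃.map q t) (CommAlgCat.hom_ext (@Subsingleton.elim (R →ₐ[R] D') _ _ _))
  obtain ⟨y, hy⟩ : ∃ y : ∀ j, F₂.obj (algOf R (A j)), ∀ j, g _ (y j) = res (algOf R (A j)) :=
    ⟨fun j => (hmem j).choose, fun j => (hmem j).choose_spec⟩
  obtain ⟨-, hP⟩ := glue_prod C.X₂ a A
  obtain ⟨Y, hY⟩ := hP y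
  have hYt : g _ Y = res (algOf R P) := (glue_prod C.X₃ a A).1 _ _ fun j => by
    change F₃.map (prj A j) (g _ Y) = F₃.map (prj A j) (res _)
    rw [← hg, hY, hy, hres]
  let y₁ : F₂.obj (tpow P 1) := F₂.map (tL P 0) Y
  have hy₁ : g _ y₁ = res (tpow P 1) := by rw [hg, hYt, hres]
  have hd : g _ (dA P F₂ 1 y₁) = 0 := by
    refine (map_dA C.g a P 1 y₁).trans ?_
    refine (dA_apply P F₃ 1 _).trans ?_
    rw [Fin.sum_univ_two, show C.g.hom.app (op (sp a (tpow P 1))) y₁ = res (tpow P 1) from hy₁, hres, hres]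
    simp
  obtain ⟨w, hw⟩ := sections_exact hC (U := sp a (tpow P 2)) (dA P F₂ 1 y₁) hd
  obtain ⟨v, hv⟩ := h₁ R a P 0 w (sections_injective hC (sp a (tpow P 3)) (by
    refine (map_dA C.f a P 2 w).trans ?_
    rw [hw, map_zero]
    exact dA_dA P 1 F₂ y₁))
  let fv : F₂.obj (tpow P 1) := C.f.hom.app (op (sp a (tpow P 1))) v
  let y₂ : F₂.obj (tpow P 1) := y₁ - fv
  have hy₂ : g _ y₂ = res (tpow P 1) := by
    simp only [y₂]
    rw [map_sub, hy₁]
    exact (congrArg (res (tpow P 1) - ·) (g_f_zero (sp a (tpow P 1)) v)).trans (sub_zero _)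
  have hd₂ : F₂.map (face P 1 0) y₂ = F₂.map (face P 1 1) y₂ := by
    have : dA P F₂ 1 y₂ = 0 := by
      simp only [y₂]
      rw [map_sub, sub_eq_zero, ← hw, ← hv]
      exact map_dA C.f a P 1 v
    rw [dA_apply, Fin.sum_univ_two] at this
    simpa [sub_eq_zero, ← sub_eq_add_neg] using this
  choose ψ hψ using fun j => exists_tlift P 1 fun _ => prj (R := (R : Type u)) A j
  let u : ∀ j, F₂.obj (algOf R (A j)) := fun j => F₂.map (ψ j) y₂
  have hu : ∀ j, g _ (u j) = res (algOf R (A j)) := fun j => by rw [hg, hy₂, hres]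
  obtain ⟨-, hglue⟩ := ab_glue C.X₂ (fun j => spm a (strMap A j)) hcov
  obtain ⟨x, hx⟩ := hglue u fun i j W gi gj e => by
    obtain ⟨h, rfl, rfl⟩ := exists_lift_ov2 a A i j gi gj e
    rw [op_comp, op_comp, Functor.map_comp, Functor.map_comp, ConcreteCategory.comp_apply,
      ConcreteCategory.comp_apply]
    refine congrArg _ ?_
    change F₂.map (resL A i j) (F₂.map (ψ i) y₂) = F₂.map (resR A i j) (F₂.map (ψ j) y₂)
    obtain ⟨φ, hφ⟩ := exists_tlift P 2 ![prj (R := (R : Type u)) A i ≫ resL A i j, prj A j ≫ resR A i j]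
    have e₀ : ψ j ≫ resR A i j = face P 1 0 ≫ φ := tpow_hom_ext P fun l => by
      obtain rfl : l = 0 := Fin.fin_one_eq_zero l
      rw [← Category.assoc, hψ, ← Category.assoc, tproj_face, hφ]
      rfl
    have e₁ : ψ i ≫ resL A i j = face P 1 1 ≫ φ := tpow_hom_ext P fun l => by
      obtain rfl : l = 0 := Fin.fin_one_eq_zero l
      rw [← Category.assoc, hψ, ← Category.assoc, tproj_face, hφ]
      rfl
    rw [hc, hc, e₀, e₁, ← hc, ← hc, hd₂]
  refine ⟨x, (ab_glue C.X₃ (fun j => spm a (strMap A j)) hcov).1 _ _ fun j => ?_⟩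
  rw [← NatTrans.naturality_apply, hx]
  exact hu j

/-- Surjectivity on all affine objects. -/
theorem surjective_sp (hC : C.ShortExact) (h₁ : TExact C.X₁) {R : CommRingCat.{u}} (a : Spec R ⟶ S) (D : Alg R) :
    Function.Surjective (C.g.hom.app (op (sp a D))) := by
  intro s
  let e := selfIso a D
  obtain ⟨x, hx⟩ := surjective_base_ab hC h₁ _ (C.X₃.obj.map e.hom.op s)
  refine ⟨C.X₂.obj.map e.inv.op x, ?_⟩
  refine (NatTrans.naturality_apply C.g.hom e.inv.op x).trans ?_
  refine (congrArg (C.X₃.obj.map e.inv.op) hx).trans ?_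
  rw [← ConcreteCategory.comp_apply, ← Functor.map_comp, ← op_comp, e.inv_hom_id, op_id, C.X₃.obj.map_id]
  rfl

/-- The class is stable under quotients. -/
theorem texact_quotient (hC : C.ShortExact) (h₁ : TExact C.X₁) (h₂ : TExact C.X₂) : TExact C.X₃ := by
  intro R a B _ _ _ m z hz
  obtain ⟨z₂, hz₂⟩ := surjective_sp hC h₁ a (tpow B (m + 2)) z
  obtain ⟨w, hw⟩ := sections_exact hC (U := sp a (tpow B (m + 3))) (dA B (algF a C.X₂.obj) (m + 2) z₂) (by
    refine (map_dA C.g a B (m + 2) z₂).trans ?_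
    rw [hz₂, hz])
  obtain ⟨v, hv⟩ := h₁ R a B (m + 1) w (sections_injective hC (sp a (tpow B (m + 4))) (by
    refine (map_dA C.f a B (m + 3) w).trans ?_
    rw [hw, map_zero]
    exact dA_dA B (m + 2) (algF a C.X₂.obj) z₂))
  obtain ⟨y, hy⟩ := h₂ R a B m (z₂ - C.f.hom.app (op (sp a (tpow B (m + 2)))) v) (by
    rw [map_sub, sub_eq_zero, ← hw, ← hv]
    exact map_dA C.f a B (m + 2) v)
  refine ⟨C.g.hom.app (op (sp a (tpow B (m + 1)))) y, ?_⟩
  refine (map_dA C.g a B (m + 1) y).symm.trans ?_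
  rw [hy, map_sub, hz₂]
  exact (congrArg (z - ·) (g_f_zero _ v)).trans (sub_zero _)

end Seq

/-- Acyclicity on affine schemes. -/
theorem subsingleton_H_of_texact [IsAffine S] {G : BigSite.Ab Kf S} (hG : TExact G) (p : ℕ) :
    Subsingleton (BigSite.H Kf S G (p + 1)) := by
  have hT : IsTerminal (Over.mk (𝟙 S)) := Over.mkIdTerminal
  let a : Spec Γ(S, ⊤) ⟶ S := S.isoSpec.inv
  let e : baseObj a ≅ Over.mk (𝟙 S) := Over.isoMk S.isoSpec.symm (by
    change S.isoSpec.inv ≫ 𝟙 S = Spec.map (CommRingCat.ofHom (algebraMap Γ(S, ⊤) Γ(S, ⊤))) ≫ a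
    rw [Category.comp_id]
    exact (spec_id_comp _ a).symm)
  induction p generalizing G with
  | zero =>
    refine SiteCoh.subsingleton_ext_one_of_lift (SiteCoh.embedSeq_shortExact G) _ fun φ => ?_
    let Q := (SiteCoh.embedSeq G).X₃
    let x := Sheaf.H.equiv₀ Q hT (Abelian.Ext.mk₀ φ)
    obtain ⟨t, ht⟩ := surjective_base_ab (SiteCoh.embedSeq_shortExact G) hG a (Q.obj.map e.hom.op x)
    let t' := (SiteCoh.embedSeq G).X₂.obj.map e.inv.op t
    have ht' : (SiteCoh.embedSeq G).g.hom.app _ t' = x := by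
      refine (NatTrans.naturality_apply (SiteCoh.embedSeq G).g.hom e.inv.op t).trans ?_
      refine (congrArg (Q.obj.map e.inv.op) ht).trans ?_
      rw [← ConcreteCategory.comp_apply, ← Functor.map_comp, ← op_comp, e.inv_hom_id, op_id, Q.obj.map_id]
      rfl
    refine ⟨Abelian.Ext.addEquiv₀ ((Sheaf.H.equiv₀ _ hT).symm t'), ?_⟩
    rw [← Sheaf.H.addEquiv₀_map, Sheaf.H.equiv₀_symm_naturality, ht', AddEquiv.symm_apply_apply]
    exact Abelian.Ext.addEquiv₀.symm.injective (AddEquiv.symm_apply_apply _ _)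
  | succ p ih =>
    haveI := ih (texact_quotient (SiteCoh.embedSeq_shortExact G) hG (texact_injective _))
    exact SiteCoh.subsingleton_ext_succ (SiteCoh.embedSeq_shortExact G) _ (p + 1)

end Groth.Agent.AdeqLib
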