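import Groth.Agent.AdeqLib.Sect
import Groth.Agent.AdeqLib.TExact
import Groth.Agent.AdeqLib.InjMod
import Groth.Agent.AdeqLib.ModFlat
import Groth.Agent.CmpSite.Shift

/-!
Families attached to base change; the affine case: adequacy of sections and vanishing of derived sections.
-/

set_option autoImplicit false
set_option linter.style.haveILetI false
set_option backward.isDefEq.respectTransparency false
universe u

noncomputable section

namespace Groth.Agent.AdeqLib

open CategoryTheory Limits Opposite AlgebraicGeometry TensorProduct
open Adeq (MVF Alg pt ptHom algOf specOver toMVF adequate adequateMod)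

local notation "Kf" => Scheme.fppfPrecoverage

variable {R : CommRingCat.{u}} {T : Scheme.{u}}

/-- The family of fibre products with `Spec B` over `Spec R`. -/
def famBC {Y : Scheme.{u}} (g : Y ⟶ Spec R) (h : Y ⟶ T) : AffFam R T where
  ω := specOver (𝟙 (Spec R)) ⋙ Over.pullback g ⋙ Over.map h
  q :=
    { app := fun B => pullback.fst ((specOver (𝟙 (Spec R))).obj B).hom g
      naturality := fun B B' φ => by
        exact pullback.lift_fst _ _ _ }

/-- The family of base change of an affine object. -/
def famPush {S : Scheme.{u}} (a : Spec R ⟶ S) (f : T ⟶ S) : AffFam R T where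
  ω := specOver a ⋙ Over.pullback f
  q :=
    { app := fun B => pullback.fst ((specOver a).obj B).hom f
      naturality := fun B B' φ => by
        exact pullback.lift_fst _ _ _ }

/-- The family of an affine scheme over `Spec R`. -/
def famSpec (A : CommRingCat.{u}) [Algebra R A] (h : Spec A ⟶ T) : AffFam R T where
  ω := (Adeq.Alg.baseChange R A).op ⋙ specOver h
  q :=
    { app := fun B => Spec.map (CommRingCat.ofHom
        (Algebra.TensorProduct.includeRight (R := R) (A := A) (B := (B.unop : Type u))).toRingHom)
      naturality := fun B B' φ => by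
        change Spec.map _ ≫ Spec.map _ = Spec.map _ ≫ Spec.map _
        rw [← Spec.map_comp, ← Spec.map_comp, ← CommRingCat.ofHom_comp, ← CommRingCat.ofHom_comp]
        refine congrArg (fun q => Spec.map (CommRingCat.ofHom q)) (RingHom.ext fun b => ?_)
        simp }

section Restr

variable {Y Y' : Scheme.{u}} (g : Y ⟶ Spec R) (h : Y ⟶ T) (g' : Y' ⟶ Spec R) (h' : Y' ⟶ T) (j : Y' ⟶ Y)
  (hg : j ≫ g = g') (hh : j ≫ h = h')

/-- The morphism of families induced by a morphism over `Spec R` and `T`. -/
def bcMor : FamMor (famBC g h) (famBC g' h') where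
  ρ :=
    { app := fun B => Over.homMk
        (pullback.lift (pullback.fst ((specOver (𝟙 (Spec R))).obj B).hom g')
          (pullback.snd ((specOver (𝟙 (Spec R))).obj B).hom g' ≫ j)
          (by rw [pullback.condition, Category.assoc, hg]))
        (by
          change pullback.lift _ _ _ ≫ pullback.snd _ g ≫ h = pullback.snd _ g' ≫ h'
          rw [pullback.lift_snd_assoc, Category.assoc, hh])
      naturality := fun B B' φ => by
        ext : 1
        apply pullback.hom_ext <;> simp [famBC] }
  compat B := pullback.lift_fst _ _ _

end Restr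

section Affine

variable (A : CommRingCat.{u}) [Algebra R A] (h : Spec A ⟶ T)

/-- Sections along the family of an affine scheme are a pushforward. -/
def specToPush (M : BigSite.Mod Kf T) :
    (secMod (famSpec (R := R) A h)).obj M ⟶ (Adeq.push R A).obj ((toMVF Kf h).obj M) :=
  mkHom
    (fun B =>
      { toFun := fun x => x
        map_add' := fun _ _ => rfl
        map_smul' := fun r x => by
          let y : M.val.obj (op (sp h ((Adeq.Alg.baseChange (R : Type u) (A : Type u)).obj B))) := x
          let s : (BigSite.ORing Kf T).obj.obj (op (sp h ((Adeq.Alg.baseChange (R : Type u) (A : Type u)).obj B))) :=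
            famSect (famSpec (R := R) A h) B r
          change s • y = Adeq.toSect Kf h ((Adeq.Alg.baseChange (R : Type u) (A : Type u)).obj B) ((1 : A) ⊗ₜ[R] r) • y
          refine congrArg (· • y) (ULift.ext _ _ ?_)
          change ((Scheme.ΓSpecIso (CommRingCat.of (B : Type u))).inv ≫
              (Spec.map (CommRingCat.ofHom (Algebra.TensorProduct.includeRight (R := R) (A := A)
                (B := (B : Type u))).toRingHom)).appTop) r =
            (CommRingCat.ofHom (Algebra.TensorProduct.includeRight (R := R) (A := A) (B := (B : Type u))).toRingHom ≫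
              (Scheme.ΓSpecIso (CommRingCat.of (A ⊗[R] (B : Type u)))).inv) r
          rw [Scheme.ΓSpecIso_inv_naturality] })
    (fun {B B'} f x => rfl)

theorem adequate_famSpec (M : BigSite.Mod Kf T) (hM : adequateMod Kf T M) :
    adequate R ((secMod (famSpec (R := R) A h)).obj M) :=
  have hb : ∀ B : Alg (R : Type u), Function.Bijective (appL (specToPush (R := R) A h M) B) := fun B =>
    Function.bijective_id
  haveI := isIso_of_bijective (specToPush (R := R) A h M) hb
  have hA : adequate (R : Type u) ((Adeq.push (R : Type u) (A : Type u)).obj ((toMVF Kf h).obj M)) :=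
    adequate_push (A : Type u) (adequate_toMVF_fppf M hM h)
  adequate_of_iso (asIso (specToPush (R := R) A h M)).symm hA

set_option maxHeartbeats 1000000 in
theorem isZero_derived_famSpec [EnoughInjectives (BigSite.Mod Kf T)] (p : ℕ) :
    ∀ M : BigSite.Mod Kf T, TExact ((BigSite.toAbMod Kf T).obj M) →
      IsZero (((secMod (famSpec (R := R) A h)).rightDerived (p + 1)).obj M) := by
  have hse : ∀ M, ((SiteCoh.embedSeq M).map (BigSite.toAbMod Kf T)).ShortExact := fun M =>
    (SiteCoh.embedSeq_shortExact M).map_of_exact _
  induction p with
  | zero =>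
    intro M hM
    obtain ⟨e⟩ := CmpSite.rightDerived_one (secMod (famSpec (R := R) A h)) (SiteCoh.embedSeq_shortExact M)
    haveI : Epi ((secMod (famSpec (R := R) A h)).map (SiteCoh.embedSeq M).g) := epi_of_surjective _ fun B y =>
      surjective_sp (hse M) hM h ((Adeq.Alg.baseChange (R : Type u) (A : Type u)).obj B) y
    exact (isZero_cokernel_of_epi _).of_iso e
  | succ p ih =>
    intro M hM
    obtain ⟨e⟩ := CmpSite.rightDerived_shift (secMod (famSpec (R := R) A h)) (SiteCoh.embedSeq_shortExact M) p
    exact (ih _ (texact_quotient (hse M) hM (texact_injectiveMod _))).of_iso e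

/-- The affine family as a family of fibre products. -/
def specMor (g : Spec A ⟶ Spec R) (hg : Spec.map (CommRingCat.ofHom (algebraMap R A)) = g) :
    FamMor (famBC g h) (famSpec A h) where
  ρ :=
    { app := fun B => Over.homMk
        (pullback.lift (Spec.map (CommRingCat.ofHom
          (Algebra.TensorProduct.includeRight (R := R) (A := A) (B := (B.unop : Type u))).toRingHom))
          (Spec.map (CommRingCat.ofHom (algebraMap A (A ⊗[R] (B.unop : Type u)))))
          (by
            change Spec.map _ ≫ Spec.map _ ≫ 𝟙 (Spec R) = _
            rw [Category.comp_id, ← hg, ← Spec.map_comp, ← Spec.map_comp, ← CommRingCat.ofHom_comp,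
              ← CommRingCat.ofHom_comp]
            refine congrArg (fun q => Spec.map (CommRingCat.ofHom q)) (RingHom.ext fun r => ?_)
            exact (AlgHom.commutes (Algebra.TensorProduct.includeRight (R := R) (A := A) (B := (B.unop : Type u))) r).trans
              (IsScalarTower.algebraMap_apply R A (A ⊗[R] (B.unop : Type u)) r)))
        (by
          change pullback.lift _ _ _ ≫ pullback.snd _ g ≫ h = Spec.map _ ≫ h
          rw [pullback.lift_snd_assoc]
          rfl)
      naturality := fun B B' φ => by
        ext : 1
        apply pullback.hom_ext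
        · simp [famBC]
          exact (famSpec (R := R) A h).q.naturality φ
        · simp [famBC]
          change Spec.map (CommRingCat.ofHom ((Adeq.Alg.baseChange (R : Type u) (A : Type u)).map φ.unop).hom.toRingHom) ≫
            Spec.map _ = _
          rw [← Spec.map_comp, ← CommRingCat.ofHom_comp]
          refine congrArg (fun q => Spec.map (CommRingCat.ofHom q)) (RingHom.ext fun x => ?_)
          exact ((Adeq.Alg.baseChange (R : Type u) (A : Type u)).map φ.unop).hom.commutes x }
  compat B := pullback.lift_fst _ _ _

lemma isIso_specMor (g : Spec A ⟶ Spec R) (hg : Spec.map (CommRingCat.ofHom (algebraMap R A)) = g) :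
    IsIso (specMor A h g hg).transMod := by
  refine isIso_transMod _ fun B => ?_
  subst hg
  have hp : IsPullback
      (Spec.map (CommRingCat.ofHom (algebraMap A (A ⊗[R] (B.unop : Type u)))))
      (Spec.map (CommRingCat.ofHom
        (Algebra.TensorProduct.includeRight (R := R) (A := A) (B := (B.unop : Type u))).toRingHom))
      (Spec.map (CommRingCat.ofHom (algebraMap R A)))
      (((specOver (𝟙 (Spec R))).obj B).hom) := by
    refine IsPullback.of_iso (IsPullback.of_hasPullback (Spec.map (CommRingCat.ofHom (algebraMap R A)))
      (Spec.map (CommRingCat.ofHom (algebraMap R (B.unop : Type u))))) (pullbackSpecIso R A (B.unop : Type u))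
      (Iso.refl _) (Iso.refl _) (Iso.refl _) ?_ ?_ ?_ ?_
    · rw [Iso.refl_hom, Category.comp_id]
      exact ((pullbackSpecIso R A (B.unop : Type u)).inv_comp_eq.mp (pullbackSpecIso_inv_fst' R A _))
    · rw [Iso.refl_hom, Category.comp_id]
      exact ((pullbackSpecIso R A (B.unop : Type u)).inv_comp_eq.mp (pullbackSpecIso_inv_snd R A _))
    · simp
    · change Spec.map (CommRingCat.ofHom (algebraMap R (B.unop : Type u))) ≫ 𝟙 _ = 𝟙 _ ≫ Spec.map _ ≫ 𝟙 _
      simp
  have e : ((specMor A h _ rfl).ρ.app B).left = hp.flip.isoPullback.hom := by
    apply pullback.hom_ext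
    · exact (pullback.lift_fst _ _ _).trans hp.flip.isoPullback_hom_fst.symm
    · exact (pullback.lift_snd _ _ _).trans hp.flip.isoPullback_hom_snd.symm
  rw [e]
  infer_instance

end Affine

/-- Sections along the base change family are the functor of sections of the pushforward. -/
def pushToFam {S : Scheme.{u}} (a : Spec R ⟶ S) (f : T ⟶ S) :
    BigSite.pushMod Kf f ⋙ toMVF Kf a ≅ secMod (famPush a f) :=
  NatIso.ofComponents (fun M =>
    have : IsIso (mkHom (F := (toMVF Kf a).obj ((BigSite.pushMod Kf f).obj M)) (G := (secMod (famPush a f)).obj M)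
        (fun B => { toFun := fun x => x, map_add' := fun _ _ => rfl, map_smul' := fun _ _ => rfl })
        (fun {B B'} f x => rfl)) :=
      isIso_of_bijective _ fun B => ⟨fun x y e => e, fun y => ⟨y, rfl⟩⟩
    asIso (mkHom (F := (toMVF Kf a).obj ((BigSite.pushMod Kf f).obj M)) (G := (secMod (famPush a f)).obj M)
        (fun B => { toFun := fun x => x, map_add' := fun _ _ => rfl, map_smul' := fun _ _ => rfl })
        (fun {B B'} f x => rfl)))
    (fun ψ => hom_ext fun B x => rfl)

end Groth.Agent.AdeqLib
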