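import Groth.Agent.AdeqLib.Cover

/-!
Adequacy of the middle term of an exact sequence with five terms.
-/

set_option autoImplicit false
set_option linter.style.haveILetI false
set_option backward.isDefEq.respectTransparency false
universe u

noncomputable section

namespace Groth.Agent.AdeqLib

open CategoryTheory Limits
open Adeq (MVF Alg pt adequate)

variable {R : Type u} [CommRing R]

/-- Exactness on values. -/
lemma exists_preimage_of_exact {S : ShortComplex (MVF R)} (hS : S.Exact) (B : Alg R) (x : S.X₂.obj (pt B))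
    (hx : appL S.g B x = 0) : ∃ y, appL S.f B y = x := by
  obtain ⟨z, hz⟩ := exists_kernel_lift S.g hx
  haveI := hS.epi_kernelLift
  obtain ⟨y, hy⟩ := surjective_of_epi (kernel.lift S.g S.f S.zero) B z
  refine ⟨y, ?_⟩
  have e := congrArg (fun q => appL q B y) (kernel.lift_ι S.g S.f S.zero)
  simp only [appL_comp] at e
  rw [← e, hy, hz]

lemma adequate_zero {F : MVF R} (hF : adequate R F) {Z : MVF R} (hZ : IsZero Z) : adequate R Z :=
  adequate_of_iso ((isZero_cokernel_of_epi (𝟙 F)).iso hZ) (adequate_cokernel (𝟙 F) hF hF)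

/-- The middle of `A → B → C → D → E` exact with adequate outer terms is adequate. -/
theorem adequate_five {A B C D E : MVF R} (a : A ⟶ B) (b : B ⟶ C) (c : C ⟶ D) (d : D ⟶ E)
    (hab : a ≫ b = 0) (hbc : b ≫ c = 0) (hcd : c ≫ d = 0)
    (e₁ : (ShortComplex.mk a b hab).Exact) (e₂ : (ShortComplex.mk b c hbc).Exact)
    (e₃ : (ShortComplex.mk c d hcd).Exact)
    (hA : adequate R A) (hB : adequate R B) (hD : adequate R D) (hE : adequate R E) : adequate R C := by
  let i : cokernel a ⟶ C := cokernel.desc a b hab
  let p : C ⟶ kernel d := kernel.lift d c hcd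
  have hπ : ∀ X y, appL i X (appL (cokernel.π a) X y) = appL b X y := fun X y => by
    rw [← appL_comp, cokernel.π_desc]
  have hι : ∀ X y, appL (kernel.ι d) X (appL p X y) = appL c X y := fun X y => by
    rw [← appL_comp, kernel.lift_ι]
  have hz : i ≫ p = 0 := hom_ext fun X x => by
    obtain ⟨y, rfl⟩ := surjective_of_epi (cokernel.π a) X x
    refine injective_of_mono (kernel.ι d) X ?_
    rw [appL_comp, hι, hπ, appL_zero, map_zero, ← appL_comp, hbc, appL_zero]
  let S : ShortComplex (MVF R) := ShortComplex.mk i p hz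
  haveI : Mono S.f := mono_of_injective _ fun X => (injective_iff_map_eq_zero _).mpr fun x hx => by
    obtain ⟨y, rfl⟩ := surjective_of_epi (cokernel.π a) X x
    exact (cokernel_ker a X y).mpr (exists_preimage_of_exact e₁ X y ((hπ X y).symm.trans hx))
  haveI : Epi S.g := epi_of_surjective _ fun X w => by
    obtain ⟨y, hy⟩ := exists_preimage_of_exact e₃ X (appL (kernel.ι d) X w) (appL_kernel d X w)
    exact ⟨y, injective_of_mono (kernel.ι d) X ((hι X y).trans hy)⟩
  haveI : Epi (kernel.lift S.g S.f S.zero) := epi_of_surjective _ fun X z => by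
    have h0 : appL c X (appL (kernel.ι S.g) X z) = 0 := by
      rw [← hι X (appL (kernel.ι S.g) X z)]
      exact (congrArg (appL (kernel.ι d) X) (appL_kernel S.g X z)).trans (map_zero _)
    obtain ⟨y, hy⟩ := exists_preimage_of_exact e₂ X _ h0
    refine ⟨appL (cokernel.π a) X y, injective_of_mono (kernel.ι S.g) X ?_⟩
    rw [← appL_comp, kernel.lift_ι]
    exact (hπ X y).trans hy
  exact adequate_ext (S := S) { exact := S.exact_iff_epi_kernel_lift.mpr inferInstance }
    (adequate_cokernel a hA hB) (adequate_kernel d hD hE)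

end Groth.Agent.AdeqLib
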