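import Mathlib.CategoryTheory.Sites.Over
import Mathlib.CategoryTheory.Sites.Canonical

/-!
Presheaves on a slice category versus their total presheaves.
-/

set_option autoImplicit false
set_option linter.style.haveILetI false
set_option backward.isDefEq.respectTransparency false
universe w v u

noncomputable section

namespace Groth.Agent.AdeqLib

open CategoryTheory Opposite

variable {C : Type u} [Category.{v} C] {S : C} (P : (Over S)ᵒᵖ ⥤ Type w)

lemma sigma_eq_of_map {T T' : C} {t : T ⟶ S} {t' t'' : T' ⟶ S} (g : T' ⟶ T) (h' : g ≫ t = t')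
    (h'' : g ≫ t = t'') (x : P.obj (op (Over.mk t))) :
    (⟨t', P.map (Over.homMk g h' : Over.mk t' ⟶ Over.mk t).op x⟩ : Σ s : T' ⟶ S, P.obj (op (Over.mk s))) =
      ⟨t'', P.map (Over.homMk g h'' : Over.mk t'' ⟶ Over.mk t).op x⟩ := by
  subst h' h''
  rfl

/-- The total presheaf: maps to `S` together with a section over them. -/
def total : Cᵒᵖ ⥤ Type (max w v) where
  obj T := Σ t : T.unop ⟶ S, P.obj (op (Over.mk t))
  map g := TypeCat.ofHom fun p => ⟨g.unop ≫ p.1, P.map (Over.homMk g.unop : Over.mk (g.unop ≫ p.1) ⟶ Over.mk p.1).op p.2⟩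
  map_id T := by
    refine ConcreteCategory.hom_ext _ _ fun p => ?_
    obtain ⟨t, x⟩ := p
    have h := sigma_eq_of_map P (t := t) (𝟙 T.unop) (t' := 𝟙 T.unop ≫ t) rfl (Category.id_comp t) x
    refine h.trans ?_
    rw [show (Over.homMk (𝟙 T.unop) (Category.id_comp t) : Over.mk t ⟶ Over.mk t) = 𝟙 _ from rfl, op_id, P.map_id]
    rfl
  map_comp {T T' T''} f g := by
    refine ConcreteCategory.hom_ext _ _ fun p => ?_
    obtain ⟨t, x⟩ := p
    have h := sigma_eq_of_map P (t := t) (g.unop ≫ f.unop) (t' := (g.unop ≫ f.unop) ≫ t)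
      (t'' := g.unop ≫ f.unop ≫ t) rfl (Category.assoc _ _ _) x
    refine h.trans ?_
    rw [show (Over.homMk (g.unop ≫ f.unop) (Category.assoc _ _ _) : Over.mk (g.unop ≫ f.unop ≫ t) ⟶ Over.mk t) =
      (Over.homMk g.unop : Over.mk (g.unop ≫ f.unop ≫ t) ⟶ Over.mk (f.unop ≫ t)) ≫
        (Over.homMk f.unop : Over.mk (f.unop ≫ t) ⟶ Over.mk t) from rfl, op_comp, P.map_comp]
    rfl

lemma total_map_eq_iff {T T' : C} (g : T' ⟶ T) (t : T ⟶ S) (x : P.obj (op (Over.mk t))) (t' : T' ⟶ S)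
    (x' : P.obj (op (Over.mk t'))) :
    (total P).map g.op ⟨t, x⟩ = ⟨t', x'⟩ ↔
      ∃ h : g ≫ t = t', P.map (Over.homMk g h : Over.mk t' ⟶ Over.mk t).op x = x' := by
  constructor
  · intro e
    cases e
    exact ⟨rfl, rfl⟩
  · rintro ⟨rfl, rfl⟩
    rfl

/-- If the hom presheaf is a sheaf for `R` and `P` satisfies the sheaf condition for all lifts of `R`, the
total presheaf satisfies it for `R`. -/
theorem isSheafFor_total {T : C} (R : Sieve T) (hS : Presieve.IsSheafFor (yoneda.obj S) R.arrows)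
    (hP : ∀ t : T ⟶ S, Presieve.IsSheafFor P ((Sieve.overEquiv (Over.mk t)).symm R).arrows) :
    Presieve.IsSheafFor (total P) R.arrows := by
  intro x hx
  have hx' : ∀ ⦃Y Y' Z : C⦄ (gi : Z ⟶ Y) (gj : Z ⟶ Y') {f : Y ⟶ T} {f' : Y' ⟶ T} (hf : R f) (hf' : R f'),
      gi ≫ f = gj ≫ f' → (total P).map gi.op (x f hf) = (total P).map gj.op (x f' hf') :=
    fun Y Y' Z gi gj f f' hf hf' e => hx gi gj hf hf' e
  let tf : Presieve.FamilyOfElements (yoneda.obj S) R.arrows := fun Y f hf => (x f hf).1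
  have htf : tf.Compatible := fun Y Y' Z gi gj f f' hf hf' e => congrArg Sigma.fst (hx' gi gj hf hf' e)
  obtain ⟨t, ht, htu⟩ := hS tf htf
  change T ⟶ S at t
  have ht' : ∀ {Y : C} (f : Y ⟶ T) (hf : R f), f ≫ t = (x f hf).1 := fun f hf => ht f hf
  let yf : Presieve.FamilyOfElements P ((Sieve.overEquiv (Over.mk t)).symm R).arrows := fun Z g hg =>
    P.map (Over.homMk (𝟙 Z.left) (by
      change 𝟙 Z.left ≫ (x g.left hg).1 = Z.hom
      rw [Category.id_comp, ← ht' g.left hg]
      exact Over.w g) : Z ⟶ Over.mk (x g.left hg).1).op (x g.left hg).2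
  have key : ∀ {Z : Over S} (g : Z ⟶ Over.mk t) (hg : R g.left) {W : Over S} (k : W ⟶ Z),
      (total P).map k.left.op ⟨Z.hom, yf g hg⟩ = ⟨W.hom, P.map k.op (yf g hg)⟩ := fun g hg W k =>
    (total_map_eq_iff P _ _ _ _ _).mpr ⟨Over.w k, rfl⟩
  have key2 : ∀ {Z : Over S} (g : Z ⟶ Over.mk t) (hg : R g.left),
      (⟨Z.hom, yf g hg⟩ : (total P).obj (op Z.left)) = x g.left hg := fun {Z} g hg => by
    have h := (total_map_eq_iff P (𝟙 Z.left) (x g.left hg).1 (x g.left hg).2 Z.hom (yf g hg)).mpr ⟨_, rfl⟩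
    rw [op_id, FunctorToTypes.map_id_apply] at h
    exact h.symm
  have hyf : yf.Compatible := fun Y Y' Z gi gj f f' hf hf' e => by
    have h := hx' gi.left gj.left (f := f.left) (f' := f'.left) hf hf' (congrArg (fun q => q.left) e)
    rw [← key2 f hf, ← key2 f' hf', key f hf gi, key f' hf' gj] at h
    exact eq_of_heq (Sigma.mk.inj h).2
  obtain ⟨s, hs, hsu⟩ := hP t yf hyf
  refine ⟨⟨t, s⟩, fun Y f hf => ?_, ?_⟩
  · have h := hs (Over.homMk f : Over.mk (f ≫ t) ⟶ Over.mk t) hf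
    refine Eq.trans ?_ (key2 (Over.homMk f : Over.mk (f ≫ t) ⟶ Over.mk t) hf)
    exact (total_map_eq_iff P _ _ _ _ _).mpr ⟨rfl, h⟩
  · rintro ⟨t', s'⟩ hs'
    have et : t' = t := htu t' fun Y f hf => congrArg Sigma.fst (hs' f hf)
    subst et
    refine congrArg (Sigma.mk t') (hsu s' fun Z g hg => ?_)
    have h := (hs' g.left hg).trans (key2 g hg).symm
    obtain ⟨_, h⟩ := (total_map_eq_iff P g.left t' s' Z.hom (yf g hg)).mp h
    exact h

/-- A presheaf on a slice whose total presheaf is a sheaf is a sheaf. -/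
theorem isSheaf_of_total (J : GrothendieckTopology C) [J.Subcanonical]
    (hP : Presieve.IsSheaf J (total P)) : Presieve.IsSheaf (J.over S) P := by
  intro U R hR x hx
  rw [GrothendieckTopology.mem_over_iff] at hR
  have hS := (GrothendieckTopology.Subcanonical.isSheaf_of_isRepresentable (J := J) (yoneda.obj S)) _ hR
  let fam : Presieve.FamilyOfElements (total P) (Sieve.overEquiv U R).arrows := fun Z f hf =>
    ⟨f ≫ U.hom, x (Over.homMk f : Over.mk (f ≫ U.hom) ⟶ U) ((Sieve.overEquiv_iff R f).mp hf)⟩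
  have hfam : fam.Compatible := fun Y Y' Z gi gj f f' hf hf' e => by
    refine (total_map_eq_iff P gi _ _ (gi ≫ f ≫ U.hom) _).mpr ⟨rfl, rfl⟩ |>.trans ?_
    refine ((total_map_eq_iff P gj (f' ≫ U.hom) _ (gi ≫ f ≫ U.hom) _).mpr ⟨by rw [reassoc_of% e], ?_⟩).symm
    symm
    refine hx (Over.homMk gi : Over.mk (gi ≫ f ≫ U.hom) ⟶ Over.mk (f ≫ U.hom)) _
      ((Sieve.overEquiv_iff R f).mp hf) ((Sieve.overEquiv_iff R f').mp hf') ?_
    ext
    exact e
  obtain ⟨⟨t, s⟩, hts, htu⟩ := hP _ hR fam hfam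
  have et : t = U.hom := hS.isSeparatedFor.ext fun Z f hf => congrArg Sigma.fst (hts f hf)
  subst et
  have key : ∀ {Z : Over S} (g : Z ⟶ U) (hg : R g) (hg' : Sieve.overEquiv U R g.left)
      (a : P.obj (op U)), (total P).map g.left.op ⟨U.hom, a⟩ = fam g.left hg' ↔ P.map g.op a = x g hg := by
    intro Z g hg hg' a
    constructor
    · intro h
      obtain ⟨_, h'⟩ := (total_map_eq_iff P g.left U.hom a _ _).mp h
      let e : Z ⟶ Over.mk (g.left ≫ U.hom) := Over.homMk (𝟙 Z.left) ((Category.id_comp _).trans (Over.w g))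
      have hge : g = e ≫ (Over.homMk g.left : Over.mk (g.left ≫ U.hom) ⟶ U) := by
        ext
        exact (Category.id_comp _).symm
      have hc := hx e (𝟙 Z) ((Sieve.overEquiv_iff R g.left).mp hg') hg
        ((Category.id_comp g).trans hge).symm
      rw [op_id, FunctorToTypes.map_id_apply] at hc
      rw [← hc, ← h', ← FunctorToTypes.map_comp_apply, ← op_comp]
      exact congrArg (fun q => P.map q.op a) hge
    · intro h
      refine (total_map_eq_iff P g.left U.hom a _ _).mpr ⟨rfl, ?_⟩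
      let e : Over.mk (g.left ≫ U.hom) ⟶ Z := Over.homMk (𝟙 Z.left) ((Category.id_comp _).trans (Over.w g).symm)
      have hc := hx (𝟙 _) e ((Sieve.overEquiv_iff R g.left).mp hg') hg
        (by ext; exact (Category.id_comp _).trans (Category.id_comp _).symm)
      rw [op_id, FunctorToTypes.map_id_apply] at hc
      rw [hc, ← h, ← FunctorToTypes.map_comp_apply, ← op_comp]
      refine congrArg (fun q : Over.mk (g.left ≫ U.hom) ⟶ U => P.map q.op a) ?_
      ext
      exact (Category.id_comp _).symm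
  refine ⟨s, fun Z g hg => ?_, fun s' hs' => ?_⟩
  · have hg' : Sieve.overEquiv U R g.left := ⟨Z, g, 𝟙 _, hg, (Category.id_comp _).symm⟩
    exact (key g hg hg' s).mp (hts g.left hg')
  · have h' := htu ⟨U.hom, s'⟩ fun Z f hf => by
      have := (key (Over.homMk f : Over.mk (f ≫ U.hom) ⟶ U) ((Sieve.overEquiv_iff R f).mp hf) hf s').mpr
        (hs' _ ((Sieve.overEquiv_iff R f).mp hf))
      exact this
    exact eq_of_heq (Sigma.mk.inj h').2

end Groth.Agent.AdeqLib
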