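import Groth.Agent.AdeqLib.ModBasic
import Groth.Agent.AdeqLib.Amitsur
import Groth.Agent.AdeqLib.Total
import Mathlib.AlgebraicGeometry.Sites.SheafQuasiCompact
import Mathlib.AlgebraicGeometry.Sites.BigZariski
import Mathlib.AlgebraicGeometry.Morphisms.Flat
import Mathlib.RingTheory.RingHom.FaithfullyFlat

/-!
Adequate modules satisfy the fpqc sheaf condition.
-/

set_option autoImplicit false
set_option linter.style.haveILetI false
set_option backward.isDefEq.respectTransparency false
universe u

noncomputable section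

namespace Groth.Agent.AdeqLib

open CategoryTheory Limits Opposite AlgebraicGeometry TensorProduct
open Adeq (MVF Alg pt ptHom algOf adequate adequateMod toMVF specOver toSect)

section

variable {S : Scheme.{u}} {R B : CommRingCat.{u}} (f : R ⟶ B) (t : Spec R ⟶ S)

/-- The covering object over `mk t`. -/
abbrev ffObj : Over S := Over.mk (Spec.map f ≫ t)

/-- The covering arrow. -/
abbrev ffArr : ffObj f t ⟶ Over.mk t := Over.homMk (Spec.map f)

lemma generate_ffArr :
    Sieve.generate (Presieve.ofArrows (fun _ : PUnit.{1} => ffObj f t) fun _ => ffArr f t) =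
      (Sieve.overEquiv (Over.mk t)).symm (Sieve.generate (Presieve.singleton (Spec.map f))) := by
  ext Z g
  constructor
  · rintro ⟨_, h, _, ⟨⟩, rfl⟩
    exact ⟨_, h.left, _, ⟨⟩, rfl⟩
  · rintro ⟨_, h, _, ⟨⟩, hh⟩
    refine ⟨_, (Over.homMk (V := ffObj f t) h ?_ : Z ⟶ ffObj f t), _, ⟨PUnit.unit⟩, ?_⟩
    · change h ≫ Spec.map f ≫ t = Z.hom
      rw [← Category.assoc, hh]
      exact Over.w g
    · ext
      exact hh

variable (K : Precoverage Scheme.{u}) [BigSite.OSh K] (M : BigSite.Mod K S)

lemma isSheafFor_ffArr (hM : adequate R ((toMVF K t).obj M)) (hff : f.hom.FaithfullyFlat) :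
    Presieve.IsSheafFor (M.val.presheaf ⋙ forget Ab.{u + 1})
      (Presieve.ofArrows (fun _ : PUnit.{1} => ffObj f t) fun _ => ffArr f t) := by
  letI : Algebra R B := f.hom.toAlgebra
  haveI : Module.FaithfullyFlat R B := hff
  obtain ⟨hinj, hsurj⟩ := adequate_descent₀ hM (B : Type u)
  let P := M.val.presheaf
  let oR := (specOver t).obj (op (algOf R R))
  have hid : Spec.map (CommRingCat.ofHom (algebraMap R R)) = 𝟙 (Spec R) := Spec.map_id _
  let e : oR ≅ Over.mk t := Over.isoMk (Iso.refl _) (by
    change 𝟙 _ ≫ t = Spec.map (CommRingCat.ofHom (algebraMap R R)) ≫ t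
    rw [hid])
  let g : ffObj f t ⟶ oR := (specOver t).map (CommAlgCat.ofHom (Algebra.ofId R B) : algOf R R ⟶ algOf R B).op
  have hge : g ≫ e.hom = ffArr f t := by
    ext : 1
    exact Category.comp_id _
  rw [Presieve.isSheafFor_arrows_iff]
  intro x hx
  let y : P.obj (op (ffObj f t)) := x PUnit.unit
  let W := (specOver t).obj (op (algOf R ((B : Type u) ⊗[R] (B : Type u))))
  let l : W ⟶ ffObj f t := (specOver t).map (CommAlgCat.ofHom (Algebra.TensorProduct.includeLeft :
    (B : Type u) →ₐ[R] (B : Type u) ⊗[R] (B : Type u)) : algOf R B ⟶ algOf R ((B : Type u) ⊗[R] (B : Type u))).op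
  let r : W ⟶ ffObj f t := (specOver t).map (CommAlgCat.ofHom (Algebra.TensorProduct.includeRight :
    (B : Type u) →ₐ[R] (B : Type u) ⊗[R] (B : Type u)) : algOf R B ⟶ algOf R ((B : Type u) ⊗[R] (B : Type u))).op
  have hlr : l ≫ ffArr f t = r ≫ ffArr f t := by
    ext : 1
    change Spec.map _ ≫ Spec.map f = Spec.map _ ≫ Spec.map f
    rw [← Spec.map_comp, ← Spec.map_comp]
    refine congrArg Spec.map (CommRingCat.hom_ext (RingHom.ext fun a => ?_))
    exact ((Algebra.TensorProduct.includeLeft : (B : Type u) →ₐ[R] (B : Type u) ⊗[R] (B : Type u)).commutes a).trans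
      ((Algebra.TensorProduct.includeRight : (B : Type u) →ₐ[R] (B : Type u) ⊗[R] (B : Type u)).commutes a).symm
  obtain ⟨z, hz⟩ := hsurj y (hx PUnit.unit PUnit.unit W l r hlr)
  refine ⟨P.map e.inv.op z, fun _ => ?_, fun s hs => ?_⟩
  · change P.map (ffArr f t).op (P.map e.inv.op z) = y
    rw [← hge, ← ConcreteCategory.comp_apply, ← Functor.map_comp, ← op_comp, Category.assoc, e.hom_inv_id,
      Category.comp_id]
    exact hz
  · have hs' : P.map (ffArr f t).op s = y := hs PUnit.unit
    rw [← hge, op_comp, Functor.map_comp, ConcreteCategory.comp_apply] at hs'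
    have : P.map e.hom.op s = z := hinj (hs'.trans hz.symm)
    rw [← this, ← ConcreteCategory.comp_apply, ← Functor.map_comp, ← op_comp, e.inv_hom_id, op_id, P.map_id]
    rfl

end

/-- Adequate functors of sections imply the fpqc sheaf condition. -/
theorem isSheaf_fpqc {K : Precoverage Scheme.{u}} [BigSite.OSh K] (hK : Scheme.zariskiPrecoverage ≤ K)
    {S : Scheme.{u}} (M : BigSite.Mod K S)
    (hM : ∀ (R : CommRingCat.{u}) (a : Spec R ⟶ S), adequate R ((toMVF K a).obj M)) :
    Presheaf.IsSheaf (QuotSh.J Scheme.fpqcPrecoverage S) ((BigSite.toAbMod K S).obj M).obj := by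
  rw [Presheaf.isSheaf_iff_isSheaf_forget _ _ (forget Ab.{u + 1}), isSheaf_iff_isSheaf_of_type]
  change Presieve.IsSheaf (Scheme.fpqcTopology.over S) (M.val.presheaf ⋙ forget Ab.{u + 1})
  refine isSheaf_of_total _ _ ?_
  rw [Scheme.fpqcTopology_eq_propQCTopology, isSheaf_type_propQCTopology_iff]
  have hsh : Presieve.IsSheaf (QuotSh.J K S) (M.val.presheaf ⋙ forget Ab.{u + 1}) :=
    (isSheaf_iff_isSheaf_of_type _ _).mp
      ((Presheaf.isSheaf_iff_isSheaf_forget _ _ (forget Ab.{u + 1})).mp M.isSheaf)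
  refine ⟨fun T R hR => ?_, fun {R B} f hf hs => ?_⟩
  · refine isSheafFor_total _ R
      ((GrothendieckTopology.Subcanonical.isSheaf_of_isRepresentable (J := Scheme.zariskiTopology) _) R hR)
      fun t => hsh _ ?_
    change _ ∈ (K.toGrothendieck.over S) (Over.mk t)
    exact GrothendieckTopology.overEquiv_symm_mem_over _ _ _ (Precoverage.toGrothendieck_mono hK _ hR)
  · have hff : f.hom.FaithfullyFlat := RingHom.FaithfullyFlat.iff_flat_and_comap_surjective.mpr
      ⟨(HasRingHomProperty.Spec_iff (P := @Flat)).mp hf, hs.surj⟩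
    rw [Presieve.isSheafFor_iff_generate]
    refine isSheafFor_total _ _ ?_ fun t => ?_
    · refine (GrothendieckTopology.Subcanonical.isSheaf_of_isRepresentable (J := Scheme.fpqcTopology) _) _ ?_
      haveI : Flat (Spec.map f) := hf
      haveI := hs
      exact Precoverage.generate_mem_toGrothendieck (Scheme.Hom.singleton_mem_fpqcPrecoverage _)
    · rw [← generate_ffArr, ← Presieve.isSheafFor_iff_generate]
      exact isSheafFor_ffArr f t K M (hM R t) hff

end Groth.Agent.AdeqLib
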