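import Mathlib.CategoryTheory.Sites.SheafCohomology.Basic
import Mathlib.CategoryTheory.Sites.Continuous

/-!
Degree zero cohomology at a terminal object and restriction along a continuous functor.
-/

set_option autoImplicit false
universe w₁ w₂ v₁ v₂ v
noncomputable section
open CategoryTheory Limits Opposite

namespace Groth.Agent.AdeqLib

def h0Inv {D : Type w₂} [Category.{v₂} D] {K : GrothendieckTopology D} [HasSheafify K AddCommGrpCat.{v}]
    [HasExt.{v} (Sheaf K AddCommGrpCat.{v})] {T : D} (hT : IsTerminal T) (F : Sheaf K AddCommGrpCat.{v}) :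
    F.obj.obj (op T) ≃+ Sheaf.H.{v} F 0 :=
  (Sheaf.H.equiv₀ F hT).symm

lemma h0Inv_natural {D : Type w₂} [Category.{v₂} D] {K : GrothendieckTopology D} [HasSheafify K AddCommGrpCat.{v}]
    [HasExt.{v} (Sheaf K AddCommGrpCat.{v})] {T : D} (hT : IsTerminal T) {F G : Sheaf K AddCommGrpCat.{v}} (φ : F ⟶ G)
    (x : F.obj.obj (op T)) : Sheaf.H.map φ 0 (h0Inv hT F x) = h0Inv hT G (φ.hom.app (op T) x) :=
  Sheaf.H.equiv₀_symm_naturality hT φ x

variable {C : Type w₁} [Category.{v₁} C] {D : Type w₂} [Category.{v₂} D] {J : GrothendieckTopology C}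
  {K : GrothendieckTopology D} (i : C ⥤ D) [i.IsContinuous J K] {T : C}
def secId (F : Sheaf K AddCommGrpCat.{v}) :
    ((i.sheafPushforwardContinuous AddCommGrpCat.{v} J K).obj F).obj.obj (op T) ≃+ F.obj.obj (op (i.obj T)) :=
  AddEquiv.refl _
variable [HasSheafify J AddCommGrpCat.{v}]
  [HasExt.{v} (Sheaf J AddCommGrpCat.{v})] [HasSheafify K AddCommGrpCat.{v}] [HasExt.{v} (Sheaf K AddCommGrpCat.{v})]
  (hT : IsTerminal T) (hT' : IsTerminal (i.obj T))
def h0Equiv (F : Sheaf K AddCommGrpCat.{v}) :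
    Sheaf.H.{v} ((i.sheafPushforwardContinuous AddCommGrpCat.{v} J K).obj F) 0 ≃+ Sheaf.H.{v} F 0 :=
  (Sheaf.H.equiv₀ ((i.sheafPushforwardContinuous AddCommGrpCat.{v} J K).obj F) hT).trans
    ((secId i F).trans (h0Inv hT' F))

lemma h0Equiv_natural {F G : Sheaf K AddCommGrpCat.{v}} (φ : F ⟶ G)
    (y : Sheaf.H.{v} ((i.sheafPushforwardContinuous AddCommGrpCat.{v} J K).obj F) 0) :
    Sheaf.H.map φ 0 (h0Equiv i hT hT' F y) =
      h0Equiv i hT hT' G (Sheaf.H.map ((i.sheafPushforwardContinuous AddCommGrpCat.{v} J K).map φ) 0 y) :=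
  (h0Inv_natural hT' φ (secId i F (Sheaf.H.equiv₀ _ hT y))).trans
    (congrArg (fun z => h0Inv hT' G (secId i G z))
      (Sheaf.H.equiv₀_naturality hT ((i.sheafPushforwardContinuous AddCommGrpCat.{v} J K).map φ) y))

end Groth.Agent.AdeqLib
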