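import Groth.Agent.AdeqLib.H0
import Groth.Agent.EpsLan.Compare

/-!
Degree one cohomology under restriction along a continuous functor preserving the terminal object.
-/

set_option autoImplicit false
universe w₁ w₂ v₁ v₂ v

open CategoryTheory Limits Opposite Abelian

namespace Groth.Agent.AdeqLib

variable {C : Type w₁} [Category.{v₁} C] {D : Type w₂} [Category.{v₂} D] {J : GrothendieckTopology C}
  {K : GrothendieckTopology D} (i : C ⥤ D) [i.IsContinuous J K] {T : C}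
  [HasSheafify J AddCommGrpCat.{v}] [HasExt.{v} (Sheaf J AddCommGrpCat.{v})] [HasSheafify K AddCommGrpCat.{v}]
  [HasExt.{v} (Sheaf K AddCommGrpCat.{v})]

lemma exists_h1 {X : ShortComplex (Sheaf K AddCommGrpCat.{v})} (hX : X.ShortExact)
    [(i.sheafPushforwardContinuous AddCommGrpCat.{v} J K).Additive]
    (hz : (X.map (i.sheafPushforwardContinuous AddCommGrpCat.{v} J K)).ShortExact)
    [Subsingleton (Sheaf.H.{v} (X.map (i.sheafPushforwardContinuous AddCommGrpCat.{v} J K)).X₂ 1)]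
    [Subsingleton (Sheaf.H.{v} X.X₂ 1)] (hT : IsTerminal T) (hT' : IsTerminal (i.obj T)) :
    Nonempty (Sheaf.H.{v} ((i.sheafPushforwardContinuous AddCommGrpCat.{v} J K).obj X.X₁) 1 ≃+
      Sheaf.H.{v} X.X₁ 1) := by
  haveI : Subsingleton (Ext ((constantSheaf J AddCommGrpCat.{v}).obj (AddCommGrpCat.of (ULift.{v} ℤ)))
      (X.map (i.sheafPushforwardContinuous AddCommGrpCat.{v} J K)).X₂ (0 + 1)) :=
    ‹Subsingleton (Sheaf.H.{v} (X.map (i.sheafPushforwardContinuous AddCommGrpCat.{v} J K)).X₂ 1)›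
  haveI : Subsingleton (Ext ((constantSheaf K AddCommGrpCat.{v}).obj (AddCommGrpCat.of (ULift.{v} ℤ))) X.X₂ (0 + 1)) :=
    ‹Subsingleton (Sheaf.H.{v} X.X₂ 1)›
  refine EpsLan.exists_addEquiv_of_surjective _ _
    (EpsLan.surjective_extClass hz _ 0) (EpsLan.surjective_extClass hX _ 0) (h0Equiv i hT hT' X.X₃) fun a => ?_
  refine (EpsLan.extClass_eq_zero_iff hz _ 0 a).trans (Iff.trans ?_ (EpsLan.extClass_eq_zero_iff hX _ 0 _).symm)
  exact ⟨fun ⟨y, hy⟩ => ⟨h0Equiv i hT hT' X.X₂ y, (h0Equiv_natural i hT hT' X.g y).trans (congrArg _ hy)⟩,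
    fun ⟨y, hy⟩ => ⟨(h0Equiv i hT hT' X.X₂).symm y, (h0Equiv i hT hT' X.X₃).injective
      ((h0Equiv_natural i hT hT' X.g _).symm.trans
        ((congrArg (Sheaf.H.map X.g 0) ((h0Equiv i hT hT' X.X₂).apply_symm_apply y)).trans hy))⟩⟩

end Groth.Agent.AdeqLib
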