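import Mathlib.Algebra.Category.Grp.Adjunctions
import Mathlib.Algebra.Category.Grp.Abelian
import Mathlib.Algebra.Category.Grp.EpiMono
import Mathlib.Algebra.Homology.ShortComplex.Exact
import Mathlib.CategoryTheory.Abelian.FunctorCategory
import Mathlib.CategoryTheory.Limits.FunctorCategory.Basic
import Mathlib.CategoryTheory.Yoneda
import Mathlib.Algebra.BigOperators.Fin

/-!
An injective presheaf has exact alternating complexes along a semi-simplicial object with an
(objectwise, not natural) extra degeneracy.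
-/

set_option autoImplicit false
set_option linter.style.haveILetI false
set_option backward.isDefEq.respectTransparency false
universe w u

noncomputable section

namespace Groth.Agent.AdeqLib

open CategoryTheory Limits Opposite

variable {C : Type w} [Category.{u} C]

/-- The free abelian presheaf on a representable. -/
def freeRep (X : C) : Cᵒᵖ ⥤ AddCommGrpCat.{u + 1} :=
  uliftYoneda.{u + 1}.obj X ⋙ AddCommGrpCat.free

/-- A generator. -/
def genRep {X V : C} (f : V ⟶ X) : (freeRep X).obj (op V) :=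
  FreeAbelianGroup.of (show (uliftYoneda.{u + 1}.obj X).obj (op V) from ULift.up f)

lemma freeRep_map {X V V' : C} (g : V' ⟶ V) (f : V ⟶ X) :
    (freeRep X).map g.op (genRep f) = genRep (g ≫ f) := rfl

/-- An element as a map out of the free presheaf. -/
def fromRep (P : Cᵒᵖ ⥤ AddCommGrpCat.{u + 1}) {X : C} (x : P.obj (op X)) : freeRep X ⟶ P where
  app V := AddCommGrpCat.ofHom (FreeAbelianGroup.lift fun f : (uliftYoneda.{u + 1}.obj X).obj V =>
    P.map (f.down : V.unop ⟶ X).op x)
  naturality V V' g := by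
    refine AddCommGrpCat.hom_ext (FreeAbelianGroup.lift_ext _ _ fun f => ?_)
    change FreeAbelianGroup.lift _ (FreeAbelianGroup.map _ (FreeAbelianGroup.of f)) =
      P.map g (FreeAbelianGroup.lift _ (FreeAbelianGroup.of f))
    rw [FreeAbelianGroup.map_of_apply, FreeAbelianGroup.lift_apply_of, FreeAbelianGroup.lift_apply_of]
    change P.map (g.unop ≫ (f.down : V.unop ⟶ X)).op x = _
    rw [op_comp, Functor.map_comp]
    rfl

lemma fromRep_gen {P : Cᵒᵖ ⥤ AddCommGrpCat.{u + 1}} {X V : C} (x : P.obj (op X)) (f : V ⟶ X) :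
    (fromRep P x).app (op V) (genRep f) = P.map f.op x := by
  change FreeAbelianGroup.lift _ (FreeAbelianGroup.of _) = _
  rw [FreeAbelianGroup.lift_apply_of]

lemma rep_hom_ext {X : C} {P : Cᵒᵖ ⥤ AddCommGrpCat.{u + 1}} {φ ψ : freeRep X ⟶ P}
    (h : φ.app (op X) (genRep (𝟙 X)) = ψ.app (op X) (genRep (𝟙 X))) : φ = ψ := by
  ext V : 2
  refine AddCommGrpCat.hom_ext (FreeAbelianGroup.lift_ext _ _ fun f => ?_)
  have e : (genRep (f.down : V.unop ⟶ X)) = (freeRep X).map (f.down : V.unop ⟶ X).op (genRep (𝟙 X)) := by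
    rw [freeRep_map, Category.comp_id]
  change φ.app V (genRep (f.down : V.unop ⟶ X)) = ψ.app V (genRep (f.down : V.unop ⟶ X))
  rw [e]
  exact (NatTrans.naturality_apply φ _ _).trans ((congrArg _ h).trans (NatTrans.naturality_apply ψ _ _).symm)

/-- A map of free presheaves. -/
def repMap {X Y : C} (i : X ⟶ Y) : freeRep X ⟶ freeRep Y := fromRep _ (genRep i)

lemma repMap_gen {X Y V : C} (i : X ⟶ Y) (f : V ⟶ X) : (repMap i).app (op V) (genRep f) = genRep (f ≫ i) := by
  rw [repMap, fromRep_gen, freeRep_map]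

lemma mono_repMap {X Y : C} (i : X ⟶ Y) [Mono i] : Mono (repMap i) := by
  haveI : ∀ V, Mono ((repMap i).app V) := fun V => by
    obtain ⟨V⟩ := V
    rw [AddCommGrpCat.mono_iff_injective]
    classical
    let r : (freeRep Y).obj (op V) →+ (freeRep X).obj (op V) :=
      FreeAbelianGroup.lift fun g : (uliftYoneda.{u + 1}.obj Y).obj (op V) =>
        if h : ∃ f : V ⟶ X, f ≫ i = g.down then genRep h.choose else 0
    refine Function.LeftInverse.injective (g := r) fun x => ?_
    suffices e : r.comp ((repMap i).app (op V)).hom = AddMonoidHom.id _ from DFunLike.congr_fun e x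
    refine FreeAbelianGroup.lift_ext _ _ fun f => ?_
    change r ((repMap i).app (op V) (genRep f.down)) = genRep f.down
    rw [repMap_gen]
    have h : ∃ f' : V ⟶ X, f' ≫ i = f.down ≫ i := ⟨f.down, rfl⟩
    refine (FreeAbelianGroup.lift_apply_of _ _).trans ((dif_pos h).trans ?_)
    rw [(cancel_mono i).mp h.choose_spec]
  exact NatTrans.mono_of_mono_app _

/-- An injective presheaf has surjective restrictions along monomorphisms. -/
theorem injective_map_surjective (P : Cᵒᵖ ⥤ AddCommGrpCat.{u + 1}) [Injective P] {X Y : C} (i : X ⟶ Y) [Mono i] :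
    Function.Surjective (P.map i.op) := by
  intro x
  haveI := mono_repMap i
  have h : repMap i ≫ Injective.factorThru (fromRep P x) (repMap i) = fromRep P x := Injective.comp_factorThru _ _
  let ψ := Injective.factorThru (fromRep P x) (repMap i)
  refine ⟨ψ.app (op Y) (genRep (𝟙 Y)), ?_⟩
  have e := congrArg (fun q => q.app (op X) (genRep (𝟙 X))) h
  simp only [NatTrans.comp_app, ConcreteCategory.comp_apply, fromRep_gen, repMap_gen, op_id, P.map_id,
    ConcreteCategory.id_apply, Category.id_comp] at e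
  refine Eq.trans ?_ e
  rw [← NatTrans.naturality_apply, freeRep_map, Category.comp_id]

variable (X : ℕ → C) (d : ∀ n, Fin (n + 2) → (X (n + 1) ⟶ X n))

/-- The alternating boundary. -/
def repBd (n : ℕ) : freeRep (X (n + 1)) ⟶ freeRep (X n) :=
  fromRep _ (∑ k : Fin (n + 2), (-1 : ℤ) ^ (k : ℕ) • genRep (d n k))

lemma repBd_gen (n : ℕ) {V : C} (f : V ⟶ X (n + 1)) :
    (repBd X d n).app (op V) (genRep f) = ∑ k : Fin (n + 2), (-1 : ℤ) ^ (k : ℕ) • genRep (f ≫ d n k) := by
  rw [repBd, fromRep_gen, map_sum]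
  refine Finset.sum_congr rfl fun k _ => ?_
  rw [map_zsmul, freeRep_map]

/-- The alternating differential of a presheaf. -/
def altD (P : Cᵒᵖ ⥤ AddCommGrpCat.{u + 1}) (n : ℕ) : P.obj (op (X n)) →+ P.obj (op (X (n + 1))) :=
  ∑ k : Fin (n + 2), (-1 : ℤ) ^ (k : ℕ) • (P.map (d n k).op).hom

lemma altD_apply (P : Cᵒᵖ ⥤ AddCommGrpCat.{u + 1}) (n : ℕ) (x : P.obj (op (X n))) :
    altD X d P n x = ∑ k : Fin (n + 2), (-1 : ℤ) ^ (k : ℕ) • P.map (d n k).op x := by
  simp only [altD, AddMonoidHom.finsetSum_apply, AddMonoidHom.smul_apply]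

lemma repBd_fromRep (P : Cᵒᵖ ⥤ AddCommGrpCat.{u + 1}) (n : ℕ) (x : P.obj (op (X n))) :
    repBd X d n ≫ fromRep P x = fromRep P (altD X d P n x) := by
  refine rep_hom_ext ?_
  rw [NatTrans.comp_app, ConcreteCategory.comp_apply, repBd_gen, fromRep_gen, map_sum, op_id, P.map_id,
    altD_apply]
  refine Finset.sum_congr rfl fun k _ => ?_
  rw [map_zsmul, fromRep_gen, Category.id_comp]

variable (h : ∀ n {V : C}, (V ⟶ X n) → (V ⟶ X (n + 1)))
  (h₀ : ∀ n {V : C} (f : V ⟶ X n), h n f ≫ d n 0 = f)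
  (h₁ : ∀ n {V : C} (f : V ⟶ X (n + 1)) (k : Fin (n + 2)), h (n + 1) f ≫ d (n + 1) k.succ = h n (f ≫ d n k))

/-- The objectwise homotopy. -/
def repH (n : ℕ) (V : C) : (freeRep (X n)).obj (op V) →+ (freeRep (X (n + 1))).obj (op V) :=
  FreeAbelianGroup.lift fun f : (uliftYoneda.{u + 1}.obj (X n)).obj (op V) => genRep (h n f.down)

lemma repH_gen (n : ℕ) {V : C} (f : V ⟶ X n) : repH X h n V (genRep f) = genRep (h n f) :=
  FreeAbelianGroup.lift_apply_of _ _

include h₀ h₁ in
lemma homotopy (n : ℕ) (V : C) (x : (freeRep (X (n + 1))).obj (op V)) :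
    (repBd X d (n + 1)).app (op V) (repH X h (n + 1) V x) +
      repH X h n V ((repBd X d n).app (op V) x) = x := by
  suffices e : ((repBd X d (n + 1)).app (op V)).hom.comp (repH X h (n + 1) V) +
      (repH X h n V).comp ((repBd X d n).app (op V)).hom = AddMonoidHom.id _ from DFunLike.congr_fun e x
  refine FreeAbelianGroup.lift_ext _ _ fun f => ?_
  change (repBd X d (n + 1)).app (op V) (repH X h (n + 1) V (genRep f.down)) +
      repH X h n V ((repBd X d n).app (op V) (genRep f.down)) = genRep f.down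
  rw [repH_gen, repBd_gen, repBd_gen, map_sum, Fin.sum_univ_succ, h₀]
  simp only [Fin.val_zero, pow_zero, one_smul, map_zsmul, repH_gen, h₁, Fin.val_succ, pow_succ, mul_neg, mul_one,
    neg_smul, Finset.sum_neg_distrib]
  abel

include h₀ h₁ in
theorem injective_altD_exact (P : Cᵒᵖ ⥤ AddCommGrpCat.{u + 1}) [Injective P] (n : ℕ)
    (z : P.obj (op (X (n + 1)))) (hz : altD X d P (n + 1) z = 0) : ∃ y, altD X d P n y = z := by
  let ι := kernel.ι (repBd X d n)
  have hι : ι ≫ fromRep P z = 0 := by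
    ext V : 2
    refine AddCommGrpCat.hom_ext (AddMonoidHom.ext fun w => ?_)
    have h0 : (repBd X d n).app V (ι.app V w) = 0 :=
      ConcreteCategory.congr_hom (congrArg (fun q => q.app V) (kernel.condition (repBd X d n))) w
    obtain ⟨v⟩ := V
    change (fromRep P z).app (op v) (ι.app (op v) w) = 0
    rw [← homotopy X d h h₀ h₁ n v (ι.app (op v) w), h0, map_zero, add_zero, ← ConcreteCategory.comp_apply,
      ← NatTrans.comp_app, repBd_fromRep, hz]
    have : fromRep P (0 : P.obj (op (X (n + 1 + 1)))) = 0 := rep_hom_ext (by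
      rw [fromRep_gen, map_zero]; rfl)
    rw [this]
    rfl
  let S : ShortComplex (Cᵒᵖ ⥤ AddCommGrpCat.{u + 1}) := ShortComplex.mk ι (repBd X d n) (kernel.condition _)
  have hS : S.Exact := ShortComplex.exact_of_f_is_kernel S (kernelIsKernel (repBd X d n))
  let ψ := hS.descToInjective (fromRep P z) hι
  have hψ : repBd X d n ≫ ψ = fromRep P z := hS.comp_descToInjective (fromRep P z) hι
  refine ⟨ψ.app (op (X n)) (genRep (𝟙 (X n))), ?_⟩
  have e : ψ = fromRep P (ψ.app (op (X n)) (genRep (𝟙 (X n)))) := rep_hom_ext (by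
    rw [fromRep_gen, op_id, P.map_id]; rfl)
  rw [e, repBd_fromRep] at hψ
  have := congrArg (fun q => q.app (op (X (n + 1))) (genRep (𝟙 (X (n + 1))))) hψ
  simpa only [fromRep_gen, op_id, P.map_id, ConcreteCategory.id_apply] using this

end Groth.Agent.AdeqLib
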