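import Mathlib.AlgebraicGeometry.Morphisms.QuasiSeparated

/-!
Induction over the quasi-compact opens of a quasi-separated scheme by gluing two opens.
-/

set_option autoImplicit false
universe u

namespace Groth.Agent.AdeqLib

open AlgebraicGeometry TopologicalSpace CategoryTheory

variable {X : Scheme.{u}} (Q : X.Opens → Prop) (haff : ∀ U, IsAffineOpen U → Q U)
  (hmv : ∀ V W, Q V → Q W → Q (V ⊓ W) → Q (V ⊔ W))

include haff hmv

lemma qcqs_basicOpens {U : X.Opens} (hU : IsAffineOpen U) :
    ∀ (n : ℕ) (l : List Γ(X, U)), l.length ≤ n → Q (l.foldr (fun f W => X.basicOpen f ⊔ W) ⊥) := by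
  intro n
  induction n with
  | zero =>
    intro l hl
    rw [List.length_eq_zero_iff.mp (Nat.le_zero.mp hl)]
    exact haff _ (isAffineOpen_bot X)
  | succ n ih =>
    intro l hl
    cases l with
    | nil => exact haff _ (isAffineOpen_bot X)
    | cons f t =>
      have ht : t.length ≤ n := by simpa using hl
      refine hmv _ _ (haff _ (hU.basicOpen f)) (ih t ht) ?_
      have e : X.basicOpen f ⊓ t.foldr (fun g W => X.basicOpen g ⊔ W) ⊥ =
          (t.map (f * ·)).foldr (fun g W => X.basicOpen g ⊔ W) ⊥ := by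
        clear hl ht
        induction t with
        | nil => simp
        | cons g t it => rw [List.map_cons, List.foldr_cons, List.foldr_cons, inf_sup_left, it, ← X.basicOpen_mul]
      rw [e]
      exact ih _ (by simpa using ht)

lemma qcqs_in_affine {U : X.Opens} (hU : IsAffineOpen U) (W : X.Opens) (hW : IsCompact (W : Set X))
    (hWU : W ≤ U) : Q W := by
  classical
  have hex : ∀ x : W, ∃ f : Γ(X, U), X.basicOpen f ≤ W ∧ (x : X) ∈ X.basicOpen f :=
    fun x => hU.exists_basicOpen_le x (hWU x.2)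
  choose f hf hfx using hex
  obtain ⟨t, ht⟩ := hW.elim_finite_subcover (fun x : W => (X.basicOpen (f x) : Set X))
    (fun x => (X.basicOpen (f x)).2) fun x hx => Set.mem_iUnion.mpr ⟨⟨x, hx⟩, hfx ⟨x, hx⟩⟩
  have key : ∀ (l : List Γ(X, U)) (x : X),
      x ∈ l.foldr (fun g V => X.basicOpen g ⊔ V) ⊥ ↔ ∃ g ∈ l, x ∈ X.basicOpen g := by
    intro l x
    induction l with
    | nil => simp
    | cons g l il =>
      rw [List.foldr_cons]
      refine (show x ∈ X.basicOpen g ⊔ _ ↔ x ∈ X.basicOpen g ∨ _ from Iff.rfl).trans ?_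
      simp [il]
  have e : W = (t.toList.map f).foldr (fun g V => X.basicOpen g ⊔ V) ⊥ := by
    ext x
    constructor
    · intro hx
      obtain ⟨y, hy, hxy⟩ := Set.mem_iUnion₂.mp (ht hx)
      exact (key _ x).mpr ⟨f y, List.mem_map.mpr ⟨y, Finset.mem_toList.mpr hy, rfl⟩, hxy⟩
    · intro hx
      obtain ⟨g, hg, hxg⟩ := (key _ x).mp hx
      obtain ⟨y, -, rfl⟩ := List.mem_map.mp hg
      exact hf y hxg
  rw [e]
  exact qcqs_basicOpens Q haff hmv hU _ _ le_rfl

/-- Induction over quasi-compact opens. -/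
theorem qcqs_induction [QuasiSeparatedSpace X] (W : X.Opens) (hW : IsCompact (W : Set X)) : Q W := by
  refine compact_open_induction_on W hW (haff _ (isAffineOpen_bot X)) fun V hV U hQ => ?_
  exact hmv _ _ hQ (haff _ U.2) (qcqs_in_affine Q haff hmv U.2 _
    (QuasiSeparatedSpace.inter_isCompact _ _ V.2 hV U.1.2 U.2.isCompact) inf_le_right)

end Groth.Agent.AdeqLib
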