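import Groth.Agent.AdeqLib.Fams
import Groth.Agent.AdeqLib.Five
import Groth.Agent.AdeqLib.QcqsInd

/-!
Mayer-Vietoris for sections along base change families; adequacy over a quasi-compact quasi-separated scheme.
-/

set_option autoImplicit false
set_option linter.style.haveILetI false
set_option backward.isDefEq.respectTransparency false
universe u

noncomputable section

namespace Groth.Agent.AdeqLib

open CategoryTheory Limits Opposite AlgebraicGeometry TensorProduct
open Adeq (MVF Alg pt ptHom algOf specOver toMVF adequate adequateMod)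

local notation "Kf" => Scheme.fppfPrecoverage

section Glue

variable {R : Type u} [CommRing R] {A V W D P : MVF R} (f : A ⟶ P) (g : P ⟶ D) (zero : f ≫ g = 0)
  (p₁ : P ⟶ V) (p₂ : P ⟶ W) (s₁ : V ⟶ P) (s₂ : W ⟶ P)
  (tot : p₁ ≫ s₁ + p₂ ≫ s₂ = 𝟙 P) (s₁p₁ : s₁ ≫ p₁ = 𝟙 V) (s₁p₂ : s₁ ≫ p₂ = 0) (s₂p₁ : s₂ ≫ p₁ = 0)
  (s₂p₂ : s₂ ≫ p₂ = 𝟙 W)
  (rV : A ⟶ V) (rW : A ⟶ W) (dV : V ⟶ D) (dW : W ⟶ D)
  (hfV : f ≫ p₁ = rV) (hfW : f ≫ p₂ = rW) (hgV : s₁ ≫ g = dV) (hgW : s₂ ≫ g = -dW)

include hfV hfW in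
lemma mono_of_glue (hinj : ∀ B x, appL rV B x = 0 → appL rW B x = 0 → x = 0) : Mono f :=
  mono_of_injective f fun B => (injective_iff_map_eq_zero _).mpr fun x hx => by
    refine hinj B x ?_ ?_
    · rw [← hfV, appL_comp, hx, map_zero]
    · rw [← hfW, appL_comp, hx, map_zero]

include tot s₁p₁ s₁p₂ s₂p₁ s₂p₂ hfV hfW hgV hgW in
lemma exact_of_glue (hinj : ∀ B x, appL rV B x = 0 → appL rW B x = 0 → x = 0)
    (hglue : ∀ B y z, appL dV B y = appL dW B z → ∃ x, appL rV B x = y ∧ appL rW B x = z) :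
    (ShortComplex.mk f g zero).Exact := by
  refine (ShortComplex.exact_iff_epi_kernel_lift _).mpr (epi_of_surjective _ fun B w => ?_)
  have hξ : appL g B (appL (kernel.ι g) B w) = 0 := appL_kernel g B w
  have hw : ∀ x, appL f B x = appL (kernel.ι g) B w → appL (kernel.lift g f zero) B x = w := fun x hx =>
    injective_of_mono (kernel.ι g) B ((by rw [← appL_comp, kernel.lift_ι] :
      appL (kernel.ι g) B (appL (kernel.lift g f zero) B x) = appL f B x).trans hx)
  generalize appL (kernel.ι g) B w = ξ at hξ hw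
  have hdec : appL s₁ B (appL p₁ B ξ) + appL s₂ B (appL p₂ B ξ) = ξ := by
    rw [← appL_comp, ← appL_comp, ← appL_add, tot, appL_id]
  have he : appL dV B (appL p₁ B ξ) = appL dW B (appL p₂ B ξ) := by
    have h2 : appL dW B (appL p₂ B ξ) + appL (-dW) B (appL p₂ B ξ) = 0 := by
      rw [← appL_add, add_neg_cancel, appL_zero]
    have h1 : appL dV B (appL p₁ B ξ) + appL (-dW) B (appL p₂ B ξ) = 0 := by
      rw [← hgV, ← hgW, appL_comp s₁, appL_comp s₂, ← map_add, hdec, hξ]
    exact add_right_cancel (h1.trans h2.symm)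
  obtain ⟨x, hxV, hxW⟩ := hglue B _ _ he
  refine ⟨x, hw x ?_⟩
  rw [← hdec, ← hxV, ← hxW, ← hfV, ← hfW, appL_comp f, appL_comp f, ← appL_comp p₁, ← appL_comp p₂,
    ← appL_add, tot, appL_id]

include hgV in
lemma epi_of_glue (hsurj : ∀ B, Function.Surjective (appL dV B)) : Epi g :=
  epi_of_surjective g fun B w => by
    obtain ⟨y, hy⟩ := hsurj B w
    exact ⟨appL s₁ B y, by rw [← appL_comp, hgV, hy]⟩

end Glue

variable {R : CommRingCat.{u}} {T X : Scheme.{u}} (g : X ⟶ Spec R) (h : X ⟶ T)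

lemma isPullback_bcMor {Y Y' : Scheme.{u}} (g : Y ⟶ Spec R) (h : Y ⟶ T) (g' : Y' ⟶ Spec R) (h' : Y' ⟶ T)
    (j : Y' ⟶ Y) (hg : j ≫ g = g') (hh : j ≫ h = h') (B : (Alg R)ᵒᵖ) :
    IsPullback ((bcMor g h g' h' j hg hh).ρ.app B).left (pullback.snd ((specOver (𝟙 (Spec R))).obj B).hom g')
      (pullback.snd ((specOver (𝟙 (Spec R))).obj B).hom g) j := by
  refine IsPullback.of_right (v₁₃ := ((specOver (𝟙 (Spec R))).obj B).hom)
    (h₁₂ := pullback.fst ((specOver (𝟙 (Spec R))).obj B).hom g) (h₂₂ := g) ?_ (pullback.lift_snd _ _ _)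
    (IsPullback.of_hasPullback _ _)
  rw [hg, show ((bcMor g h g' h' j hg hh).ρ.app B).left ≫ pullback.fst ((specOver (𝟙 (Spec R))).obj B).hom g =
    pullback.fst ((specOver (𝟙 (Spec R))).obj B).hom g' from pullback.lift_fst _ _ _]
  exact IsPullback.of_hasPullback _ _

lemma isIso_bcMor {Y Y' : Scheme.{u}} (g : Y ⟶ Spec R) (h : Y ⟶ T) (g' : Y' ⟶ Spec R) (h' : Y' ⟶ T)
    (j : Y' ⟶ Y) (hg : j ≫ g = g') (hh : j ≫ h = h') [IsIso j] : IsIso (bcMor g h g' h' j hg hh).transMod :=
  isIso_transMod _ fun B =>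
    MorphismProperty.of_isPullback (P := MorphismProperty.isomorphisms Scheme.{u})
      (isPullback_bcMor g h g' h' j hg hh B).flip (inferInstanceAs (IsIso j))

/-- The family of an open. -/
abbrev famU (V : X.Opens) : AffFam R T := famBC (V.ι ≫ g) (V.ι ≫ h)

/-- Restriction to a smaller open. -/
def res {V W : X.Opens} (e : V ≤ W) : FamMor (famU g h W) (famU g h V) :=
  bcMor (W.ι ≫ g) (W.ι ≫ h) (V.ι ≫ g) (V.ι ≫ h) (X.homOfLE e) (by simp) (by simp)

variable {V W : X.Opens}

lemma res_isOpenImmersion (e : V ≤ W) (B : (Alg R)ᵒᵖ) : IsOpenImmersion ((res g h e).ρ.app B).left :=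
  MorphismProperty.of_isPullback (P := @IsOpenImmersion)
    (isPullback_bcMor (W.ι ≫ g) (W.ι ≫ h) (V.ι ≫ g) (V.ι ≫ h) (X.homOfLE e) (by simp) (by simp) B).flip
    inferInstance

lemma res_fst (e : V ≤ W) (B : (Alg R)ᵒᵖ) : ((res g h e).ρ.app B).left ≫
    pullback.fst ((specOver (𝟙 (Spec R))).obj B).hom (W.ι ≫ g) =
      pullback.fst ((specOver (𝟙 (Spec R))).obj B).hom (V.ι ≫ g) := pullback.lift_fst _ _ _

lemma res_snd (e : V ≤ W) (B : (Alg R)ᵒᵖ) : ((res g h e).ρ.app B).left ≫
    pullback.snd ((specOver (𝟙 (Spec R))).obj B).hom (W.ι ≫ g) ≫ W.ι =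
      pullback.snd ((specOver (𝟙 (Spec R))).obj B).hom (V.ι ≫ g) ≫ V.ι := by
  refine (pullback.lift_snd_assoc _ _ _ _).trans ?_
  rw [Category.assoc, Scheme.homOfLE_ι]

lemma res_hom_ext {Z : Scheme.{u}} {B : (Alg R)ᵒᵖ} {a b : Z ⟶ pullback ((specOver (𝟙 (Spec R))).obj B).hom (W.ι ≫ g)}
    (h₁ : a ≫ pullback.fst _ _ = b ≫ pullback.fst _ _)
    (h₂ : a ≫ pullback.snd _ _ ≫ W.ι = b ≫ pullback.snd _ _ ≫ W.ι) : a = b :=
  pullback.hom_ext h₁ ((cancel_mono W.ι).mp (by simpa only [Category.assoc] using h₂))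

lemma res_comp {U : X.Opens} (e : V ≤ W) (e' : W ≤ U) (B : (Alg R)ᵒᵖ) :
    (res g h e).ρ.app B ≫ (res g h e').ρ.app B = (res g h (e.trans e')).ρ.app B := by
  ext : 1
  refine res_hom_ext g ?_ ?_
  · change (((res g h e).ρ.app B).left ≫ ((res g h e').ρ.app B).left) ≫ _ = _
    exact (Category.assoc _ _ _).trans ((congrArg (_ ≫ ·) (res_fst g h e' B)).trans
      ((res_fst g h e B).trans (res_fst g h _ B).symm))
  · change (((res g h e).ρ.app B).left ≫ ((res g h e').ρ.app B).left) ≫ _ = _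
    exact (Category.assoc _ _ _).trans ((congrArg (_ ≫ ·) (res_snd g h e' B)).trans
      ((res_snd g h e B).trans (res_snd g h _ B).symm))

lemma transMod_res_comp {U : X.Opens} (e : V ≤ W) (e' : W ≤ U) (M : BigSite.Mod Kf T) :
    (res g h e').transMod.app M ≫ (res g h e).transMod.app M = (res g h (e.trans e')).transMod.app M :=
  hom_ext fun B x => (secEquiv' (famU g h V) M B).injective (by
    rw [appL_comp, transMod_app, transMod_app, transMod_app, ← res_comp g h e e' (op B), op_comp, Functor.map_comp]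
    rfl)

section Two

variable (M : BigSite.Mod Kf T) (V W)

/-- Restrictions to the two opens. -/
abbrev rl : (secMod (famU g h (V ⊔ W))).obj M ⟶ (secMod (famU g h V)).obj M :=
  (res g h le_sup_left).transMod.app M

/-- Restrictions to the two opens. -/
abbrev rr : (secMod (famU g h (V ⊔ W))).obj M ⟶ (secMod (famU g h W)).obj M :=
  (res g h le_sup_right).transMod.app M

/-- Restrictions to the intersection. -/
abbrev dl : (secMod (famU g h V)).obj M ⟶ (secMod (famU g h (V ⊓ W))).obj M :=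
  (res g h inf_le_left).transMod.app M

/-- Restrictions to the intersection. -/
abbrev dr : (secMod (famU g h W)).obj M ⟶ (secMod (famU g h (V ⊓ W))).obj M :=
  (res g h inf_le_right).transMod.app M

/-- The two opens as a family. -/
abbrev two (i : Bool) : X.Opens := bif i then V else W

lemma two_le (i : Bool) : two V W i ≤ V ⊔ W := by cases i; exacts [le_sup_right, le_sup_left]

lemma two_cover (B : (Alg R)ᵒᵖ) :
    Presieve.ofArrows (fun i => ((famU g h (two V W i)).ω.obj B).left)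
      (fun i => ((res g h (two_le V W i)).ρ.app B).left) ∈
        Scheme.fppfPrecoverage.coverings ((famU g h (V ⊔ W)).ω.obj B).left := by
  refine fppf_ofArrows_iff.mpr ⟨fun z => ?_, fun i => ?_⟩
  · let y : ↥(V ⊔ W) := pullback.snd ((specOver (𝟙 (Spec R))).obj B).hom ((V ⊔ W).ι ≫ g) z
    have key : ∀ (i : Bool), (y : X) ∈ two V W i → z ∈ Set.range ((res g h (two_le V W i)).ρ.app B).left := by
      intro i hy
      obtain ⟨o, ho, -⟩ := Scheme.exists_preimage_of_isPullback
        (isPullback_bcMor ((V ⊔ W).ι ≫ g) ((V ⊔ W).ι ≫ h) ((two V W i).ι ≫ g) ((two V W i).ι ≫ h)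
          (X.homOfLE (two_le V W i)) (by simp) (by simp) B) z ⟨y, hy⟩
        (Subtype.ext (Scheme.homOfLE_apply (two_le V W i) ⟨y, hy⟩).symm)
      exact ⟨o, ho⟩
    rcases y.2 with hy | hy
    · exact ⟨true, key true hy⟩
    · exact ⟨false, key false hy⟩
  · haveI := res_isOpenImmersion g h (two_le V W i) B
    exact fppfP_imm _

lemma rl_rr_inj (B : Alg R) (x : ((secMod (famU g h (V ⊔ W))).obj M).obj (pt B))
    (h₁ : appL (rl g h V W M) B x = 0) (h₂ : appL (rr g h V W M) B x = 0) : x = 0 := by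
  refine (secEquiv' (famU g h (V ⊔ W)) M B).injective ((ab_glue _
    (fun i => (res g h (two_le V W i)).ρ.app (op B)) (two_cover g h V W (op B))).1 _ _ fun i => ?_)
  rw [map_zero]
  refine Eq.trans ?_ (map_zero _).symm
  cases i
  · exact ((transMod_app _ M B x).symm.trans (congrArg (secEquiv' (famU g h W) M B) h₂)).trans (map_zero _)
  · exact ((transMod_app _ M B x).symm.trans (congrArg (secEquiv' (famU g h V) M B) h₁)).trans (map_zero _)

lemma two_factor (B : (Alg R)ᵒᵖ) {Z : Over T} (a : Z ⟶ (famU g h V).ω.obj B) (b : Z ⟶ (famU g h W).ω.obj B)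
    (e : a ≫ (res g h le_sup_left).ρ.app B = b ≫ (res g h (le_sup_right (a := V))).ρ.app B) :
    ∃ c : Z ⟶ (famU g h (V ⊓ W)).ω.obj B,
      c ≫ (res g h inf_le_left).ρ.app B = a ∧ c ≫ (res g h inf_le_right).ρ.app B = b := by
  have ef : a.left ≫ pullback.fst _ (V.ι ≫ g) = b.left ≫ pullback.fst _ (W.ι ≫ g) := by
    have := congrArg (fun q => q.left ≫ pullback.fst _ ((V ⊔ W).ι ≫ g)) e
    exact ((congrArg (a.left ≫ ·) (res_fst g h le_sup_left B).symm).trans (Category.assoc _ _ _).symm).trans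
      (this.trans ((Category.assoc _ _ _).trans (congrArg (b.left ≫ ·) (res_fst g h le_sup_right B))))
  have es : a.left ≫ pullback.snd _ (V.ι ≫ g) ≫ V.ι = b.left ≫ pullback.snd _ (W.ι ≫ g) ≫ W.ι := by
    have := congrArg (fun q => q.left ≫ pullback.snd _ ((V ⊔ W).ι ≫ g) ≫ (V ⊔ W).ι) e
    exact ((congrArg (a.left ≫ ·) (res_snd g h le_sup_left B).symm).trans (Category.assoc _ _ _).symm).trans
      (this.trans ((Category.assoc _ _ _).trans (congrArg (b.left ≫ ·) (res_snd g h le_sup_right B))))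
  let y : Z.left ⟶ X := a.left ≫ pullback.snd _ (V.ι ≫ g) ≫ V.ι
  have hy : Set.range y ⊆ Set.range (V ⊓ W).ι := by
    rw [Scheme.Opens.range_ι]
    rintro _ ⟨z, rfl⟩
    refine ⟨?_, ?_⟩
    · exact (Scheme.Opens.range_ι V).subset ⟨(a.left ≫ pullback.snd _ (V.ι ≫ g)) z, rfl⟩
    · exact (Scheme.Opens.range_ι W).subset ⟨(b.left ≫ pullback.snd _ (W.ι ≫ g)) z,
        (congrArg (fun q : Z.left ⟶ X => q z) es).symm⟩
  let l := IsOpenImmersion.lift (V ⊓ W).ι y hy
  have hl : l ≫ (V ⊓ W).ι = y := IsOpenImmersion.lift_fac _ _ _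
  have hc : (a.left ≫ pullback.fst _ (V.ι ≫ g)) ≫ ((specOver (𝟙 (Spec R))).obj B).hom = l ≫ (V ⊓ W).ι ≫ g := by
    rw [← Category.assoc l, hl, Category.assoc, pullback.condition]
    simp [y]
  refine ⟨Over.homMk (pullback.lift _ _ hc) ?_, ?_, ?_⟩
  · change pullback.lift _ _ hc ≫ pullback.snd _ _ ≫ (V ⊓ W).ι ≫ h = Z.hom
    rw [pullback.lift_snd_assoc, ← Category.assoc, hl]
    exact ((Category.assoc _ _ _).trans (congrArg (a.left ≫ ·) (Category.assoc _ _ _))).trans (Over.w a)
  · ext : 1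
    refine res_hom_ext g ?_ ?_
    · exact (Category.assoc _ _ _).trans ((congrArg (_ ≫ ·) (res_fst g h _ B)).trans (pullback.lift_fst _ _ _))
    · exact (Category.assoc _ _ _).trans ((congrArg (_ ≫ ·) (res_snd g h _ B)).trans
        ((pullback.lift_snd_assoc _ _ _ _).trans hl))
  · ext : 1
    refine res_hom_ext g ?_ ?_
    · exact (Category.assoc _ _ _).trans ((congrArg (_ ≫ ·) (res_fst g h _ B)).trans
        ((pullback.lift_fst _ _ _).trans ef))
    · exact (Category.assoc _ _ _).trans ((congrArg (_ ≫ ·) (res_snd g h _ B)).trans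
        ((pullback.lift_snd_assoc _ _ _ _).trans (hl.trans es)))

lemma two_glue (B : Alg R) (y : ((secMod (famU g h V)).obj M).obj (pt B))
    (z : ((secMod (famU g h W)).obj M).obj (pt B)) (e : appL (dl g h V W M) B y = appL (dr g h V W M) B z) :
    ∃ x, appL (rl g h V W M) B x = y ∧ appL (rr g h V W M) B x = z := by
  let G := (BigSite.toAbMod Kf T).obj M
  obtain ⟨-, hgl⟩ := ab_glue G (fun i => (res g h (two_le V W i)).ρ.app (op B)) (two_cover g h V W (op B))
  let w : ∀ i, G.obj.obj (op ((famU g h (two V W i)).ω.obj (op B))) := fun i => match i with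
    | false => secEquiv' (famU g h W) M B z
    | true => secEquiv' (famU g h V) M B y
  have e' := congrArg (secEquiv' (famU g h (V ⊓ W)) M B) e
  rw [transMod_app, transMod_app] at e'
  have htf : ∀ (Z : Over T) (gi : Z ⟶ (famU g h V).ω.obj (op B)) (gj : Z ⟶ (famU g h W).ω.obj (op B)),
      gi ≫ (res g h le_sup_left).ρ.app (op B) = gj ≫ (res g h (le_sup_right (a := V))).ρ.app (op B) →
      G.obj.map gi.op (secEquiv' (famU g h V) M B y) = G.obj.map gj.op (secEquiv' (famU g h W) M B z) := by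
    intro Z gi gj hij
    obtain ⟨c, rfl, rfl⟩ := two_factor g h V W (op B) gi gj hij
    rw [op_comp, op_comp, Functor.map_comp, Functor.map_comp, ConcreteCategory.comp_apply,
      ConcreteCategory.comp_apply]
    exact congrArg (G.obj.map c.op) e'
  obtain ⟨x, hx⟩ := hgl w fun i j Z gi gj hij => by
    haveI hm : ∀ k, Mono ((res g h (two_le V W k)).ρ.app (op B)) := fun k =>
      haveI := res_isOpenImmersion g h (two_le V W k) (op B)
      Over.mono_of_mono_left _
    cases i <;> cases j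
    · rw [(cancel_mono ((res g h (two_le V W false)).ρ.app (op B))).mp hij]
    · exact (htf Z gj gi hij.symm).symm
    · exact htf Z gi gj hij
    · rw [(cancel_mono ((res g h (two_le V W true)).ρ.app (op B))).mp hij]
  refine ⟨(secEquiv' (famU g h (V ⊔ W)) M B).symm x, ?_, ?_⟩
  · exact (secEquiv' (famU g h V) M B).injective ((transMod_app _ M B _).trans (hx true))
  · exact (secEquiv' (famU g h W) M B).injective ((transMod_app _ M B _).trans (hx false))

lemma dl_surjective [Injective M] (B : Alg R) : Function.Surjective (appL (dl g h V W M) B) := by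
  intro w
  haveI := res_isOpenImmersion g h (inf_le_left (a := V) (b := W)) (op B)
  haveI : Mono ((res g h (inf_le_left (a := V) (b := W))).ρ.app (op B)) := Over.mono_of_mono_left _
  haveI : Injective ((PresheafOfModules.restrictScalars (𝟙 (BigSite.ORing Kf T).obj)).obj M.val) :=
    Injective.injective_of_adjoint (PresheafOfModules.sheafificationAdjunction (𝟙 (BigSite.ORing Kf T).obj)) M
  obtain ⟨y, hy⟩ := injectiveM_map_surjective
    ((PresheafOfModules.restrictScalars (𝟙 (BigSite.ORing Kf T).obj)).obj M.val)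
    ((res g h (inf_le_left (a := V) (b := W))).ρ.app (op B)) (secEquiv' (famU g h (V ⊓ W)) M B w)
  exact ⟨(secEquiv' (famU g h V) M B).symm y,
    (secEquiv' (famU g h (V ⊓ W)) M B).injective ((transMod_app _ M B _).trans hy)⟩

lemma rl_dl : rl g h V W M ≫ dl g h V W M = rr g h V W M ≫ dr g h V W M :=
  (transMod_res_comp g h _ _ M).trans (transMod_res_comp g h _ _ M).symm

end Two

end Groth.Agent.AdeqLib
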