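import Groth.Agent.AdeqLib.ModBasic
import Groth.Agent.QCAlg.Colim
import Mathlib.AlgebraicGeometry.Morphisms.Flat

/-!
Parasitic adequate modules on the big fppf site.
-/

set_option autoImplicit false
set_option linter.style.haveILetI false
set_option backward.isDefEq.respectTransparency false
universe u

noncomputable section

namespace Groth.Agent.AdeqLib

open CategoryTheory Limits Opposite AlgebraicGeometry TensorProduct
open Adeq (MVF Alg pt ptHom algOf adequate adequateMod toMVF specOver parasitic parasiticFor)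

local notation "Kf" => Scheme.fppfPrecoverage

variable {S : Scheme.{u}}

lemma flat_of_fppf {ι : Type*} {X : ι → Scheme.{u}} {f : ∀ i, X i ⟶ S}
    (h : Presieve.ofArrows X f ∈ Kf S) (i : ι) : Flat (f i) :=
  ((fppf_ofArrows_iff.mp h).2 i).1

/-- A covering sieve of an object of the big fppf site contains a covering family by flat maps. -/
lemma exists_flat_family {U : Over S} {R : Sieve U} (hR : R ∈ QuotSh.J Kf S U) :
    ∃ (ι : Type (u + 1)) (V : ι → Over S) (g : ∀ i, V i ⟶ U),
      Presieve.ofArrows (fun i => (V i).left) (fun i => (g i).left) ∈ Kf U.left ∧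
        (∀ i, R (g i)) ∧ ∀ i, Flat (g i).left := by
  change R ∈ ((Scheme.fppfPrecoverage.{u}).toGrothendieck.over S) U at hR
  rw [GrothendieckTopology.mem_over_iff] at hR
  haveI : fppfP.{u}.ContainsIdentities := ⟨fun X => fppfP_imm _⟩
  haveI : Precoverage.HasIsos (Scheme.fppfPrecoverage.{u}) := inferInstanceAs (Scheme.precoverage fppfP.{u}).HasIsos
  haveI : Precoverage.HasPullbacks (Scheme.fppfPrecoverage.{u}) := inferInstanceAs (Scheme.precoverage fppfP.{u}).HasPullbacks
  obtain ⟨R₀, hR₀, hle⟩ := Precoverage.mem_toGrothendieck_iff_of_isStableUnderComposition.mp hR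
  obtain ⟨ι, X, f, rfl⟩ := R₀.exists_eq_ofArrows
  exact ⟨ι, fun i => Over.mk (f i ≫ U.hom), fun i => Over.homMk (f i), hR₀,
    fun i => (Sieve.overEquiv_iff R (f i)).mp (hle _ _ ⟨i⟩), fun i => flat_of_fppf hR₀ i⟩

/-- The middle of an exact sequence with parasitic ends is parasitic. -/
theorem parasitic_of_exact (C : ShortComplex (BigSite.Mod Kf S)) (hC : C.Exact)
    (p₁ : parasitic Kf S C.X₁) (p₃ : parasitic Kf S C.X₃) : parasitic Kf S C.X₂ := by
  intro U hU
  refine ⟨fun x y => sub_eq_zero.mp ?_⟩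
  obtain ⟨k, hk⟩ := (kernel_sections C.g U).2 (x - y) ((p₃ U hU).elim _ _)
  haveI := hC.epi_kernelLift
  have hls : Sheaf.IsLocallySurjective ((BigSite.toAbMod Kf S).map (kernel.lift C.g C.f C.zero)) :=
    (Sheaf.isLocallySurjective_iff_epi' _ _).mpr inferInstance
  obtain ⟨ι, V, g, hcov, hg, hfl⟩ := exists_flat_family (hls.imageSieve_mem k)
  refine (sections_glue C.X₂ g hcov).1 _ _ fun i => ?_
  rw [map_zero]
  haveI := hU
  haveI := hfl i
  have hV : Flat (V i).hom := by rw [← Over.w (g i)]; infer_instance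
  obtain ⟨w, hw⟩ := hg i
  have hw0 : w = 0 := (p₁ (V i) hV).elim _ _
  rw [hw0, map_zero] at hw
  have e : C.X₂.val.presheaf.map (g i).op (x - y) =
      (kernel.ι C.g).val.app (op (V i)) ((kernel C.g).val.presheaf.map (g i).op k) := by
    rw [← hk]
    exact (PresheafOfModules.naturality_apply (kernel.ι C.g).val (g i).op k).symm
  rw [e]
  exact (congrArg ((kernel.ι C.g).val.app (op (V i))) hw.symm).trans (map_zero _)

variable (M : BigSite.Mod Kf S)

/-- Vanishing on an affine object propagates to affine objects flat over it. -/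
lemma subsingleton_of_flat (hM : adequateMod Kf S M) {R B : CommRingCat.{u}} (a : Spec R ⟶ S) (ψ : R ⟶ B)
    [hψ : Flat (Spec.map ψ)] [h : Subsingleton (M.val.presheaf.obj (op (Over.mk a)))] :
    Subsingleton (M.val.presheaf.obj (op (Over.mk (Spec.map ψ ≫ a)))) := by
  letI : Algebra R B := ψ.hom.toAlgebra
  let f : algOf R R ⟶ algOf R B := CommAlgCat.ofHom (Algebra.ofId R B)
  let F := (toMVF Kf a).obj M
  have hflat : f.hom.toRingHom.Flat := (HasRingHomProperty.Spec_iff (P := @Flat)).mp hψ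
  haveI := isIso_bc (adequate_toMVF_fppf M hM a) f hflat
  let e : Over.mk a ≅ (specOver a).obj (op (algOf R R)) := Over.isoMk (Iso.refl _) (by
    change 𝟙 _ ≫ Spec.map (CommRingCat.ofHom (algebraMap R R)) ≫ a = a
    rw [show Spec.map (CommRingCat.ofHom (algebraMap R R)) = 𝟙 (Spec R) from Spec.map_id _]
    rfl)
  haveI hF₀ : Subsingleton (F.obj (pt (algOf R R))) :=
    ((M.val.presheaf.mapIso e.op).addCommGroupIsoToAddEquiv.toEquiv.subsingleton_congr).mpr h
  have hzero : ∀ z : (ModuleCat.extendScalars.{u, u, u + 1} f.hom.toRingHom).obj (F.obj (pt (algOf R R))),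
      z = 0 := fun z => by
    letI := f.hom.toRingHom.toAlgebra
    induction z using TensorProduct.induction_on with
    | zero => rfl
    | tmul b m => rw [Subsingleton.elim m 0, TensorProduct.tmul_zero]
    | add z w hz hw => rw [hz, hw, add_zero]
  haveI : Subsingleton ((ModuleCat.extendScalars.{u, u, u + 1} f.hom.toRingHom).obj (F.obj (pt (algOf R R)))) :=
    ⟨fun z w => by rw [hzero z, hzero w]⟩
  exact (ConcreteCategory.bijective_of_isIso (F.bc f)).2.subsingleton

/-- An adequate module vanishing on an affine cover is parasitic. -/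
theorem parasitic_of_affine_cover (hM : adequateMod Kf S M) {ι : Type u} (U : ι → S.Opens)
    (hU : ∀ i, IsAffineOpen (U i)) (hcov : (⨆ i, U i) = ⊤)
    (h : ∀ i, Subsingleton (BigSite.sectMod Kf M ((BigSite.zarIncl S).obj (U i)))) : parasitic Kf S M := by
  intro T hT
  have hex : ∀ t : T.left, ∃ i, ∃ V : T.left.Opens, IsAffineOpen V ∧ t ∈ V ∧ V ≤ T.hom ⁻¹ᵁ U i := fun t => by
    obtain ⟨i, hi⟩ := TopologicalSpace.Opens.mem_iSup.mp (show T.hom t ∈ ⨆ i, U i by rw [hcov]; trivial)
    obtain ⟨V, hV, ht, hle⟩ := TopologicalSpace.Opens.isBasis_iff_nbhd.mp T.left.isBasis_affineOpens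
      (show t ∈ T.hom ⁻¹ᵁ U i from hi)
    exact ⟨i, V, hV, ht, hle⟩
  choose i V hV ht hle using hex
  let W : T.left → Over S := fun t => Over.mk ((hV t).fromSpec ≫ T.hom)
  let g : ∀ t, W t ⟶ T := fun t => Over.homMk (hV t).fromSpec
  have hg : Presieve.ofArrows (fun t => (W t).left) (fun t => (g t).left) ∈ Kf T.left := by
    refine fppf_ofArrows_iff.mpr ⟨fun t => ⟨t, ?_⟩, fun t => ?_⟩
    · change t ∈ Set.range (hV t).fromSpec
      rw [(hV t).range_fromSpec]
      exact ht t
    · exact fppfP_imm (hV t).fromSpec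
  refine ⟨fun x y => (sections_glue M g hg).1 x y fun t => ?_⟩
  have hsub : Subsingleton (M.val.presheaf.obj (op (W t))) := by
    let a := (hU (i t)).fromSpec
    have hrange : Set.range ((hV t).fromSpec ≫ T.hom) ⊆ Set.range a := by
      rintro _ ⟨z, rfl⟩
      rw [(hU (i t)).range_fromSpec]
      have hz : (hV t).fromSpec z ∈ (V t : Set T.left) := (hV t).range_fromSpec ▸ Set.mem_range_self z
      exact hle t hz
    let q := IsOpenImmersion.lift a _ hrange
    have hq : q ≫ a = (hV t).fromSpec ≫ T.hom := IsOpenImmersion.lift_fac _ _ _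
    have hqf : Flat q := by
      haveI := hT
      have sq : IsPullback (𝟙 _) q (q ≫ a) a :=
        IsPullback.of_isLimit' ⟨by simp⟩ (PullbackCone.IsLimit.mk _ (fun s => s.fst) (fun s => Category.comp_id _)
          (fun s => (cancel_mono a).mp (by rw [Category.assoc]; exact s.condition))
          (fun s m h₁ _ => by simpa using h₁))
      refine MorphismProperty.of_isPullback (P := @Flat) sq ?_
      rw [hq]
      infer_instance
    obtain ⟨ψ, hψ⟩ := Spec.map_surjective q
    haveI := hqf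
    haveI : Flat (Spec.map ψ) := by rw [hψ]; exact hqf
    haveI h₀ : Subsingleton (M.val.presheaf.obj (op (Over.mk a))) := by
      let e : Over.mk a ≅ (BigSite.zarIncl S).obj (U (i t)) :=
        Over.isoMk (hU (i t)).isoSpec.symm ((hU (i t)).isoSpec_inv_ι)
      exact ((M.val.presheaf.mapIso e.op).addCommGroupIsoToAddEquiv.toEquiv.subsingleton_congr).mp (h (i t))
    let e₂ : W t ≅ Over.mk (Spec.map ψ ≫ a) := Over.isoMk (Iso.refl _) (by
      change 𝟙 _ ≫ Spec.map ψ ≫ a = (hV t).fromSpec ≫ T.hom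
      rw [Category.id_comp, hψ, hq])
    exact (M.val.presheaf.mapIso e₂.op).addCommGroupIsoToAddEquiv.toEquiv.subsingleton_congr.mp
      (subsingleton_of_flat M hM a ψ)
  exact hsub.elim _ _

theorem parasitic_tfae (hM : adequateMod Kf S M) :
    List.TFAE [parasitic Kf S M, parasiticFor Kf S M,
      ∀ U : S.Opens, Subsingleton (BigSite.sectMod Kf M ((BigSite.zarIncl S).obj U)),
      ∃ (ι : Type u) (U : ι → S.Opens), (∀ i, IsAffineOpen (U i)) ∧ (⨆ i, U i) = ⊤ ∧
        ∀ i, Subsingleton (BigSite.sectMod Kf M ((BigSite.zarIncl S).obj (U i)))] := by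
  have hsup : (⨆ U : {U : S.Opens // IsAffineOpen U}, U.1) = ⊤ := by
    ext x
    simp only [TopologicalSpace.Opens.mem_iSup, TopologicalSpace.Opens.coe_top, Set.mem_univ, iff_true,
      SetLike.mem_coe]
    obtain ⟨V, hV, hx, -⟩ := TopologicalSpace.Opens.isBasis_iff_nbhd.mp
      S.isBasis_affineOpens (U := ⊤) (x := x) trivial
    exact ⟨⟨V, hV⟩, hx⟩
  tfae_have 1 → 2 := fun h P hP V g hg => by
    obtain ⟨ι, X, f, rfl⟩ := P.exists_eq_ofArrows
    obtain ⟨i⟩ := hg
    exact h (Over.mk (f i)) (flat_of_fppf hP i)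
  tfae_have 1 → 3 := fun h U => h _ (show Flat U.ι from inferInstance)
  tfae_have 3 → 4 := fun h => ⟨_, fun U : {U : S.Opens // IsAffineOpen U} => U.1, fun U => U.2, hsup, fun U => h U.1⟩
  tfae_have 2 → 4 := fun h => by
    refine ⟨_, fun U : {U : S.Opens // IsAffineOpen U} => U.1, fun U => U.2, hsup, fun U => ?_⟩
    refine @h (Presieve.ofArrows (fun U : {U : S.Opens // IsAffineOpen U} => U.1.toScheme) (fun U => U.1.ι))
      (fppf_ofArrows_iff.mpr ⟨fun x => ?_, fun V => fppfP_imm _⟩) _ U.1.ι ⟨U⟩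
    obtain ⟨V, hV, hx, -⟩ := TopologicalSpace.Opens.isBasis_iff_nbhd.mp
      S.isBasis_affineOpens (U := ⊤) (x := x) trivial
    exact ⟨⟨V, hV⟩, ⟨x, hx⟩, rfl⟩
  tfae_have 4 → 1 := fun ⟨ι, U, hU, hc, h⟩ => parasitic_of_affine_cover M hM U hU hc h
  tfae_finish

end Groth.Agent.AdeqLib
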