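import Groth.Agent.AdeqLib.Amitsur1
import Mathlib.LinearAlgebra.TensorProduct.Pi
import Mathlib.RingTheory.Flat.FaithfullyFlat.Algebra
import Mathlib.RingTheory.Spectrum.Prime.Topology

/-!
Adequate functors and finite products of algebras; descent along finite covering families.
-/

set_option autoImplicit false
set_option linter.style.haveILetI false
set_option backward.isDefEq.respectTransparency false
universe u v

noncomputable section

namespace Groth.Agent.AdeqLib

open CategoryTheory TensorProduct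
open Adeq (MVF Alg pt ptHom underline adequate algOf)

section Linear

variable {R : Type u} [CommRing R] {D : Type u} [AddCommGroup D] [Module R D] {L : Type} [Fintype L]
  {Dl : L → Type u} [∀ l, AddCommGroup (Dl l)] [∀ l, Module R (Dl l)]

/-- Components of `D` form a product. -/
def IsProd (q : ∀ l, D →ₗ[R] Dl l) : Prop := Function.Bijective fun d l => q l d

lemma IsProd.rTensor {q : ∀ l, D →ₗ[R] Dl l} (h : IsProd q) (M : Type v) [AddCommGroup M] [Module R M] :
    Function.Bijective fun (x : D ⊗[R] M) l => (q l).rTensor M x := by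
  classical
  let Φ := LinearEquiv.ofBijective (LinearMap.pi q) h
  have : (fun (x : D ⊗[R] M) l => (q l).rTensor M x) =
      fun x => TensorProduct.piLeft R M Dl (Φ.rTensor M x) := by
    funext x l
    induction x using TensorProduct.induction_on with
    | zero => simp
    | add x y hx hy => simp only [map_add, Pi.add_apply, hx, hy]
    | tmul d m => simp [Φ, TensorProduct.piLeft]
  rw [this]
  exact (TensorProduct.piLeft R M Dl).bijective.comp (Φ.rTensor M).bijective

/-- Tensor products of products. -/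
lemma IsProd.tensor {q : ∀ l, D →ₗ[R] Dl l} (h : IsProd q) {E : Type u} [AddCommGroup E] [Module R E]
    {K : Type} [Fintype K] {Ek : K → Type u} [∀ k, AddCommGroup (Ek k)] [∀ k, Module R (Ek k)]
    {p : ∀ k, E →ₗ[R] Ek k} (hp : IsProd p) :
    IsProd fun lk : L × K => TensorProduct.map (q lk.1) (p lk.2) := by
  have h₁ := h.rTensor E
  have h₂ : ∀ l, Function.Bijective fun (x : Dl l ⊗[R] E) k => (p k).lTensor (Dl l) x := fun l => by
    have h' := hp.rTensor (Dl l)
    have : (fun (x : Dl l ⊗[R] E) k => (p k).lTensor (Dl l) x) =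
        fun x k => TensorProduct.comm R (Ek k) (Dl l) ((p k).rTensor (Dl l) (TensorProduct.comm R (Dl l) E x)) := by
      funext x k
      induction x using TensorProduct.induction_on with
      | zero => simp
      | add x y hx hy => simp only [map_add, hx, hy]
      | tmul d m => simp
    rw [this]
    exact ((Equiv.piCongrRight fun k => (TensorProduct.comm R (Ek k) (Dl l)).toEquiv).bijective.comp h').comp
      (TensorProduct.comm R (Dl l) E).bijective
  have hb : Function.Bijective fun (x : D ⊗[R] E) l k => (p k).lTensor (Dl l) ((q l).rTensor E x) :=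
    (Equiv.piCongrRight fun l => Equiv.ofBijective _ (h₂ l)).bijective.comp h₁
  have hc : Function.Bijective fun (f : ∀ l k, Dl l ⊗[R] Ek k) (lk : L × K) => f lk.1 lk.2 :=
    ⟨fun f g e => funext fun l => funext fun k => congrFun e (l, k), fun f => ⟨fun l k => f (l, k), rfl⟩⟩
  have e : (fun (x : D ⊗[R] E) (lk : L × K) => TensorProduct.map (q lk.1) (p lk.2) x) =
      (fun (f : ∀ l k, Dl l ⊗[R] Ek k) (lk : L × K) => f lk.1 lk.2) ∘
        fun (x : D ⊗[R] E) l k => (p k).lTensor (Dl l) ((q l).rTensor E x) := by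
    funext x lk
    exact (LinearMap.congr_fun (LinearMap.lTensor_comp_rTensor (f := q lk.1) (g := p lk.2)) x).symm
  unfold IsProd
  rw [e]
  exact hc.comp hb

lemma isProd_proj {L : Type} [Fintype L] (Dl : L → Type u) [∀ l, AddCommGroup (Dl l)] [∀ l, Module R (Dl l)] :
    IsProd fun l => (LinearMap.proj l : (∀ l, Dl l) →ₗ[R] Dl l) :=
  Function.bijective_id

end Linear

section Adequate

variable {R : Type u} [CommRing R] {F : MVF R}

/-- Adequate functors turn finite products of algebras into products. -/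
theorem adequate_prod (hF : adequate R F) {L : Type} [Fintype L] {D : Alg R} {Dl : L → Alg R}
    (q : ∀ l, D ⟶ Dl l) (hq : IsProd fun l => (q l).hom.toLinearMap) :
    Function.Bijective fun (x : F.obj (pt D)) l => mp F (q l) x := by
  obtain ⟨M, N, n, ι, hinj, hran⟩ := exists_emb hF
  constructor
  · intro x y h
    refine hinj D ((hq.rTensor M).1 (funext fun l => ?_))
    change (q l).hom.toLinearMap.rTensor M (toU ι D x) = (q l).hom.toLinearMap.rTensor M (toU ι D y)
    rw [← toU_mp, ← toU_mp, show mp F (q l) x = mp F (q l) y from congrFun h l]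
  · intro y
    obtain ⟨v, hv⟩ := (hq.rTensor M).2 fun l => toU ι (Dl l) (y l)
    have hv' : ∀ l, (q l).hom.toLinearMap.rTensor M v = toU ι (Dl l) (y l) := congrFun hv
    obtain ⟨x, hx⟩ := (hran D v).mpr ((hq.rTensor N).1 (funext fun l => by
      change (q l).hom.toLinearMap.rTensor N (n.hom.baseChange D v) = (q l).hom.toLinearMap.rTensor N 0
      rw [rTensor_baseChange, map_zero, hv']
      exact (hran _ _).mp ⟨y l, rfl⟩))
    refine ⟨x, funext fun l => hinj _ ?_⟩
    rw [toU_mp, hx, hv']

variable {n : ℕ} (A : Fin n → Type u) [∀ j, CommRing (A j)] [∀ j, Algebra R (A j)]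

/-- The product algebra. -/
abbrev piAlg : Type u := ∀ j, A j

/-- A component of the product. -/
def prj (j : Fin n) : algOf R (piAlg A) ⟶ algOf R (A j) := CommAlgCat.ofHom (Pi.evalAlgHom R A j)

/-- The double overlap. -/
abbrev ov2 (i j : Fin n) : Alg R := algOf R (A i ⊗[R] A j)

/-- The triple overlap. -/
abbrev ov3 (i j k : Fin n) : Alg R := algOf R (A i ⊗[R] (A j ⊗[R] A k))

/-- First restriction to a double overlap. -/
def resL (i j : Fin n) : algOf R (A i) ⟶ ov2 A i j :=
  CommAlgCat.ofHom (Algebra.TensorProduct.includeLeft : A i →ₐ[R] A i ⊗[R] A j)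

/-- Second restriction to a double overlap. -/
def resR (i j : Fin n) : algOf R (A j) ⟶ ov2 A i j :=
  CommAlgCat.ofHom (Algebra.TensorProduct.includeRight : A j →ₐ[R] A i ⊗[R] A j)

/-- Restriction from `(j,k)` to `(i,j,k)`. -/
def res0 (i j k : Fin n) : ov2 (R := R) A j k ⟶ ov3 A i j k :=
  CommAlgCat.ofHom (Algebra.TensorProduct.includeRight : A j ⊗[R] A k →ₐ[R] A i ⊗[R] (A j ⊗[R] A k))

/-- Restriction from `(i,k)` to `(i,j,k)`. -/
def res1 (i j k : Fin n) : ov2 (R := R) A i k ⟶ ov3 A i j k :=
  CommAlgCat.ofHom (Algebra.TensorProduct.map (AlgHom.id R (A i))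
    (Algebra.TensorProduct.includeRight : A k →ₐ[R] A j ⊗[R] A k))

/-- Restriction from `(i,j)` to `(i,j,k)`. -/
def res2 (i j k : Fin n) : ov2 (R := R) A i j ⟶ ov3 A i j k :=
  CommAlgCat.ofHom (Algebra.TensorProduct.map (AlgHom.id R (A i))
    (Algebra.TensorProduct.includeLeft : A j →ₐ[R] A j ⊗[R] A k))

/-- A component of the double tensor power. -/
def prj2 (i j : Fin n) : alg2 (R := R) (piAlg A) ⟶ ov2 A i j :=
  CommAlgCat.ofHom (Algebra.TensorProduct.map (Pi.evalAlgHom R A i) (Pi.evalAlgHom R A j))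

/-- A component of the triple tensor power. -/
def prj3 (i j k : Fin n) : alg3 (R := R) (piAlg A) ⟶ ov3 A i j k :=
  CommAlgCat.ofHom (Algebra.TensorProduct.map (Pi.evalAlgHom R A i)
    (Algebra.TensorProduct.map (Pi.evalAlgHom R A j) (Pi.evalAlgHom R A k)))

lemma inL_prj2 (i j : Fin n) : inL (R := R) (piAlg A) ≫ prj2 A i j = prj A i ≫ resL A i j := by
  ext x
  simp [inL, prj2, prj, resL]

lemma inR_prj2 (i j : Fin n) : inR (R := R) (piAlg A) ≫ prj2 A i j = prj A j ≫ resR A i j := by
  ext x
  simp [inR, prj2, prj, resR]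

lemma face0_prj3 (i j k : Fin n) : face0 (R := R) (piAlg A) ≫ prj3 A i j k = prj2 A j k ≫ res0 A i j k := by
  apply CommAlgCat.hom_ext
  refine Algebra.TensorProduct.ext ?_ ?_ <;> ext x <;> simp [face0, prj3, prj2, res0]

lemma face1_prj3 (i j k : Fin n) : face1 (R := R) (piAlg A) ≫ prj3 A i j k = prj2 A i k ≫ res1 A i j k := by
  apply CommAlgCat.hom_ext
  refine Algebra.TensorProduct.ext ?_ ?_ <;> ext x <;> simp [face1, prj3, prj2, res1]

lemma face2_prj3 (i j k : Fin n) : face2 (R := R) (piAlg A) ≫ prj3 A i j k = prj2 A i j ≫ res2 A i j k := by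
  apply CommAlgCat.hom_ext
  refine Algebra.TensorProduct.ext ?_ ?_ <;> ext x <;> simp [face2, prj3, prj2, res2]

lemma isProd_prj : IsProd fun j => (prj (R := R) A j).hom.toLinearMap :=
  isProd_proj (R := R) A

lemma isProd_prj2 : IsProd fun ij : Fin n × Fin n => (prj2 (R := R) A ij.1 ij.2).hom.toLinearMap := by
  have e : (fun ij : Fin n × Fin n => (prj2 (R := R) A ij.1 ij.2).hom.toLinearMap) =
      fun ij : Fin n × Fin n => TensorProduct.map (LinearMap.proj (R := R) (φ := A) ij.1) (LinearMap.proj (R := R) (φ := A) ij.2) :=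
    funext fun ij => TensorProduct.ext' fun a b => rfl
  rw [e]
  exact IsProd.tensor (isProd_proj (R := R) A) (isProd_proj (R := R) A)

lemma isProd_prj3 :
    IsProd fun ijk : Fin n × (Fin n × Fin n) => (prj3 (R := R) A ijk.1 ijk.2.1 ijk.2.2).hom.toLinearMap := by
  have e : (fun ijk : Fin n × (Fin n × Fin n) => (prj3 (R := R) A ijk.1 ijk.2.1 ijk.2.2).hom.toLinearMap) =
      fun ijk : Fin n × (Fin n × Fin n) => TensorProduct.map (LinearMap.proj (R := R) (φ := A) ijk.1)
        (TensorProduct.map (LinearMap.proj (R := R) (φ := A) ijk.2.1) (LinearMap.proj (R := R) (φ := A) ijk.2.2)) :=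
    funext fun ijk => TensorProduct.ext <| LinearMap.ext fun a => TensorProduct.ext' fun b c => rfl
  rw [e]
  exact IsProd.tensor (K := Fin n × Fin n) (Ek := fun jk => A jk.1 ⊗[R] A jk.2)
    (p := fun jk => TensorProduct.map (LinearMap.proj (R := R) (φ := A) jk.1) (LinearMap.proj (R := R) (φ := A) jk.2))
    (isProd_proj (R := R) A) (IsProd.tensor (isProd_proj (R := R) A) (isProd_proj (R := R) A))

/-- A jointly surjective finite family of flat algebras has faithfully flat product. -/
lemma faithfullyFlat_pi [∀ j, Module.Flat R (A j)]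
    (hs : ∀ p : PrimeSpectrum R, ∃ j, p ∈ Set.range (PrimeSpectrum.comap (algebraMap R (A j)))) :
    Module.FaithfullyFlat R (piAlg A) := by
  classical
  haveI : Module.Flat R (piAlg A) :=
    Module.Flat.of_linearEquiv (DirectSum.linearEquivFunOnFintype R (Fin n) A).symm
  refine Module.FaithfullyFlat.of_comap_surjective fun p => ?_
  obtain ⟨j, q, rfl⟩ := hs p
  exact ⟨PrimeSpectrum.comap (Pi.evalRingHom A j) q, rfl⟩

variable [∀ j, Module.Flat R (A j)] (hF : adequate R F)
  (hs : ∀ p : PrimeSpectrum R, ∃ j, p ∈ Set.range (PrimeSpectrum.comap (algebraMap R (A j))))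

/-- The structure map. -/
def strMap (j : Fin n) : algOf R R ⟶ algOf R (A j) := CommAlgCat.ofHom (Algebra.ofId R (A j))

lemma ofId_prj (j : Fin n) :
    (CommAlgCat.ofHom (Algebra.ofId R (piAlg A)) : algOf R R ⟶ algOf R (piAlg A)) ≫ prj A j = strMap A j := by
  ext : 1
  exact Subsingleton.elim _ _

include hF hs

lemma family_injective (x : F.obj (pt (algOf R R))) (h : ∀ j, mp F (strMap A j) x = 0) : x = 0 := by
  haveI := faithfullyFlat_pi A hs
  refine (adequate_descent₀ hF (piAlg A)).1 ?_
  rw [map_zero]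
  refine (adequate_prod hF (fun j => prj A j) (isProd_prj A)).1 (funext fun j => ?_)
  dsimp only
  rw [← mp_comp, ofId_prj, h, map_zero]

lemma family_glue (y : ∀ j, F.obj (pt (algOf R (A j))))
    (hy : ∀ i j, mp F (resR A i j) (y j) = mp F (resL A i j) (y i)) :
    ∃ x, ∀ j, mp F (strMap A j) x = y j := by
  haveI := faithfullyFlat_pi A hs
  obtain ⟨v, hv⟩ := (adequate_prod hF (fun j => prj A j) (isProd_prj A)).2 y
  have hv' : ∀ j, mp F (prj A j) v = y j := congrFun hv
  obtain ⟨x, hx⟩ := (adequate_descent₀ hF (piAlg A)).2 v (by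
    refine (adequate_prod hF _ (isProd_prj2 A)).1 (funext fun ij => ?_)
    change mp F (prj2 A ij.1 ij.2) (mp F (inL (piAlg A)) v) = mp F (prj2 A ij.1 ij.2) (mp F (inR (piAlg A)) v)
    rw [← mp_comp, ← mp_comp, inL_prj2, inR_prj2, mp_comp, mp_comp, hv', hv', hy])
  exact ⟨x, fun j => by rw [← ofId_prj, mp_comp, hx, hv']⟩

lemma family_cocycle (z : ∀ i j, F.obj (pt (ov2 (R := R) A i j)))
    (hz : ∀ i j k, mp F (res0 A i j k) (z j k) - mp F (res1 A i j k) (z i k) + mp F (res2 A i j k) (z i j) = 0) :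
    ∃ y : ∀ j, F.obj (pt (algOf R (A j))), ∀ i j, mp F (resR A i j) (y j) - mp F (resL A i j) (y i) = z i j := by
  haveI := faithfullyFlat_pi A hs
  obtain ⟨w, hw⟩ := (adequate_prod hF _ (isProd_prj2 A)).2 fun ij => z ij.1 ij.2
  have hw' : ∀ i j, mp F (prj2 A i j) w = z i j := fun i j => congrFun hw (i, j)
  obtain ⟨v, hv⟩ := adequate_cocycle (piAlg A) hF w (by
    refine (adequate_prod hF _ (isProd_prj3 A)).1 (funext fun ijk => ?_)
    obtain ⟨i, j, k⟩ := ijk
    dsimp only
    rw [map_add, map_sub, map_zero, ← mp_comp, ← mp_comp, ← mp_comp, face0_prj3, face1_prj3, face2_prj3,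
      mp_comp, mp_comp, mp_comp, hw', hw', hw', hz])
  refine ⟨fun j => mp F (prj A j) v, fun i j => ?_⟩
  rw [← mp_comp, ← mp_comp, ← inR_prj2, ← inL_prj2, mp_comp, mp_comp, ← map_sub, hv, hw']

end Adequate

end Groth.Agent.AdeqLib
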