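import Groth.Agent.AdeqLib.Cover
import Groth.Agent.AdeqLib.AlgColim
import Mathlib.Algebra.Category.Grp.FilteredColimits
import Mathlib.CategoryTheory.Limits.Preserves.Filtered
import Mathlib.LinearAlgebra.TensorProduct.Tower
import Mathlib.RingTheory.Flat.Basic
import Mathlib.RingTheory.RingHom.Flat
import Mathlib.RingTheory.TensorProduct.Basic

/-!
Filtered colimits, flat base change, restriction and push forward of adequate functors.
-/

set_option autoImplicit false
set_option linter.style.haveILetI false
set_option backward.isDefEq.respectTransparency false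
universe u

noncomputable section

namespace Groth.Agent.AdeqLib

open CategoryTheory Limits Opposite TensorProduct
open Adeq (MVF Alg pt ptHom underline adequate linAdequate)

variable {A : Type u} [CommRing A]

section Colim

variable {J : Type u} [SmallCategory J] [IsFiltered J] {D : J ⥤ Alg A} {c : Cocone D}

lemma exists_stage (hc : IsColimit c) {n : ℕ} (b : Fin n → c.pt) :
    ∃ (j : J) (x : Fin n → D.obj j), ∀ i, (c.ι.app j).hom (x i) = b i := by
  classical
  choose j x hx using fun i => (algColim_spec hc).1 (b i)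
  obtain ⟨k, hk⟩ := IsFiltered.sup_objs_exists (Finset.univ.image j)
  refine ⟨k, fun i => (D.map (hk (Finset.mem_image_of_mem j (Finset.mem_univ i))).some).hom (x i), fun i => ?_⟩
  have h := congrArg (fun m => m.hom (x i)) (c.w (hk (Finset.mem_image_of_mem j (Finset.mem_univ i))).some)
  exact h.trans (hx i)

lemma exists_stage_eq (hc : IsColimit c) {j : J} (s : Finset (D.obj j × D.obj j))
    (h : ∀ p ∈ s, (c.ι.app j).hom p.1 = (c.ι.app j).hom p.2) :
    ∃ (k : J) (f : j ⟶ k), ∀ p ∈ s, (D.map f).hom p.1 = (D.map f).hom p.2 := by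
  classical
  induction s using Finset.induction_on with
  | empty => exact ⟨j, 𝟙 j, by simp⟩
  | insert p s hp ih =>
    obtain ⟨k, f, hf⟩ := ih fun q hq => h q (Finset.mem_insert_of_mem hq)
    obtain ⟨k₁, g, hg⟩ := (algColim_spec hc).2 j p.1 p.2 (h p (Finset.mem_insert_self _ _))
    refine ⟨IsFiltered.coeq (f ≫ IsFiltered.leftToMax k k₁) (g ≫ IsFiltered.rightToMax k k₁),
      (f ≫ IsFiltered.leftToMax k k₁) ≫ IsFiltered.coeqHom _ _, fun q hq => ?_⟩
    rcases Finset.mem_insert.mp hq with rfl | hq
    · rw [IsFiltered.coeq_condition]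
      simp only [Functor.map_comp, CommAlgCat.hom_comp, AlgHom.comp_apply, hg]
    · simp only [Functor.map_comp, CommAlgCat.hom_comp, AlgHom.comp_apply, hf q hq]

lemma exists_rep_tensor (hc : IsColimit c) {M : ModuleCat.{u + 1} A}
    (v : (c.pt : Type u) ⊗[A] M) :
    ∃ (j : J) (w : (D.obj j : Type u) ⊗[A] M), (c.ι.app j).hom.toLinearMap.rTensor M w = v := by
  induction v using TensorProduct.induction_on with
  | zero => exact ⟨(IsFiltered.nonempty (C := J)).some, 0, map_zero _⟩
  | tmul b m =>
    obtain ⟨j, x, hx⟩ := (algColim_spec hc).1 b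
    exact ⟨j, x ⊗ₜ m, by rw [← hx]; rfl⟩
  | add v v' hv hv' =>
    obtain ⟨j, w, rfl⟩ := hv
    obtain ⟨j', w', rfl⟩ := hv'
    refine ⟨IsFiltered.max j j', (D.map (IsFiltered.leftToMax j j')).hom.toLinearMap.rTensor M w +
      (D.map (IsFiltered.rightToMax j j')).hom.toLinearMap.rTensor M w', ?_⟩
    rw [map_add]
    congr 1 <;>
    · rw [← LinearMap.comp_apply, ← LinearMap.rTensor_comp]
      congr 2
      exact LinearMap.ext fun x => congrArg (fun m => m.hom x) (c.w _)

lemma exists_tensor_eq_zero (hc : IsColimit c) {M : ModuleCat.{u + 1} A} {j : J}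
    (w : (D.obj j : Type u) ⊗[A] M) (h : (c.ι.app j).hom.toLinearMap.rTensor M w = 0) :
    ∃ (k : J) (f : j ⟶ k), (D.map f).hom.toLinearMap.rTensor M w = 0 := by
  classical
  obtain ⟨S, hS⟩ := TensorProduct.exists_finset w
  let eS := S.equivFin
  let b : Fin S.card → D.obj j := fun i => (eS.symm i).1.1
  let z : Fin S.card → M := fun i => (eS.symm i).1.2
  have hw : w = ∑ i, b i ⊗ₜ[A] z i := by
    rw [hS, ← Finset.sum_coe_sort]
    exact Fintype.sum_equiv eS _ _ (fun i => by simp [b, z])
  have h0 : ∑ i, (c.ι.app j).hom (b i) ⊗ₜ[A] z i = 0 := by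
    rw [hw, map_sum] at h
    simpa using h
  obtain ⟨n', b', e, k, cc, y, hej, hb', hout, hin, hrel⟩ := exists_relations _ z h0
  obtain ⟨j₁, x, hx⟩ := exists_stage hc b'
  let j₂ := IsFiltered.max j j₁
  let L := D.map (IsFiltered.leftToMax j j₁)
  let R := D.map (IsFiltered.rightToMax j j₁)
  have hL : ∀ q, (c.ι.app j₂).hom (L.hom q) = (c.ι.app j).hom q := fun q =>
    congrArg (fun m => m.hom q) (c.w (IsFiltered.leftToMax j j₁))
  have hR : ∀ q, (c.ι.app j₂).hom (R.hom q) = (c.ι.app j₁).hom q := fun q =>
    congrArg (fun m => m.hom q) (c.w (IsFiltered.rightToMax j j₁))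
  obtain ⟨k₃, f, hf⟩ := exists_stage_eq hc
    (Finset.univ.image (fun i => (R.hom (x (e i)), L.hom (b i))) ∪
      Finset.univ.image (fun l => (R.hom (∑ i, cc i l • x i), 0))) (by
    intro p hp
    simp only [Finset.mem_union, Finset.mem_image, Finset.mem_univ, true_and] at hp
    rcases hp with ⟨i, rfl⟩ | ⟨l, rfl⟩
    · rw [hL, hR, hx, hb']
    · rw [hR, map_zero, map_sum]
      simp only [map_smul, hx]
      exact hrel l)
  refine ⟨k₃, IsFiltered.leftToMax j j₁ ≫ f, ?_⟩
  let z' : Fin n' → M := fun l => ∑ t, cc l t • y t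
  have h1 : ∀ i, (D.map (IsFiltered.leftToMax j j₁ ≫ f)).hom (b i) = (D.map f).hom (R.hom (x (e i))) :=
    fun i => by
      rw [hf _ (Finset.mem_union_left _ (Finset.mem_image_of_mem (fun i => (R.hom (x (e i)), L.hom (b i)))
        (Finset.mem_univ i))), D.map_comp]
      rfl
  have h2 : ∀ l, ∑ i, cc i l • (D.map f).hom (R.hom (x i)) = 0 := fun l => by
    have := hf _ (Finset.mem_union_right _ (Finset.mem_image_of_mem (fun l => (R.hom (∑ i, cc i l • x i), 0))
      (Finset.mem_univ l)))
    simpa [map_sum, map_smul] using this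
  calc _ = ∑ i, (D.map f).hom (R.hom (x (e i))) ⊗ₜ[A] z' (e i) := by
        rw [hw, map_sum]
        exact Finset.sum_congr rfl fun i _ => by
          rw [LinearMap.rTensor_tmul, AlgHom.toLinearMap_apply, h1, hin]
    _ = ∑ l, (D.map f).hom (R.hom (x l)) ⊗ₜ[A] z' l := by
        rw [← Finset.sum_subset (Finset.subset_univ (Finset.univ.image e)),
          Finset.sum_image fun i _ j _ h => hej h]
        intro l _ hl
        simp only [Finset.mem_image, Finset.mem_univ, true_and] at hl
        rw [show z' l = 0 from hout l (not_exists.mp hl), TensorProduct.tmul_zero]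
    _ = 0 := by
        simp only [z', TensorProduct.tmul_sum, TensorProduct.tmul_smul, TensorProduct.smul_tmul']
        rw [Finset.sum_comm]
        simp only [← TensorProduct.sum_tmul, h2, TensorProduct.zero_tmul, Finset.sum_const_zero]

/-- Adequate functors commute with filtered colimits. -/
theorem isColimit_toAb {F : MVF A} (hF : adequate A F) (hc : IsColimit c) :
    Nonempty (IsColimit (F.toAb.mapCocone c)) := by
  obtain ⟨M, N, n, ι, hinj, hran⟩ := exists_emb hF
  haveI : PreservesFilteredColimitsOfSize.{u, u} (forget Ab.{u + 1}) :=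
    preservesFilteredColimitsOfSize_of_univLE.{u + 1, u + 1} _
  haveI : PreservesColimitsOfShape J (forget Ab.{u + 1}) :=
    PreservesFilteredColimitsOfSize.preserves_filtered_colimits J
  haveI : ReflectsColimitsOfShape J (forget Ab.{u + 1}) := reflectsColimitsOfShape_of_reflectsIsomorphisms
  refine ⟨isColimitOfReflects (forget Ab.{u + 1}) ?_⟩
  refine Types.FilteredColimit.isColimitOf' _ _ (fun (z : F.obj (pt c.pt)) => ?_) fun j x y h => ?_
  · obtain ⟨j, w, hw⟩ := exists_rep_tensor hc (toU ι c.pt z)
    have h0 : (c.ι.app j).hom.toLinearMap.rTensor N (n.hom.baseChange (D.obj j) w) = 0 := by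
      rw [rTensor_baseChange, hw]
      exact (hran _ _).mp ⟨z, rfl⟩
    obtain ⟨k, f, hk⟩ := exists_tensor_eq_zero hc _ h0
    rw [rTensor_baseChange] at hk
    obtain ⟨x, hx⟩ := (hran _ _).mpr hk
    refine ⟨k, x, hinj _ ?_⟩
    change _ = toU ι c.pt (mp F (c.ι.app k) x)
    rw [show toU ι c.pt (mp F (c.ι.app k) x) = _ from toU_mp ι (c.ι.app k) x, hx, ← LinearMap.comp_apply, ← LinearMap.rTensor_comp, ← hw]
    congr 2
    exact LinearMap.ext fun q => (congrArg (fun m => m.hom q) (c.w f)).symm
  · change mp F (c.ι.app j) x = mp F (c.ι.app j) y at h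
    have h' : (c.ι.app j).hom.toLinearMap.rTensor M (toU ι (D.obj j) x) =
        (c.ι.app j).hom.toLinearMap.rTensor M (toU ι (D.obj j) y) :=
      (toU_mp ι (c.ι.app j) x).symm.trans ((congrArg (toU ι c.pt) h).trans (toU_mp ι (c.ι.app j) y))
    rw [← sub_eq_zero, ← map_sub, ← map_sub] at h'
    obtain ⟨k, f, hk⟩ := exists_tensor_eq_zero hc _ h'
    refine ⟨k, f, hinj _ ?_⟩
    change toU ι (D.obj k) (mp F (D.map f) x) = toU ι (D.obj k) (mp F (D.map f) y)
    rw [toU_mp, toU_mp, ← sub_eq_zero, ← map_sub, ← map_sub]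
    exact hk

end Colim

/-- Flat base change. -/
theorem isIso_bc {F : MVF A} (hF : adequate A F) {B B' : Alg A} (f : B ⟶ B')
    (hf : f.hom.toRingHom.Flat) : IsIso (F.bc f) := by
  obtain ⟨M, N, n, ι, hinj, hran⟩ := exists_emb hF
  algebraize [f.hom.toRingHom]
  haveI : IsScalarTower A (B : Type u) (B' : Type u) :=
    IsScalarTower.of_algebraMap_eq fun a => (f.hom.commutes a).symm
  let eM := AlgebraTensorModule.cancelBaseChange A (B : Type u) (B' : Type u) (B' : Type u) M
  let eN := AlgebraTensorModule.cancelBaseChange A (B : Type u) (B' : Type u) (B' : Type u) N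
  let θ := (toU ι B).lTensor (B' : Type u)
  have hθ : Function.Injective θ := Module.Flat.lTensor_preserves_injective_linearMap _ (hinj B)
  have hex : Function.Exact θ ((n.hom.baseChange (B : Type u)).lTensor (B' : Type u)) :=
    Module.Flat.lTensor_exact _ (fun x => (hran B x).symm)
  have heN : ∀ z, eN ((n.hom.baseChange (B : Type u)).lTensor (B' : Type u) z) = n.hom.baseChange B' (eM z) := by
    intro z
    induction z using TensorProduct.induction_on with
    | zero => simp
    | tmul b w =>
      induction w using TensorProduct.induction_on with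
      | zero => simp
      | tmul b₀ m => simp [eM, eN]
      | add w w' hw hw' => simp only [TensorProduct.tmul_add, map_add, hw, hw']
    | add z z' hz hz' => simp only [map_add, hz, hz']
  let bc' : ((B' : Type u) ⊗[(B : Type u)] F.obj (pt B)) → F.obj (pt B') := fun z => (F.bc f).hom z
  have hbc : ∀ z, toU ι B' (bc' z) = eM (θ z) := by
    intro z
    induction z using TensorProduct.induction_on with
    | zero =>
      rw [show bc' 0 = 0 from map_zero (F.bc f).hom]
      simp
    | add z z' hz hz' =>
      rw [show bc' (z + z') = bc' z + bc' z' from map_add (F.bc f).hom z z', map_add, hz, hz', map_add,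
        map_add]
    | tmul b x =>
      have e : bc' (b ⊗ₜ x) = b • mp F f x := by
        change (F.bc f).hom (b ⊗ₜ x) = _
        rw [Adeq.MVF.bc]
        rfl
      rw [e, map_smul, toU_mp]
      change _ = eM (b ⊗ₜ toU ι B x)
      induction toU ι B x using TensorProduct.induction_on with
      | zero => simp
      | tmul b₀ m =>
        simp [eM, Algebra.smul_def, RingHom.algebraMap_toAlgebra, TensorProduct.smul_tmul', mul_comm]
      | add w w' hw hw' => rw [map_add, smul_add, hw, hw', TensorProduct.tmul_add, map_add]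
  have hbij : Function.Bijective bc' := by
    constructor
    · intro z z' h
      exact hθ (eM.injective (by rw [← hbc, ← hbc, h]))
    · intro y
      obtain ⟨z, hz⟩ := (hex (eM.symm (toU ι B' y))).mp (eN.injective (by
        rw [heN, eM.apply_symm_apply, map_zero]
        exact (hran B' _).mp ⟨y, rfl⟩))
      exact ⟨z, hinj B' (by rw [hbc, hz, eM.apply_symm_apply])⟩
  exact (ConcreteCategory.isIso_iff_bijective (F.bc f)).mpr hbij

/-! ### Change of ring -/

section Change

variable (A' : Type u) [CommRing A'] [Algebra A A']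

/-- Restriction of scalars of an algebra. -/
abbrev resAlg (B : Alg A') : Alg A := (Adeq.Alg.restr A A').obj B

/-- Base change of an algebra. -/
abbrev bcAlg (B : Alg A) : Alg A' := (Adeq.Alg.baseChange A A').obj B

/-- `B ⊗_{A'} (A' ⊗_A M) ≅ B ⊗_A M`. -/
def resEquiv (M : ModuleCat.{u + 1} A) (B : Alg A') :
    ((B : Type u) ⊗[A'] (A' ⊗[A] M)) ≃ₗ[(B : Type u)] (resAlg (A := A) A' B : Type u) ⊗[A] M :=
  letI : Algebra A B := ((algebraMap A' B).comp (algebraMap A A')).toAlgebra
  haveI : IsScalarTower A A' B := IsScalarTower.of_algebraMap_eq fun _ => rfl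
  AlgebraTensorModule.cancelBaseChange A A' (B : Type u) (B : Type u) M

lemma resEquiv_tmul (M : ModuleCat.{u + 1} A) (B : Alg A') (b : B) (a : A') (m : M) :
    resEquiv A' M B (b ⊗ₜ (a ⊗ₜ m)) = (show (resAlg (A := A) A' B : Type u) from (a • b : B)) ⊗ₜ[A] m := rfl

/-- Restriction preserves adequacy. -/
theorem adequate_restr {F : MVF A} (hF : adequate A F) :
    adequate A' ((Adeq.restr A A').obj F) := by
  obtain ⟨M, N, n, ι, hinj, hran⟩ := exists_emb hF
  let M' : ModuleCat.{u + 1} A' := ModuleCat.of A' (A' ⊗[A] M)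
  let N' : ModuleCat.{u + 1} A' := ModuleCat.of A' (A' ⊗[A] N)
  have hnat : ∀ {B B' : Alg A'} (f : B ⟶ B') (v : (B : Type u) ⊗[A'] (A' ⊗[A] M)),
      resEquiv A' M B' (f.hom.toLinearMap.rTensor _ v) =
        ((Adeq.Alg.restr A A').map f).hom.toLinearMap.rTensor M (resEquiv A' M B v) := by
    intro B B' f v
    induction v using TensorProduct.induction_on with
    | zero => simp
    | add v w hv hw => simp only [map_add, hv, hw]
    | tmul b w =>
      induction w using TensorProduct.induction_on with
      | zero => simp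
      | add w w' hw hw' => simp only [TensorProduct.tmul_add, map_add, hw, hw']
      | tmul a m =>
        rw [LinearMap.rTensor_tmul, resEquiv_tmul, resEquiv_tmul]
        exact congrArg (fun q : B' => (show (resAlg (A := A) A' B' : Type u) from q) ⊗ₜ[A] m)
          (map_smul f.hom a b).symm
  let app : ∀ B : Alg A', ((Adeq.restr A A').obj F).obj (pt B) →ₗ[(B : Type u)]
      ((underline A').obj M').obj (pt B) := fun B =>
    { toFun := fun x => (resEquiv A' M B).symm (toU ι (resAlg A' B) x)
      map_add' := fun x y => by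
        rw [show toU ι (resAlg A' B) (x + y) = _ from map_add (toU ι (resAlg A' B)) x y, map_add]
        rfl
      map_smul' := fun r x => (congrArg (resEquiv A' M B).symm
        ((toU ι (resAlg A' B)).map_smul r x)).trans ((resEquiv A' M B).symm.map_smul r _) }
  let ι' : (Adeq.restr A A').obj F ⟶ (underline A').obj M' := mkHom app fun {B B'} f x => by
    apply (resEquiv A' M B').injective
    change resEquiv A' M B' ((resEquiv A' M B').symm
        (toU ι (resAlg A' B') (mp F ((Adeq.Alg.restr A A').map f) x))) =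
      resEquiv A' M B' (f.hom.toLinearMap.rTensor _ ((resEquiv A' M B).symm (toU ι (resAlg A' B) x)))
    rw [LinearEquiv.apply_symm_apply, hnat, LinearEquiv.apply_symm_apply, toU_mp]
  refine adequate_of_emb (M := M') (N := N') (ModuleCat.ofHom (n.hom.baseChange A')) ι'
    (fun B => (resEquiv A' M B).symm.injective.comp (hinj _)) fun B x => ?_
  have hn : resEquiv A' N B ((n.hom.baseChange A').baseChange B x) =
      n.hom.baseChange (resAlg A' B) (resEquiv A' M B x) := by
    induction x using TensorProduct.induction_on with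
    | zero => simp
    | add v w hv hw => simp only [map_add, hv, hw]
    | tmul b w =>
      induction w using TensorProduct.induction_on with
      | zero => simp
      | add w w' hw hw' => simp only [TensorProduct.tmul_add, map_add, hw, hw']
      | tmul a m => rfl
  rw [← (resEquiv A' N B).map_eq_zero_iff]
  change _ ↔ resEquiv A' N B ((n.hom.baseChange A').baseChange B x) = 0
  rw [hn, ← hran]
  constructor
  · rintro ⟨y, rfl⟩
    exact ⟨y, ((resEquiv A' M B).apply_symm_apply _).symm⟩
  · rintro ⟨y, hy⟩
    exact ⟨y, (congrArg (resEquiv A' M B).symm hy).trans ((resEquiv A' M B).symm_apply_apply x)⟩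

/-- An `A'`-module as an `A`-module. -/
abbrev resMod (M : ModuleCat.{u + 1} A') : ModuleCat.{u + 1} A :=
  (ModuleCat.restrictScalars (algebraMap A A')).obj M

section Push

variable (M : ModuleCat.{u + 1} A')

instance modA : Module A (resMod (A := A) A' M) := (resMod A' M).isModule

/-- `(A' ⊗_A B) ⊗_{A'} M ≅ B ⊗_A M`. -/
def pushEquiv (B : Alg A) :
    (bcAlg A' B : Type u) ⊗[A'] M ≃+ (B : Type u) ⊗[A] resMod (A := A) A' M :=
  letI : Module A M := Module.compHom M (algebraMap A A')
  haveI : IsScalarTower A A' M := ⟨fun a a' m => by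
    change (a • a') • m = algebraMap A A' a • a' • m
    rw [Algebra.smul_def, mul_smul]⟩
  (TensorProduct.comm A' (A' ⊗[A] (B : Type u)) M).toAddEquiv.trans
    ((AlgebraTensorModule.cancelBaseChange A A' A' M (B : Type u)).toAddEquiv.trans
      (TensorProduct.comm A M (B : Type u)).toAddEquiv)

lemma pushEquiv_tmul (B : Alg A) (a : A') (b : B) (m : M) :
    pushEquiv A' M B ((a ⊗ₜ b : A' ⊗[A] (B : Type u)) ⊗ₜ m) = b ⊗ₜ[A] (show resMod (A := A) A' M from (a • m : M)) := rfl

@[elab_as_elim]
lemma push_induction {B : Alg A} {P : (bcAlg A' B : Type u) ⊗[A'] M → Prop}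
    (h0 : P 0) (ha : ∀ z w, P z → P w → P (z + w))
    (ht : ∀ (a : A') (b : B) (m : M), P ((a ⊗ₜ b : A' ⊗[A] (B : Type u)) ⊗ₜ m)) (z) : P z := by
  induction z using TensorProduct.induction_on with
  | zero => exact h0
  | add z w hz hw => exact ha z w hz hw
  | tmul q m =>
    change A' ⊗[A] (B : Type u) at q
    induction q using TensorProduct.induction_on with
    | zero =>
      have : ((0 : A' ⊗[A] (B : Type u)) ⊗ₜ[A'] m : (bcAlg A' B : Type u) ⊗[A'] M) = 0 := TensorProduct.zero_tmul _ _
      rw [this]; exact h0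
    | tmul a b => exact ht a b m
    | add q q' hq hq' =>
      have : (((q + q' : A' ⊗[A] (B : Type u)) ⊗ₜ[A'] m) : (bcAlg A' B : Type u) ⊗[A'] M) =
          (q ⊗ₜ[A'] m) + (q' ⊗ₜ[A'] m) := TensorProduct.add_tmul _ _ _
      rw [this]; exact ha _ _ hq hq'

lemma pushEquiv_smul (B : Alg A) (r : B) (z : (bcAlg A' B : Type u) ⊗[A'] M) :
    pushEquiv A' M B (((1 : A') ⊗ₜ[A] r : A' ⊗[A] (B : Type u)) • z) = r • pushEquiv A' M B z := by
  induction z using push_induction with
  | h0 => simp
  | ha z w hz hw => rw [smul_add, map_add, hz, hw, map_add, smul_add]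
  | ht a b m =>
    rw [TensorProduct.smul_tmul', pushEquiv_tmul]
    have : ((1 : A') ⊗ₜ[A] r) • (a ⊗ₜ[A] b) = a ⊗ₜ[A] (r * b) := by
      rw [smul_eq_mul, Algebra.TensorProduct.tmul_mul_tmul, one_mul]
    refine Eq.trans (congrArg (fun q => pushEquiv A' M B (q ⊗ₜ m)) this) ?_
    rw [pushEquiv_tmul, TensorProduct.smul_tmul', smul_eq_mul]

lemma pushEquiv_map {B B' : Alg A} (f : B ⟶ B') (z : (bcAlg A' B : Type u) ⊗[A'] M) :
    pushEquiv A' M B' (((Adeq.Alg.baseChange A A').map f).hom.toLinearMap.rTensor M z) =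
      f.hom.toLinearMap.rTensor _ (pushEquiv A' M B z) := by
  induction z using push_induction with
  | h0 => simp
  | ha z w hz hw => simp only [map_add, hz, hw]
  | ht a b m => rfl

end Push

/-- Push forward preserves adequacy. -/
theorem adequate_push {F : MVF A'} (hF : adequate A' F) :
    adequate A ((Adeq.push A A').obj F) := by
  obtain ⟨M, N, n, ι, hinj, hran⟩ := exists_emb hF
  let app : ∀ B : Alg A, ((Adeq.push A A').obj F).obj (pt B) →ₗ[(B : Type u)]
      ((underline A).obj (resMod A' M)).obj (pt B) := fun B =>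
    { toFun := fun x => pushEquiv A' M B (toU ι (bcAlg A' B) x)
      map_add' := fun x y => (congrArg (pushEquiv A' M B) (map_add (toU ι (bcAlg A' B)) x y)).trans
        (map_add (pushEquiv A' M B) _ _)
      map_smul' := fun r x => (congrArg (pushEquiv A' M B)
        ((toU ι (bcAlg A' B)).map_smul ((1 : A') ⊗ₜ[A] r) x)).trans (pushEquiv_smul A' M B r _) }
  let ι' : (Adeq.push A A').obj F ⟶ (underline A).obj (resMod A' M) := mkHom app fun {B B'} f x =>
    (congrArg (pushEquiv A' M B') (toU_mp ι ((Adeq.Alg.baseChange A A').map f) x)).trans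
      (pushEquiv_map A' M f _)
  let n' : resMod (A := A) A' M ⟶ resMod A' N := (ModuleCat.restrictScalars (algebraMap A A')).map n
  refine adequate_of_emb n' ι' (fun B => (pushEquiv A' M B).injective.comp (hinj _)) fun B x => ?_
  have hn : ∀ z, pushEquiv A' N B (n.hom.baseChange (bcAlg A' B) z) =
      n'.hom.baseChange B (pushEquiv A' M B z) := by
    intro z
    induction z using push_induction with
    | h0 => simp
    | ha z w hz hw => simp only [map_add, hz, hw]
    | ht a b m =>
      rw [LinearMap.baseChange_tmul, pushEquiv_tmul, pushEquiv_tmul, LinearMap.baseChange_tmul]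
      exact congrArg (fun q : N => b ⊗ₜ[A] (show resMod (A := A) A' N from q)) (map_smul n.hom a m).symm
  obtain ⟨z, rfl⟩ := (pushEquiv A' M B).surjective x
  rw [← hn, (pushEquiv A' N B).map_eq_zero_iff, ← hran]
  exact ⟨fun ⟨y, hy⟩ => ⟨y, (pushEquiv A' M B).injective hy⟩, fun ⟨y, hy⟩ => ⟨y, congrArg (pushEquiv A' M B) hy⟩⟩

/-- The unit `F ⟶ push (restr F)`. -/
def unitHom (F : MVF A) : F ⟶ (Adeq.push A A').obj ((Adeq.restr A A').obj F) :=
  mkHom
    (fun B =>
      { toFun := fun x => mp F (Adeq.Alg.unit A A' B) x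
        map_add' := fun x y => map_add (mp F (Adeq.Alg.unit A A' B)) x y
        map_smul' := fun r x => mp_smul F (Adeq.Alg.unit A A' B) r x })
    (fun {B B'} f x => by
      change mp F (Adeq.Alg.unit A A' B') (mp F f x) =
        mp F ((Adeq.Alg.restr A A').map ((Adeq.Alg.baseChange A A').map f)) (mp F (Adeq.Alg.unit A A' B) x)
      rw [← mp_comp, ← mp_comp]
      congr 2)

/-- Descent of adequacy. -/
theorem adequate_of_restr (F : MVF A) (h₁ : adequate A' ((Adeq.restr A A').obj F))
    (h₂ : ∀ B : Alg A, Function.Injective (F.map (ptHom (Adeq.Alg.unit A A' B))) ∧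
      ∀ y : F.obj (pt (resAlg A' (bcAlg A' B))),
        F.map (ptHom (Adeq.Alg.unit A A' (resAlg A' (bcAlg A' B)))) y =
          F.map (ptHom ((Adeq.Alg.restr A A').map ((Adeq.Alg.baseChange A A').map (Adeq.Alg.unit A A' B)))) y →
        y ∈ Set.range (F.map (ptHom (Adeq.Alg.unit A A' B)))) : adequate A F := by
  let η := unitHom A' F
  let P₁ := (Adeq.push A A').obj ((Adeq.restr A A').obj F)
  have hP₁ : adequate A P₁ := adequate_push A' h₁
  let d : P₁ ⟶ (Adeq.push A A').obj ((Adeq.restr A A').obj P₁) :=
    (Adeq.push A A').map ((Adeq.restr A A').map η) - unitHom A' P₁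
  have h0 : η ≫ d = 0 := hom_ext fun B x => by
    simp only [d, appL_comp, appL_sub, appL_zero, sub_eq_zero]
    exact (appL_mp η (Adeq.Alg.unit A A' B) x)
  haveI : IsIso (kernel.lift d η h0) := isIso_of_bijective _ fun B => by
    constructor
    · intro x y h
      have e := congrArg (appL (kernel.ι d) B) h
      rw [← appL_comp, ← appL_comp, kernel.lift_ι] at e
      exact (h₂ B).1 e
    · intro z
      have hz := appL_kernel d B z
      simp only [d, appL_sub, sub_eq_zero] at hz
      obtain ⟨x, hx⟩ := (h₂ B).2 _ hz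
      refine ⟨x, injective_of_mono (kernel.ι d) B ?_⟩
      rw [← appL_comp, kernel.lift_ι]
      exact hx
  exact adequate_of_iso (asIso (kernel.lift d η h0)).symm
    (adequate_kernel d hP₁ (adequate_push A' (adequate_restr A' hP₁)))

end Change

end Groth.Agent.AdeqLib
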