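import Groth.Agent.AdeqLib.Qcqs

/-!
Adequacy of higher direct images along quasi-compact quasi-separated morphisms.
-/

set_option autoImplicit false
set_option linter.style.haveILetI false
set_option backward.isDefEq.respectTransparency false
universe u

noncomputable section

namespace Groth.Agent.AdeqLib

open CategoryTheory Limits Opposite AlgebraicGeometry TensorProduct
open Adeq (MVF Alg pt ptHom algOf specOver toMVF toMVFPre adequate adequateMod)

local notation "Kf" => Scheme.fppfPrecoverage

variable {S T : Scheme.{u}} {R : CommRingCat.{u}} (a : Spec R ⟶ S) (f : T ⟶ S)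

/-- The whole fibre product against the base change family. -/
def topMor : FamMor (famPush a f) (famU (pullback.fst a f) (pullback.snd a f) ⊤) where
  ρ :=
    { app := fun B => Over.homMk
        (pullback.lift (pullback.fst _ _)
          (pullback.snd ((specOver (𝟙 (Spec R))).obj B).hom _ ≫ (⊤ : (pullback a f).Opens).ι ≫ pullback.snd a f)
          (by
            change pullback.fst _ _ ≫ Spec.map _ ≫ a = _
            rw [Category.assoc, Category.assoc, ← pullback.condition (f := a) (g := f)]
            have e := pullback.condition (f := ((specOver (𝟙 (Spec R))).obj B).hom)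
              (g := (⊤ : (pullback a f).Opens).ι ≫ pullback.fst a f)
            have e' : ((specOver (𝟙 (Spec R))).obj B).hom =
                Spec.map (CommRingCat.ofHom (algebraMap R (B.unop : Type u))) := Category.comp_id _
            exact ((congrArg (fun q => pullback.fst _ _ ≫ q ≫ a) e').symm).trans ((Category.assoc _ _ _).symm.trans
              ((congrArg (· ≫ a) e).trans (by simp only [Category.assoc])))))
        (pullback.lift_snd _ _ _)
      naturality := fun B B' φ => by
        ext : 1
        apply pullback.hom_ext
        · simp [famBC, famPush]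
          exact (famU (pullback.fst a f) (pullback.snd a f) ⊤).q.naturality φ
        · simp [famBC, famPush]
          exact pullback.lift_snd_assoc _ _ _ _ }
  compat B := pullback.lift_fst _ _ _

lemma isIso_topMor : IsIso (topMor a f).transMod := by
  refine isIso_transMod _ fun B => ?_
  haveI : IsIso (⊤ : (pullback a f).Opens).ι := inferInstanceAs (IsIso (Scheme.topIso (pullback a f)).hom)
  have e' : ((specOver (𝟙 (Spec R))).obj B).hom = Spec.map (CommRingCat.ofHom (algebraMap R (B.unop : Type u))) :=
    Category.comp_id _
  have key : ∀ (Z : Scheme.{u}) (p : Z ⟶ ((specOver (𝟙 (Spec R))).obj B).left) (q : Z ⟶ T),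
      p ≫ ((specOver a).obj B).hom = q ≫ f →
      (p ≫ ((specOver (𝟙 (Spec R))).obj B).hom) ≫ a = q ≫ f := fun Z p q e => by
    rw [← e, e', Category.assoc]
    rfl
  let back : pullback ((specOver a).obj B).hom f ⟶
      pullback ((specOver (𝟙 (Spec R))).obj B).hom ((⊤ : (pullback a f).Opens).ι ≫ pullback.fst a f) :=
    pullback.lift (pullback.fst _ _)
      (pullback.lift (pullback.fst ((specOver a).obj B).hom f ≫ ((specOver (𝟙 (Spec R))).obj B).hom)
        (pullback.snd _ _) (key _ _ _ pullback.condition) ≫ inv (⊤ : (pullback a f).Opens).ι)
      (by simp)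
  refine ⟨back, ?_, ?_⟩
  · have c := pullback.condition (f := ((specOver (𝟙 (Spec R))).obj B).hom)
      (g := (⊤ : (pullback a f).Opens).ι ≫ pullback.fst a f)
    apply pullback.hom_ext
    · rw [Category.assoc, pullback.lift_fst, Category.id_comp]
      exact pullback.lift_fst _ _ _
    · rw [Category.assoc, pullback.lift_snd, Category.id_comp, ← Category.assoc, IsIso.comp_inv_eq]
      apply pullback.hom_ext
      · rw [Category.assoc, pullback.lift_fst, Category.assoc, ← c, ← Category.assoc]
        exact congrArg (· ≫ _) (pullback.lift_fst _ _ _)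
      · rw [Category.assoc, pullback.lift_snd, Category.assoc]
        exact pullback.lift_snd _ _ _
  · apply pullback.hom_ext
    · rw [Category.assoc, Category.id_comp]
      exact (congrArg (back ≫ ·) (pullback.lift_fst _ _ _)).trans (pullback.lift_fst _ _ _)
    · rw [Category.assoc, Category.id_comp]
      refine (congrArg (back ≫ ·) (pullback.lift_snd _ _ _)).trans ?_
      simp [back]

/-- Sections of the pushforward are sections along the fibre product. -/
def pushTopIso : BigSite.pushMod Kf f ⋙ toMVF Kf a ≅ secMod (famU (pullback.fst a f) (pullback.snd a f) ⊤) :=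
  haveI := isIso_topMor a f
  pushToFam a f ≪≫ asIso (topMor a f).transMod

variable [QuasiCompact f] [QuasiSeparated f] {M : BigSite.Mod Kf T}

omit [QuasiSeparated f] in
lemma isCompact_top_pullback : IsCompact ((⊤ : (pullback a f).Opens) : Set ↥(pullback a f)) := by
  haveI : QuasiCompact (pullback.fst a f) := MorphismProperty.pullback_fst _ _ inferInstance
  haveI : CompactSpace ↥(pullback a f) := QuasiCompact.compactSpace_of_compactSpace (pullback.fst a f)
  exact isCompact_univ

omit [QuasiCompact f] in
lemma quasiSeparatedSpace_pullback : QuasiSeparatedSpace ↥(pullback a f) := by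
  haveI : QuasiSeparated (pullback.fst a f) := MorphismProperty.pullback_fst _ _ inferInstance
  exact quasiSeparatedSpace_of_quasiSeparated (pullback.fst a f)

/-- Direct images of adequate modules are adequate. -/
theorem adequateMod_push (hM : adequateMod Kf T M) : adequateMod Kf S ((BigSite.pushMod Kf f).obj M) :=
  adequateMod_of_affines _ fun R a =>
    haveI := quasiSeparatedSpace_pullback a f
    adequate_of_iso ((pushTopIso a f).app M).symm
      (adequate_secMod_qc hM ⊤ (isCompact_top_pullback a f))

instance toMVFPre_preservesFiniteLimits : PreservesFiniteLimits (toMVFPre Kf a) := by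
  refine ⟨fun J _ _ => ?_⟩
  haveI : PreservesLimitsOfShape (AsSmall.{u + 1} J) (toMVFPre Kf a) := by
    haveI : PreservesLimitsOfShape (AsSmall.{u + 1} J)
        (toMVFPre Kf a ⋙ PresheafOfModules.toPresheaf (Adeq.ringOf R)) :=
      preservesLimitsOfShape_of_natIso (toMVFPreCompToPresheaf a).symm
    haveI : ReflectsLimitsOfShape (AsSmall.{u + 1} J)
        (PresheafOfModules.toPresheaf.{u + 1} (Adeq.ringOf (R : Type u))) :=
      reflectsLimitsOfShape_of_reflectsIsomorphisms
    exact preservesLimitsOfShape_of_reflects_of_preserves _ (PresheafOfModules.toPresheaf (Adeq.ringOf R))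
  exact preservesLimitsOfShape_of_equiv AsSmall.equiv.symm _

instance toMVFPre_preservesFiniteColimits : PreservesFiniteColimits (toMVFPre Kf a) :=
  ⟨fun J _ _ => preservesColimitsOfShape_of_equiv (AsSmall.equiv.{_, _, u + 1} (C := J)).symm _⟩

/-- Higher direct images of adequate modules are adequate. -/
theorem adequateMod_Rpush [HasInjectiveResolutions (BigSite.Mod Kf T)] (hM : adequateMod Kf T M) (i : ℕ) :
    adequateMod Kf S ((BigSite.RpushMod Kf f i).obj M) := by
  haveI := enoughInjectives_mod (T := T)
  obtain ⟨I⟩ : Nonempty (InjectiveResolution M) := HasInjectiveResolution.out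
  let C := ((BigSite.pushMod Kf f).mapHomologicalComplex (ComplexShape.up ℕ)).obj I.cocomplex
  let P := ((SheafOfModules.forget (BigSite.ORing Kf S)).mapHomologicalComplex (ComplexShape.up ℕ)).obj C
  haveI : (shf S).Additive := (PresheafOfModules.sheafificationAdjunction (𝟙 (BigSite.ORing Kf S).obj)).left_adjoint_additive
  haveI : PreservesFiniteColimits (shf S) :=
    haveI := (PresheafOfModules.sheafificationAdjunction (𝟙 (BigSite.ORing Kf S).obj)).leftAdjoint_preservesColimits
    PreservesColimitsOfSize.preservesFiniteColimits.{0, 0} _
  have h : adequateMod Kf S ((shf S).obj (P.homology i)) := adequateMod_shf _ fun R a => by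
    haveI := quasiSeparatedSpace_pullback a f
    refine adequate_of_iso ?_ (adequate_homology_qc (g := pullback.fst a f) (h := pullback.snd a f) hM I ⊤ (isCompact_top_pullback a f) i)
    exact (HomologicalComplex.homologyFunctor (MVF R) (ComplexShape.up ℕ) i).mapIso
      ((NatIso.mapHomologicalComplex (pushTopIso a f) _).app I.cocomplex).symm ≪≫
      (P.sc i).mapHomologyIso (toMVFPre Kf a)
  refine (adequateMod Kf S).prop_of_iso ?_ h
  exact ((P.sc i).mapHomologyIso (shf S)).symm ≪≫
    (HomologicalComplex.homologyFunctor (BigSite.Mod Kf S) (ComplexShape.up ℕ) i).mapIso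
      ((NatIso.mapHomologicalComplex (shfIso S) _).app C ≪≫
        (Functor.mapHomologicalComplexIdIso (BigSite.Mod Kf S) (ComplexShape.up ℕ)).app C) ≪≫
    (I.isoRightDerivedObj _ i).symm

end Groth.Agent.AdeqLib
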