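import Groth.Agent.AdeqLib.MV

/-!
Adequacy of derived sections along the base change family of a quasi-compact quasi-separated scheme.
-/

set_option autoImplicit false
set_option linter.style.haveILetI false
set_option backward.isDefEq.respectTransparency false
universe u

noncomputable section

namespace Groth.Agent.AdeqLib

open CategoryTheory Limits Opposite AlgebraicGeometry TensorProduct
open Adeq (MVF Alg pt ptHom algOf specOver toMVF adequate adequateMod)

local notation "Kf" => Scheme.fppfPrecoverage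

variable {R : CommRingCat.{u}} {T X : Scheme.{u}} (g : X ⟶ Spec R) (h : X ⟶ T)

section Affine

variable {V : X.Opens}

lemma exists_famSpec (hV : IsAffineOpen V) :
    ∃ (A : CommRingCat.{u}) (_ : Algebra R A) (h' : Spec A ⟶ T),
      Nonempty (secMod (famU g h V) ≅ secMod (famSpec (R := R) A h')) := by
  letI : Algebra R Γ(X, V) := (Spec.preimage (hV.fromSpec ≫ g)).hom.toAlgebra
  have hg' : Spec.map (CommRingCat.ofHom (algebraMap R Γ(X, V))) = hV.fromSpec ≫ g := Spec.map_preimage _
  refine ⟨Γ(X, V), inferInstance, hV.fromSpec ≫ h, ?_⟩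
  let m := bcMor (V.ι ≫ g) (V.ι ≫ h) (hV.fromSpec ≫ g) (hV.fromSpec ≫ h) hV.isoSpec.inv
    (hV.isoSpec_inv_ι_assoc g) (hV.isoSpec_inv_ι_assoc h)
  haveI : IsIso m.transMod := isIso_bcMor _ _ _ _ _ _ _
  haveI := isIso_specMor (R := R) Γ(X, V) (hV.fromSpec ≫ h) (hV.fromSpec ≫ g) hg'
  exact ⟨asIso m.transMod ≪≫ asIso (specMor (R := R) Γ(X, V) (hV.fromSpec ≫ h) (hV.fromSpec ≫ g) hg').transMod⟩

end Affine

variable (M : BigSite.Mod Kf T) (hM : adequateMod Kf T M)

section Zero

variable (V W : X.Opens)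

/-- The comparison with the two opens. -/
abbrev mvι : (secMod (famU g h (V ⊔ W))).obj M ⟶ (secMod (famU g h V)).obj M ⊞ (secMod (famU g h W)).obj M :=
  biprod.lift (rl g h V W M) (rr g h V W M)

/-- The difference on the intersection. -/
abbrev mvπ : (secMod (famU g h V)).obj M ⊞ (secMod (famU g h W)).obj M ⟶ (secMod (famU g h (V ⊓ W))).obj M :=
  biprod.desc (dl g h V W M) (-dr g h V W M)

lemma mvι_mvπ : mvι g h M V W ≫ mvπ g h M V W = 0 := by
  rw [biprod.lift_desc, Preadditive.comp_neg, rl_dl, add_neg_cancel]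

lemma mv_exact : (ShortComplex.mk _ _ (mvι_mvπ g h M V W)).Exact :=
  exact_of_glue _ _ _ biprod.fst biprod.snd biprod.inl biprod.inr biprod.total biprod.inl_fst biprod.inl_snd
    biprod.inr_fst biprod.inr_snd _ _ _ _ (biprod.lift_fst _ _) (biprod.lift_snd _ _) (biprod.inl_desc _ _)
    (biprod.inr_desc _ _) (fun B x => rl_rr_inj g h V W M B x) (fun B y z => two_glue g h V W M B y z)

lemma mv_mono : Mono (mvι g h M V W) :=
  mono_of_glue _ biprod.fst biprod.snd _ _ (biprod.lift_fst _ _) (biprod.lift_snd _ _)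
    (fun B x => rl_rr_inj g h V W M B x)

variable {g h M V W}

include hM in
lemma adequate_secMod_affine (hV : IsAffineOpen V) : adequate R ((secMod (famU g h V)).obj M) := by
  obtain ⟨A, _, h', ⟨e⟩⟩ := exists_famSpec g h hV
  exact adequate_of_iso (e.app M).symm (adequate_famSpec A h' M hM)

include hM in
/-- Degree zero. -/
theorem adequate_secMod_qc [QuasiSeparatedSpace X] (U : X.Opens) (hU : IsCompact (U : Set X)) :
    adequate R ((secMod (famU g h U)).obj M) := by
  refine qcqs_induction (fun U => adequate R ((secMod (famU g h U)).obj M))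
    (fun U hU => adequate_secMod_affine hM hU) (fun V W hV hW hI => ?_) U hU
  haveI := mv_mono g h M V W
  have hex : (ShortComplex.mk _ _ (mvι_mvπ g h M V W)).Exact := mv_exact g h M V W
  refine adequate_of_iso ?_ (adequate_kernel (mvπ g h M V W) (adequate_biprod hV hW) hI)
  exact (hex.fIsKernel.conePointUniqueUpToIso (kernelIsKernel (mvπ g h M V W))).symm

end Zero

section Higher

variable {g h M} (I : InjectiveResolution M)

/-- Sections of the resolution. -/
abbrev cxU (g : X ⟶ Spec R) (h : X ⟶ T) (U : X.Opens) : CochainComplex (MVF R) ℕ :=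
  ((secMod (famU g h U)).mapHomologicalComplex (ComplexShape.up ℕ)).obj I.cocomplex

/-- Restriction of the sections of the resolution. -/
abbrev cxRes {V W : X.Opens} (e : V ≤ W) : cxU I g h W ⟶ cxU I g h V :=
  (NatTrans.mapHomologicalComplex (res g h e).transMod (ComplexShape.up ℕ)).app I.cocomplex

variable (V W : X.Opens)

/-- The Mayer-Vietoris sequence of complexes. -/
def mvSeq (g : X ⟶ Spec R) (h : X ⟶ T) : ShortComplex (CochainComplex (MVF R) ℕ) :=
  ShortComplex.mk (X₁ := cxU I g h (V ⊔ W)) (X₂ := cxU I g h V ⊞ cxU I g h W) (X₃ := cxU I g h (V ⊓ W))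
    (biprod.lift (cxRes I le_sup_left) (cxRes I le_sup_right))
    (biprod.desc (cxRes I inf_le_left) (-cxRes I inf_le_right))
    (by
      rw [biprod.lift_desc, Preadditive.comp_neg, add_neg_eq_zero]
      exact HomologicalComplex.hom_ext _ _ fun n => rl_dl g h V W (I.cocomplex.X n))

lemma mvSeq_shortExact : (mvSeq I V W g h).ShortExact := by
  refine HomologicalComplex.shortExact_of_degreewise_shortExact _ fun n => ?_
  haveI := I.injective n
  let CV := cxU I g h V
  let CW := cxU I g h W
  let p₁ := (biprod.fst : CV ⊞ CW ⟶ CV).f n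
  let p₂ := (biprod.snd : CV ⊞ CW ⟶ CW).f n
  let s₁ := (biprod.inl : CV ⟶ CV ⊞ CW).f n
  let s₂ := (biprod.inr : CW ⟶ CV ⊞ CW).f n
  let rV := rl g h V W (I.cocomplex.X n)
  let rW := rr g h V W (I.cocomplex.X n)
  let dV := dl g h V W (I.cocomplex.X n)
  let dW := dr g h V W (I.cocomplex.X n)
  have h₁ : (mvSeq I V W g h).f.f n ≫ p₁ = rV :=
    HomologicalComplex.congr_hom (biprod.lift_fst (cxRes I (le_sup_left (b := W))) (cxRes I le_sup_right)) n
  have h₂ : (mvSeq I V W g h).f.f n ≫ p₂ = rW :=
    HomologicalComplex.congr_hom (biprod.lift_snd (cxRes I (le_sup_left (b := W))) (cxRes I le_sup_right)) n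
  have h₃ : s₁ ≫ (mvSeq I V W g h).g.f n = dV :=
    HomologicalComplex.congr_hom (biprod.inl_desc (cxRes I inf_le_left) (-cxRes I (inf_le_right (a := V)))) n
  have h₄ : s₂ ≫ (mvSeq I V W g h).g.f n = -dW :=
    HomologicalComplex.congr_hom (biprod.inr_desc (cxRes I inf_le_left) (-cxRes I (inf_le_right (a := V)))) n
  have tot : p₁ ≫ s₁ + p₂ ≫ s₂ = 𝟙 _ := HomologicalComplex.congr_hom (biprod.total (X := CV) (Y := CW)) n
  have e11 : s₁ ≫ p₁ = 𝟙 _ := HomologicalComplex.congr_hom (biprod.inl_fst (X := CV) (Y := CW)) n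
  have e12 : s₁ ≫ p₂ = 0 := HomologicalComplex.congr_hom (biprod.inl_snd (X := CV) (Y := CW)) n
  have e21 : s₂ ≫ p₁ = 0 := HomologicalComplex.congr_hom (biprod.inr_fst (X := CV) (Y := CW)) n
  have e22 : s₂ ≫ p₂ = 𝟙 _ := HomologicalComplex.congr_hom (biprod.inr_snd (X := CV) (Y := CW)) n
  exact
    { exact := exact_of_glue _ _ _ p₁ p₂ s₁ s₂ tot e11 e12 e21 e22 rV rW dV dW h₁ h₂ h₃ h₄
        (fun B x => rl_rr_inj g h V W _ B x) (fun B y z => two_glue g h V W _ B y z)
      mono_f := mono_of_glue _ p₁ p₂ rV rW h₁ h₂ (fun B x => rl_rr_inj g h V W _ B x)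
      epi_g := epi_of_glue _ s₁ dV h₃ (fun B => dl_surjective g h V W (I.cocomplex.X n) B) }

variable {V W}

include hM in
lemma adequate_homology_succ_affine [EnoughInjectives (BigSite.Mod Kf T)] (hV : IsAffineOpen V) (p : ℕ) :
    adequate R ((cxU I g h V).homology (p + 1)) := by
  obtain ⟨A, _, h', ⟨e⟩⟩ := exists_famSpec g h hV
  refine adequate_zero (adequate_famSpec A h' M hM) ?_
  refine (isZero_derived_famSpec (R := R) A h' p M (texact_adequate M hM)).of_iso ?_
  exact (HomologicalComplex.homologyFunctor (MVF R) (ComplexShape.up ℕ) (p + 1)).mapIso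
    ((NatIso.mapHomologicalComplex e _).app I.cocomplex) ≪≫ (I.isoRightDerivedObj _ (p + 1)).symm

include hM in
/-- All degrees. -/
theorem adequate_homology_qc [EnoughInjectives (BigSite.Mod Kf T)] [QuasiSeparatedSpace X] (U : X.Opens)
    (hU : IsCompact (U : Set X)) (n : ℕ) : adequate R ((cxU I g h U).homology n) := by
  have h0 : ∀ U : X.Opens, IsCompact (U : Set X) → adequate R ((cxU I g h U).homology 0) := fun U hU =>
    adequate_of_iso
      ((((secMod (famU g h U)).rightDerivedZeroIsoSelf).app M).symm ≪≫ I.isoRightDerivedObj _ 0)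
      (adequate_secMod_qc hM U hU)
  suffices hs : ∀ U : X.Opens, IsCompact (U : Set X) →
      IsCompact (U : Set X) ∧ ∀ p, adequate R ((cxU I g h U).homology (p + 1)) by
    cases n with
    | zero => exact h0 U hU
    | succ p => exact (hs U hU).2 p
  intro U hU
  refine qcqs_induction (fun U => IsCompact (U : Set X) ∧ ∀ p, adequate R ((cxU I g h U).homology (p + 1)))
    (fun U hU => ⟨hU.isCompact, fun p => adequate_homology_succ_affine hM I hU p⟩)
    (fun V W hV hW hI => ⟨hV.1.union hW.1, fun p => ?_⟩) U hU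
  have all : ∀ U : X.Opens, (IsCompact (U : Set X) ∧ ∀ p, adequate R ((cxU I g h U).homology (p + 1))) →
      ∀ n, adequate R ((cxU I g h U).homology n) := fun U hU n => by
    cases n with
    | zero => exact h0 U hU.1
    | succ p => exact hU.2 p
  have hB : ∀ n, adequate R ((mvSeq I V W g h).X₂.homology n) := fun n =>
    haveI := preservesBinaryBiproducts_of_preservesBiproducts
      (HomologicalComplex.homologyFunctor (MVF R) (ComplexShape.up ℕ) n)
    adequate_of_iso ((HomologicalComplex.homologyFunctor (MVF R) (ComplexShape.up ℕ) n).mapBiprod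
      (cxU I g h V) (cxU I g h W)).symm (adequate_biprod (all V hV n) (all W hW n))
  have hS := mvSeq_shortExact I V W (g := g) (h := h)
  exact adequate_five (HomologicalComplex.homologyMap (mvSeq I V W g h).g p) (hS.δ p (p + 1) rfl)
    (HomologicalComplex.homologyMap (mvSeq I V W g h).f (p + 1))
    (HomologicalComplex.homologyMap (mvSeq I V W g h).g (p + 1))
    (hS.comp_δ p (p + 1) rfl) (hS.δ_comp p (p + 1) rfl)
    (by rw [← HomologicalComplex.homologyMap_comp, ShortComplex.zero, HomologicalComplex.homologyMap_zero])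
    (hS.homology_exact₃ p (p + 1) rfl) (hS.homology_exact₁ p (p + 1) rfl) (hS.homology_exact₂ (p + 1))
    (hB p) (all _ hI p) (hB (p + 1)) (all _ hI (p + 1))

end Higher

end Groth.Agent.AdeqLib
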