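import Groth.Agent.AdeqLib.Constr
import Groth.Agent.AdeqLib.Props
import Groth.Prelude.Def_Adeq2
import Mathlib.Algebra.Category.ModuleCat.Presheaf.Limits

/-!
Module-valued functors of sections along a natural family of schemes over `Spec B`: additive, exact on presheaves.
-/

set_option autoImplicit false
set_option linter.style.haveILetI false
set_option backward.isDefEq.respectTransparency false
universe u

noncomputable section

namespace Groth.Agent.AdeqLib

open CategoryTheory Limits Opposite AlgebraicGeometry TensorProduct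
open Adeq (MVF Alg pt ptHom algOf specOver toMVF)

local notation "Kf" => Scheme.fppfPrecoverage

/-- Spectra of algebras. -/
abbrev specF (R : CommRingCat.{u}) : (Alg R)ᵒᵖ ⥤ Scheme.{u} :=
  specOver (𝟙 (Spec R)) ⋙ Over.forget (Spec R)

/-- A natural family of objects of the big site over the spectra of algebras. -/
structure AffFam (R : CommRingCat.{u}) (T : Scheme.{u}) where
  /-- the objects -/
  ω : (Alg R)ᵒᵖ ⥤ Over T
  /-- the maps to the spectra -/
  q : ω ⋙ Over.forget T ⟶ specF R

variable {R : CommRingCat.{u}} {T : Scheme.{u}}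

/-- Elements of the algebra as functions. -/
def famSect (Fm : AffFam R T) (B : Alg R) : (B : Type u) →+* (BigSite.ORing Kf T).obj.obj (op (Fm.ω.obj (op B))) :=
  (ULift.ringEquiv.symm : Γ((Fm.ω.obj (op B)).left, ⊤) ≃+* ULift.{u + 1} Γ((Fm.ω.obj (op B)).left, ⊤)).toRingHom.comp
    ((Scheme.ΓSpecIso (CommRingCat.of (B : Type u))).inv ≫ (Fm.q.app (op B)).appTop).hom

lemma famSect_natural (Fm : AffFam R T) {B B' : Alg R} (f : B ⟶ B') (r : B) :
    (BigSite.ORing Kf T).obj.map (Fm.ω.map f.op).op (famSect Fm B r) = famSect Fm B' (f.hom r) := by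
  apply ULift.ext
  change (((Scheme.ΓSpecIso (CommRingCat.of (B : Type u))).inv ≫ (Fm.q.app (op B)).appTop) ≫
      (Fm.ω.map f.op).left.appTop) r =
    (CommRingCat.ofHom f.hom.toRingHom ≫ (Scheme.ΓSpecIso (CommRingCat.of (B' : Type u))).inv ≫
      (Fm.q.app (op B')).appTop) r
  refine ConcreteCategory.congr_hom (C := CommRingCat) (X := CommRingCat.of (B : Type u)) ?_ r
  rw [Category.assoc, ← Scheme.Hom.comp_appTop, ← Category.assoc (CommRingCat.ofHom _),
    Scheme.ΓSpecIso_inv_naturality, Category.assoc, ← Scheme.Hom.comp_appTop]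
  exact congrArg (fun q => (Scheme.ΓSpecIso (CommRingCat.of (B : Type u))).inv ≫ Scheme.Hom.appTop q)
    (Fm.q.naturality f.op)

section

variable (Fm : AffFam R T) (P : PresheafOfModules.{u + 1} (BigSite.ORing Kf T).obj)

/-- Sections along the family. -/
def famAb : (Alg R)ᵒᵖᵒᵖ ⥤ Ab.{u + 1} :=
  Fm.ω.op ⋙ (PresheafOfModules.toPresheaf (BigSite.ORing Kf T).obj).obj P

instance famModuleO (X : (Alg R)ᵒᵖᵒᵖ) :
    Module ((BigSite.ORing Kf T).obj.obj (op (Fm.ω.obj (op X.unop.unop)))) ((famAb Fm P).obj X) :=
  (P.obj (op (Fm.ω.obj (op X.unop.unop)))).isModule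

instance famModule (X : (Alg R)ᵒᵖᵒᵖ) : Module X.unop.unop ((famAb Fm P).obj X) :=
  Module.compHom ((famAb Fm P).obj X) (famSect Fm X.unop.unop)

/-- The module-valued functor of sections along the family. -/
def famObj : MVF R :=
  PresheafOfModules.ofPresheaf (famAb Fm P) (by
    intro X Y f r m
    refine (P.map_smul (Fm.ω.map f.unop).op (famSect Fm X.unop.unop r) m).trans ?_
    exact congrArg (· • _) (famSect_natural Fm f.unop.unop r))

variable {P} in
/-- Functoriality. -/
def famHom {Q : PresheafOfModules.{u + 1} (BigSite.ORing Kf T).obj} (ψ : P ⟶ Q) : famObj Fm P ⟶ famObj Fm Q :=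
  PresheafOfModules.homMk
    (Functor.whiskerLeft Fm.ω.op ((PresheafOfModules.toPresheaf (BigSite.ORing Kf T).obj).map ψ))
    (by
      intro X r m
      exact (ψ.app (op (Fm.ω.obj (op X.unop.unop)))).hom.map_smul (famSect Fm X.unop.unop r) m)

end

/-- Sections along a family, on presheaves of modules. -/
def secPre (Fm : AffFam R T) : PresheafOfModules.{u + 1} (BigSite.ORing Kf T).obj ⥤ MVF R where
  obj P := famObj Fm P
  map ψ := famHom Fm ψ
  map_id P := by ext X x; rfl
  map_comp ψ ψ' := by ext X x; rfl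

instance secPre_additive (Fm : AffFam R T) : (secPre Fm).Additive where
  map_add := by intros; ext X x; rfl

/-- Sections along a family, on modules. -/
def secMod (Fm : AffFam R T) : BigSite.Mod Kf T ⥤ MVF R := SheafOfModules.forget _ ⋙ secPre Fm

instance secMod_additive (Fm : AffFam R T) : (secMod Fm).Additive where
  map_add := by intros; ext X x; rfl

/-- A value. -/
abbrev secVal (M : BigSite.Mod Kf T) (U : Over T) := ((BigSite.toAbMod Kf T).obj M).obj.obj (op U)

/-- The identification of values. -/
def secEquiv' (Fm : AffFam R T) (M : BigSite.Mod Kf T) (B : Alg R) :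
    ((secMod Fm).obj M).obj (pt B) ≃+ secVal M (Fm.ω.obj (op B)) :=
  AddEquiv.refl _

lemma appL_secMod (Fm : AffFam R T) {M N : BigSite.Mod Kf T} (ψ : M ⟶ N) (B : Alg R)
    (x : ((secMod Fm).obj M).obj (pt B)) :
    secEquiv' Fm N B (appL ((secMod Fm).map ψ) B x) =
      ((BigSite.toAbMod Kf T).map ψ).hom.app (op (Fm.ω.obj (op B))) (secEquiv' Fm M B x) := rfl

section Exact

variable (Fm : AffFam R T)

/-- Underlying abelian presheaves. -/
def secPreCompToPresheaf : secPre Fm ⋙ PresheafOfModules.toPresheaf (Adeq.ringOf R) ≅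
    PresheafOfModules.toPresheaf (BigSite.ORing Kf T).obj ⋙ (Functor.whiskeringLeft _ _ _).obj Fm.ω.op :=
  Iso.refl _

instance secPre_preservesFiniteColimits : PreservesFiniteColimits (secPre Fm) := by
  refine ⟨fun J _ _ => ?_⟩
  haveI : PreservesColimitsOfShape (AsSmall.{u + 1} J) (secPre Fm) := by
    haveI : PreservesColimitsOfShape (AsSmall.{u + 1} J)
        (secPre Fm ⋙ PresheafOfModules.toPresheaf (Adeq.ringOf R)) :=
      preservesColimitsOfShape_of_natIso (secPreCompToPresheaf Fm).symm
    haveI : ReflectsColimitsOfShape (AsSmall.{u + 1} J)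
        (PresheafOfModules.toPresheaf.{u + 1} (Adeq.ringOf (R : Type u))) :=
      reflectsColimitsOfShape_of_reflectsIsomorphisms
    exact preservesColimitsOfShape_of_reflects_of_preserves _ (PresheafOfModules.toPresheaf (Adeq.ringOf R))
  exact preservesColimitsOfShape_of_equiv AsSmall.equiv.symm _

instance secPre_preservesFiniteLimits : PreservesFiniteLimits (secPre Fm) := by
  refine ⟨fun J _ _ => ?_⟩
  haveI : PreservesLimitsOfShape (AsSmall.{u + 1} J) (secPre Fm) := by
    haveI : PreservesLimitsOfShape (AsSmall.{u + 1} J)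
        (secPre Fm ⋙ PresheafOfModules.toPresheaf (Adeq.ringOf R)) :=
      preservesLimitsOfShape_of_natIso (secPreCompToPresheaf Fm).symm
    haveI : ReflectsLimitsOfShape (AsSmall.{u + 1} J)
        (PresheafOfModules.toPresheaf.{u + 1} (Adeq.ringOf (R : Type u))) :=
      reflectsLimitsOfShape_of_reflectsIsomorphisms
    exact preservesLimitsOfShape_of_reflects_of_preserves _ (PresheafOfModules.toPresheaf (Adeq.ringOf R))
  exact preservesLimitsOfShape_of_equiv AsSmall.equiv.symm _

instance secMod_preservesFiniteLimits : PreservesFiniteLimits (secMod Fm) :=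
  haveI : PreservesFiniteLimits (SheafOfModules.forget.{u + 1} (BigSite.ORing Kf T)) :=
    haveI := (PresheafOfModules.sheafificationAdjunction
      (𝟙 (BigSite.ORing Kf T).obj)).rightAdjoint_preservesLimits
    haveI : PreservesFiniteLimits (SheafOfModules.forget.{u + 1} (BigSite.ORing Kf T) ⋙
        PresheafOfModules.restrictScalars (𝟙 (BigSite.ORing Kf T).obj)) :=
      PreservesLimitsOfSize.preservesFiniteLimits.{0, 0} _
    preservesFiniteLimits_of_natIso (Iso.refl (SheafOfModules.forget.{u + 1} (BigSite.ORing Kf T) ⋙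
      PresheafOfModules.restrictScalars (𝟙 (BigSite.ORing Kf T).obj)) : _ ≅ SheafOfModules.forget.{u + 1} (BigSite.ORing Kf T))
  comp_preservesFiniteLimits _ _

end Exact

/-! ### Morphisms of families -/

/-- A morphism of families: a natural map compatible with the projections. -/
structure FamMor (Fm Gm : AffFam R T) where
  /-- the maps -/
  ρ : Gm.ω ⟶ Fm.ω
  compat : ∀ B : (Alg R)ᵒᵖ, (ρ.app B).left ≫ Fm.q.app B = Gm.q.app B

lemma famSect_compat {Fm Gm : AffFam R T} (m : FamMor Fm Gm) (B : Alg R) (r : B) :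
    (BigSite.ORing Kf T).obj.map (m.ρ.app (op B)).op (famSect Fm B r) = famSect Gm B r := by
  apply ULift.ext
  change (((Scheme.ΓSpecIso (CommRingCat.of (B : Type u))).inv ≫ (Fm.q.app (op B)).appTop) ≫
      (m.ρ.app (op B)).left.appTop) r = _
  rw [Category.assoc, ← Scheme.Hom.comp_appTop, m.compat]
  rfl

/-- The restriction map. -/
def FamMor.trans {Fm Gm : AffFam R T} (m : FamMor Fm Gm) : secPre Fm ⟶ secPre Gm where
  app P := mkHom
    (fun B =>
      { toFun := fun x => P.presheaf.map (m.ρ.app (op B)).op x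
        map_add' := map_add (P.presheaf.map (m.ρ.app (op B)).op).hom
        map_smul' := fun r x => (P.map_smul (m.ρ.app (op B)).op (famSect Fm B r) x).trans
          (congrArg (· • _) (famSect_compat m B r)) })
    (fun {B B'} f x => by
      change P.presheaf.map (m.ρ.app (op B')).op (P.presheaf.map (Fm.ω.map f.op).op x) =
        P.presheaf.map (Gm.ω.map f.op).op (P.presheaf.map (m.ρ.app (op B)).op x)
      rw [← ConcreteCategory.comp_apply, ← ConcreteCategory.comp_apply, ← Functor.map_comp, ← Functor.map_comp,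
        ← op_comp, ← op_comp, m.ρ.naturality])
  naturality P Q ψ := hom_ext fun B x =>
    (PresheafOfModules.naturality_apply ψ (m.ρ.app (op B)).op x).symm

/-- The restriction map on modules. -/
def FamMor.transMod {Fm Gm : AffFam R T} (m : FamMor Fm Gm) : secMod Fm ⟶ secMod Gm :=
  Functor.whiskerLeft _ m.trans

lemma transMod_app {Fm Gm : AffFam R T} (m : FamMor Fm Gm) (M : BigSite.Mod Kf T) (B : Alg R)
    (x : ((secMod Fm).obj M).obj (pt B)) :
    secEquiv' Gm M B (appL (m.transMod.app M) B x) =
      ((BigSite.toAbMod Kf T).obj M).obj.map (m.ρ.app (op B)).op (secEquiv' Fm M B x) := rfl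

/-- An isomorphism of families. -/
theorem isIso_transMod {Fm Gm : AffFam R T} (m : FamMor Fm Gm) (h : ∀ B, IsIso (m.ρ.app B).left) :
    IsIso m.transMod := by
  haveI : ∀ M, IsIso (m.transMod.app M) := fun M => isIso_of_bijective _ fun B => by
    haveI := h (op B)
    haveI : IsIso (m.ρ.app (op B)) :=
      haveI : IsIso ((Over.forget T).map (m.ρ.app (op B))) := h (op B)
      isIso_of_reflects_iso _ (Over.forget T)
    exact ConcreteCategory.bijective_of_isIso (((BigSite.toAbMod Kf T).obj M).obj.map (m.ρ.app (op B)).op)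
  exact NatIso.isIso_of_isIso_app _

end Groth.Agent.AdeqLib
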