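import Groth.Agent.AdeqLib.ProdAlg
import Groth.Agent.AdeqLib.Parasitic
import Mathlib.AlgebraicGeometry.Morphisms.Flat

/-!
A locally bijective map from a presheaf of modules with adequate functors of sections is bijective on
affine objects.
-/

set_option autoImplicit false
set_option linter.style.haveILetI false
set_option backward.isDefEq.respectTransparency false
universe u

noncomputable section

namespace Groth.Agent.AdeqLib

open CategoryTheory Limits Opposite AlgebraicGeometry TensorProduct
open Adeq (MVF Alg pt ptHom algOf adequate adequateMod toMVF toMVFPre specOver)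

variable {S : Scheme.{u}} {R : CommRingCat.{u}} (a : Spec R ⟶ S)

/-- The affine object of the base. -/
abbrev baseObj : Over S := (specOver a).obj (op (algOf R R))

/-- A covering sieve of an affine object contains a finite jointly surjective family of flat algebras. -/
lemma exists_alg_family {W : Sieve (baseObj a)} (hW : W ∈ QuotSh.J Scheme.fppfPrecoverage S (baseObj a)) :
    ∃ (n : ℕ) (A : Fin n → Type u) (_ : ∀ j, CommRing (A j)) (_ : ∀ j, Algebra R (A j)),
      (∀ j, Module.Flat R (A j)) ∧
      (∀ p : PrimeSpectrum R, ∃ j, p ∈ Set.range (PrimeSpectrum.comap (algebraMap R (A j)))) ∧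
      Presieve.ofArrows (fun j => ((specOver a).obj (op (algOf R (A j)))).left)
          (fun j => ((specOver a).map (strMap A j).op).left) ∈ Scheme.fppfPrecoverage (baseObj a).left ∧
      ∀ j, W ((specOver a).map (strMap A j).op) := by
  obtain ⟨ι, V, g, hcov, hg, -⟩ := exists_flat_family hW
  let ι' : Type u := ULift.{u} (Spec R)
  have hsurj : ∀ x : Spec R, ∃ i, x ∈ Set.range (g i).left := (fppf_ofArrows_iff.mp hcov).1
  choose i hi using hsurj
  have hcov' : Presieve.ofArrows (fun x : ι' => (V (i x.down)).left) (fun x => (g (i x.down)).left) ∈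
      Scheme.precoverage fppfP (Spec R) :=
    fppf_ofArrows_iff.mpr ⟨fun x => ⟨⟨x⟩, hi x⟩, fun x => (fppf_ofArrows_iff.mp hcov).2 _⟩
  obtain ⟨n, A, φ, hP, hs, hfac⟩ := exists_refine fppfP fppfP_open (fun f _ => fppfP_imm f)
    (fun x : ι' => (g (i x.down)).left) hcov' (𝟙 (Spec R))
  letI hA : ∀ j, Algebra R (A j) := fun j => (φ j).hom.toAlgebra
  have hmap : ∀ j, ((specOver a).map (strMap (R := (R : Type u)) (fun j => (A j : Type u)) j).op).left =
      Spec.map (φ j) := fun j => rfl
  refine ⟨n, fun j => A j, fun j => inferInstance, hA, fun j => ?_, fun p => ?_, ?_, fun j => ?_⟩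
  · exact (HasRingHomProperty.Spec_iff (P := @Flat)).mp (hP j).1
  · obtain ⟨j, q, hq⟩ := hs p
    exact ⟨j, q, hq⟩
  · exact fppf_ofArrows_iff.mpr ⟨fun x => hs x, fun j => hP j⟩
  · obtain ⟨x, h, hh⟩ := hfac j
    rw [Category.comp_id] at hh
    have hw : h ≫ (V (i x.down)).hom = Spec.map (φ j) ≫ a := by
      rw [← Over.w (g (i x.down)), ← Category.assoc, hh]
      exact congrArg (Spec.map (φ j) ≫ ·) ((congrArg (· ≫ a) (Spec.map_id R)).trans (Category.id_comp a))
    let l : (specOver a).obj (op (algOf R (A j))) ⟶ V (i x.down) := Over.homMk h hw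
    have e : (specOver a).map (strMap (R := (R : Type u)) (fun j => (A j : Type u)) j).op =
        l ≫ g (i x.down) := by
      ext : 1
      exact hh.symm
    rw [e]
    exact W.downward_closed (hg _) _

section Unit

variable (P : PresheafOfModules.{u + 1} (BigSite.ORing Scheme.fppfPrecoverage S).obj)
  (N : BigSite.Mod Scheme.fppfPrecoverage S) (η : P ⟶ N.val)
  (hP : ∀ (R : CommRingCat.{u}) (a : Spec R ⟶ S), adequate R ((toMVFPre Scheme.fppfPrecoverage a).obj P))

/-- The component of `η`. -/
abbrev etaApp (U : Over S) : P.presheaf.obj (op U) →+ N.val.presheaf.obj (op U) :=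
  (((PresheafOfModules.toPresheaf _).map η).app (op U)).hom

omit hP in
lemma etaApp_nat {U V : Over S} (g : V ⟶ U) (x : P.presheaf.obj (op U)) :
    etaApp P N η V (P.presheaf.map g.op x) = N.val.presheaf.map g.op (etaApp P N η U x) :=
  ConcreteCategory.congr_hom (((PresheafOfModules.toPresheaf _).map η).naturality g.op) x

omit hP in
lemma bijective_of_iso {U V : Over S} (e : U ≅ V) (h : Function.Bijective (etaApp P N η U)) :
    Function.Bijective (etaApp P N η V) := by
  have e' : ⇑(etaApp P N η V) =
      (N.val.presheaf.map e.inv.op) ∘ (etaApp P N η U) ∘ (P.presheaf.map e.hom.op) := by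
    funext x
    simp only [Function.comp_apply]
    rw [← etaApp_nat, ← ConcreteCategory.comp_apply, ← Functor.map_comp, ← op_comp, e.inv_hom_id, op_id,
      P.presheaf.map_id]
    rfl
  rw [e']
  exact (ConcreteCategory.bijective_of_isIso _).comp (h.comp (ConcreteCategory.bijective_of_isIso _))

omit hP in
lemma injective_of_iso {U V : Over S} (e : U ≅ V) (h : Function.Injective (etaApp P N η U)) :
    Function.Injective (etaApp P N η V) := fun x y hxy => by
  have := h (a₁ := P.presheaf.map e.hom.op x) (a₂ := P.presheaf.map e.hom.op y)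
    (by rw [etaApp_nat, etaApp_nat, hxy])
  exact (ConcreteCategory.bijective_of_isIso (P.presheaf.map e.hom.op)).1 this

variable [Presheaf.IsLocallyInjective (QuotSh.J Scheme.fppfPrecoverage S) ((PresheafOfModules.toPresheaf _).map η)]

include hP in
lemma etaApp_injective_base : Function.Injective (etaApp P N η (baseObj a)) := by
  intro x y h
  obtain ⟨n, A, _, _, hfl, hs, -, hmem⟩ := exists_alg_family a
    (Presheaf.equalizerSieve_mem (QuotSh.J Scheme.fppfPrecoverage S) ((PresheafOfModules.toPresheaf _).map η) x y h)
  haveI := hfl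
  refine sub_eq_zero.mp (family_injective A (hP R a) hs (x - y) fun j => ?_)
  rw [map_sub, sub_eq_zero]
  exact hmem j

omit hP in
lemma spec_id_comp (B : Type u) [CommRing B] (b : Spec (CommRingCat.of B) ⟶ S) :
    Spec.map (CommRingCat.ofHom (algebraMap B B)) ≫ b = b := by
  rw [show CommRingCat.ofHom (algebraMap B B) = 𝟙 (CommRingCat.of B) from rfl, Spec.map_id, Category.id_comp]

omit hP in
lemma baseObj_self_hom (B : Alg R) :
    (baseObj (R := CommRingCat.of (B : Type u)) (Spec.map (CommRingCat.ofHom (algebraMap R B)) ≫ a)).hom =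
      Spec.map (CommRingCat.ofHom (algebraMap (B : Type u) (B : Type u))) ≫
        (Spec.map (CommRingCat.ofHom (algebraMap R B)) ≫ a) := rfl

/-- An object over `S` with given underlying scheme and structure map. -/
def overMkIso {X : Over S} {Z : Scheme.{u}} (f : Z ⟶ S) (h : X.left = Z) (w : X.hom = eqToHom h ≫ f) :
    X ≅ Over.mk f :=
  Over.isoMk (eqToIso h) w.symm

/-- An affine object seen as the base object of its own ring. -/
def selfIso (B : Alg R) :
    baseObj (R := CommRingCat.of (B : Type u)) (Spec.map (CommRingCat.ofHom (algebraMap R B)) ≫ a) ≅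
      (specOver a).obj (op B) :=
  overMkIso (Spec.map (CommRingCat.ofHom (algebraMap R B)) ≫ a) rfl
    (((baseObj_self_hom a B).trans (spec_id_comp (B : Type u) _)).trans (Category.id_comp _).symm)

include hP in
lemma etaApp_injective (B : Alg R) : Function.Injective (etaApp P N η ((specOver a).obj (op B))) :=
  injective_of_iso P N η (selfIso a B)
    (etaApp_injective_base (R := CommRingCat.of (B : Type u)) (Spec.map (CommRingCat.ofHom (algebraMap R B)) ≫ a) P N η hP)

variable [Presheaf.IsLocallySurjective (QuotSh.J Scheme.fppfPrecoverage S) ((PresheafOfModules.toPresheaf _).map η)]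

include hP in
lemma etaApp_bijective_base : Function.Bijective (etaApp P N η (baseObj a)) := by
  refine ⟨etaApp_injective_base a P N η hP, fun s => ?_⟩
  obtain ⟨n, A, _, _, hfl, hs, hcov, hmem⟩ := exists_alg_family a
    (Presheaf.imageSieve_mem (QuotSh.J Scheme.fppfPrecoverage S) ((PresheafOfModules.toPresheaf _).map η) s)
  haveI := hfl
  choose y hy using hmem
  have hy' : ∀ j, etaApp P N η _ (y j) = N.val.presheaf.map ((specOver a).map (strMap A j).op).op s := hy
  obtain ⟨x, hx⟩ := family_glue A (hP R a) hs y fun i j => by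
    refine etaApp_injective a P N η hP _ ?_
    refine (etaApp_nat P N η ((specOver a).map (resR A i j).op) (y j)).trans
      (Eq.trans ?_ (etaApp_nat P N η ((specOver a).map (resL A i j).op) (y i)).symm)
    rw [hy' j, hy' i,
      ← ConcreteCategory.comp_apply, ← ConcreteCategory.comp_apply, ← Functor.map_comp, ← Functor.map_comp,
      ← op_comp, ← op_comp, ← Functor.map_comp, ← Functor.map_comp, ← op_comp, ← op_comp]
    exact congrArg (fun q : algOf R R ⟶ ov2 A i j => N.val.presheaf.map ((specOver a).map q.op).op s)
      (CommAlgCat.hom_ext (Subsingleton.elim _ _))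
  refine ⟨x, (sections_glue N (fun j => (specOver a).map (strMap A j).op) hcov).1 _ _ fun j => ?_⟩
  rw [← etaApp_nat]
  exact (congrArg (etaApp P N η _) (hx j)).trans (hy j)

include hP in
/-- A locally bijective map out of an adequate-valued presheaf is an isomorphism on affine objects. -/
theorem isIso_toMVFPre_map : IsIso ((toMVFPre Scheme.fppfPrecoverage a).map η) :=
  isIso_of_bijective _ fun B => bijective_of_iso P N η (selfIso a B)
    (etaApp_bijective_base (R := CommRingCat.of (B : Type u)) (Spec.map (CommRingCat.ofHom (algebraMap R B)) ≫ a) P N η hP)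

include η hP in
/-- The target of a locally bijective map out of an adequate-valued presheaf is adequate. -/
theorem adequateMod_of_locallyBijective : adequateMod Scheme.fppfPrecoverage S N :=
  adequateMod_of_affines _ fun R a =>
    haveI := isIso_toMVFPre_map a P N η hP
    adequate_of_iso (asIso ((toMVFPre Scheme.fppfPrecoverage a).map η)) (hP R a)

end Unit

end Groth.Agent.AdeqLib
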