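import Groth.Agent.AdeqLib.Descent
import Groth.Prelude.Def_Adeq2
import Mathlib.AlgebraicGeometry.Pullbacks
import Mathlib.AlgebraicGeometry.PullbackCarrier
import Mathlib.AlgebraicGeometry.Morphisms.UniversallyOpen
import Mathlib.AlgebraicGeometry.GammaSpecAdjunction

/-!
Adequate modules on big sites: sections on affine objects form adequate functors.
-/

set_option autoImplicit false
set_option linter.style.haveILetI false
set_option backward.isDefEq.respectTransparency false
universe u

noncomputable section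

namespace Groth.Agent.AdeqLib

open CategoryTheory Limits Opposite AlgebraicGeometry TensorProduct
open Adeq (MVF Alg pt ptHom adequate adequateMod toMVF specOver toSect)

lemma hom_eq_toSpecΓ {W : Scheme.{u}} {R : CommRingCat.{u}} (g : W ⟶ Spec R) :
    g = W.toSpecΓ ≫ Spec.map ((Scheme.ΓSpecIso R).inv ≫ g.appTop) := by
  rw [Spec.map_comp, ← Category.assoc, ← Scheme.toSpecΓ_naturality, Category.assoc,
    toSpecΓ_SpecMap_ΓSpecIso_inv, Category.comp_id]

section Gluing

variable {K : Precoverage Scheme.{u}} [BigSite.OSh K] {S : Scheme.{u}} (M : BigSite.Mod K S)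

lemma isSheafFor_over {U : Over S} {ι : Type*} {V : ι → Over S} (g : ∀ i, V i ⟶ U)
    (hcov : Presieve.ofArrows (fun i => (V i).left) (fun i => (g i).left) ∈ K.coverings U.left) :
    Presieve.IsSheafFor (M.val.presheaf ⋙ forget Ab.{u + 1}) (Presieve.ofArrows V g) := by
  have hsh : Presieve.IsSheaf (QuotSh.J K S) (M.val.presheaf ⋙ forget Ab.{u + 1}) :=
    (isSheaf_iff_isSheaf_of_type _ _).mp
      ((Presheaf.isSheaf_iff_isSheaf_forget _ _ (forget Ab.{u + 1})).mp M.isSheaf)
  rw [Presieve.isSheafFor_iff_generate]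
  refine hsh _ ?_
  change Sieve.generate (Presieve.ofArrows V g) ∈ (K.toGrothendieck.over S) U
  rw [GrothendieckTopology.mem_over_iff, Sieve.overEquiv_generate]
  refine GrothendieckTopology.superset_covering _ ?_ (Precoverage.generate_mem_toGrothendieck hcov)
  rw [Sieve.generate_le_iff]
  rintro Z f ⟨i⟩
  apply Sieve.le_generate
  exact ⟨V i, g i, 𝟙 _, ⟨i⟩, (Category.id_comp _).symm⟩

/-- Separatedness and gluing for a module along a covering family in the big site. -/
lemma sections_glue {U : Over S} {ι : Type*} {V : ι → Over S} (g : ∀ i, V i ⟶ U)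
    (hcov : Presieve.ofArrows (fun i => (V i).left) (fun i => (g i).left) ∈ K.coverings U.left) :
    (∀ x y : M.val.presheaf.obj (op U),
      (∀ i, M.val.presheaf.map (g i).op x = M.val.presheaf.map (g i).op y) → x = y) ∧
    ∀ y : ∀ i, M.val.presheaf.obj (op (V i)),
      (∀ i j (W : Over S) (gi : W ⟶ V i) (gj : W ⟶ V j), gi ≫ g i = gj ≫ g j →
        M.val.presheaf.map gi.op (y i) = M.val.presheaf.map gj.op (y j)) →
      ∃ x, ∀ i, M.val.presheaf.map (g i).op x = y i := by
  have h := (Presieve.isSheafFor_arrows_iff _ _).mp (isSheafFor_over M g hcov)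
  refine ⟨fun x y hxy => ?_, fun y hy => ?_⟩
  · refine (h (fun i => M.val.presheaf.map (g i).op y) fun i j W gi gj e => ?_).unique (fun i => hxy i)
      (fun i => rfl)
    change M.val.presheaf.map gi.op (M.val.presheaf.map (g i).op y) =
      M.val.presheaf.map gj.op (M.val.presheaf.map (g j).op y)
    rw [← ConcreteCategory.comp_apply, ← ConcreteCategory.comp_apply, ← Functor.map_comp, ← Functor.map_comp,
      ← op_comp, ← op_comp, e]
  · exact (h y fun i j W gi gj e => hy i j W gi gj e).exists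

end Gluing

section Compare

variable {K : Precoverage Scheme.{u}} [BigSite.OSh K] {S : Scheme.{u}} (M : BigSite.Mod K S)
  {R R' : CommRingCat.{u}} [Algebra R R'] (a : Spec R ⟶ S) (a' : Spec R' ⟶ S)
  (h : Spec.map (CommRingCat.ofHom (algebraMap R R')) ≫ a = a')

/-- An affine object of the big site seen over a smaller ring. -/
def objIso (B : Alg R') :
    (specOver a').obj (op B) ≅ (specOver a).obj (op (resAlg (A := (R : Type u)) (R' : Type u) B)) :=
  Over.isoMk (Iso.refl _) (by
    subst h
    refine (Category.id_comp _).trans ?_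
    change Spec.map (CommRingCat.ofHom ((algebraMap R' B).comp (algebraMap R R'))) ≫ a = _
    rw [CommRingCat.ofHom_comp, Spec.map_comp, Category.assoc]
    rfl)

/-- Transport along `objIso`. -/
def restrApp (B : Alg R') : ((Adeq.restr R R').obj ((toMVF K a).obj M)).obj (pt B) →ₗ[(B : Type u)]
    ((toMVF K a').obj M).obj (pt B) where
  toFun x := M.val.presheaf.map (objIso a a' h B).hom.op x
  map_add' := map_add (M.val.presheaf.map (objIso a a' h B).hom.op).hom
  map_smul' r x := by
    refine (M.val.map_smul (objIso a a' h B).hom.op (toSect K a (resAlg (A := (R : Type u)) (R' : Type u) B) r) x).trans ?_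
    refine congrArg (fun c => c • M.val.presheaf.map (objIso a a' h B).hom.op x) ?_
    rfl

/-- The comparison map. -/
def restrHom : (Adeq.restr R R').obj ((toMVF K a).obj M) ⟶ (toMVF K a').obj M :=
  mkHom (restrApp M a a' h) fun {B B'} f x => by
    change M.val.presheaf.map (objIso a a' h B').hom.op
        (M.val.presheaf.map ((specOver a).map ((Adeq.Alg.restr R R').map f).op).op x) =
      M.val.presheaf.map ((specOver a').map f.op).op (M.val.presheaf.map (objIso a a' h B).hom.op x)
    rw [← ConcreteCategory.comp_apply, ← ConcreteCategory.comp_apply, ← Functor.map_comp, ← Functor.map_comp,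
      ← op_comp, ← op_comp]
    congr 3

lemma isIso_restrHom : IsIso (restrHom M a a' h) :=
  isIso_of_bijective _ fun B =>
    ConcreteCategory.bijective_of_isIso (M.val.presheaf.map (objIso a a' h B).hom.op)

/-- Restriction of the functor of sections. -/
def restrIso : (Adeq.restr R R').obj ((toMVF K a).obj M) ≅ (toMVF K a').obj M :=
  haveI := isIso_restrHom M a a' h
  asIso (restrHom M a a' h)

include h in
lemma adequate_toMVF_of_map (hF : adequate R ((toMVF K a).obj M)) : adequate R' ((toMVF K a').obj M) :=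
  adequate_of_iso (restrIso M a a' h) (adequate_restr (R' : Type u) hF)

end Compare

section Refine

variable (P : MorphismProperty Scheme.{u}) [P.IsStableUnderBaseChange] [P.IsStableUnderComposition]

/-- Refining a covering of `S` pulled back to an affine scheme by finitely many affine schemes. -/
theorem exists_refine (hopen : ∀ {X Y : Scheme.{u}} (f : X ⟶ Y), P f → IsOpenMap f)
    (himm : ∀ {X Y : Scheme.{u}} (f : X ⟶ Y) [IsOpenImmersion f], P f)
    {S : Scheme.{u}} {ι : Type u} {X : ι → Scheme.{u}} (f : ∀ i, X i ⟶ S)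
    (hf : Presieve.ofArrows X f ∈ Scheme.precoverage P S) {R : CommRingCat.{u}} (a : Spec R ⟶ S) :
    ∃ (n : ℕ) (A : Fin n → CommRingCat.{u}) (φ : ∀ k, R ⟶ A k),
      (∀ k, P (Spec.map (φ k))) ∧ (∀ x, ∃ k, x ∈ Set.range (Spec.map (φ k))) ∧
        ∀ k, ∃ i, ∃ g : Spec (A k) ⟶ X i, g ≫ f i = Spec.map (φ k) ≫ a := by
  classical
  rw [Scheme.ofArrows_mem_precoverage_iff] at hf
  have hex : ∀ x : Spec R, ∃ i, ∃ V : (pullback a (f i)).Opens, IsAffineOpen V ∧
      ∃ z ∈ V, pullback.fst a (f i) z = x := fun x => by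
    obtain ⟨i, y, hy⟩ := hf.1 (a x)
    obtain ⟨z, hz, -⟩ := Scheme.Pullback.exists_preimage_pullback (f := a) (g := f i) x y hy.symm
    obtain ⟨V, hV, hzV, -⟩ := TopologicalSpace.Opens.isBasis_iff_nbhd.mp
      (pullback a (f i)).isBasis_affineOpens (U := ⊤) (x := z) trivial
    exact ⟨i, V, hV, z, hzV, hz⟩
  choose i V hV z hzV hz using hex
  let φ : ∀ x, R ⟶ Γ(pullback a (f (i x)), V x) := fun x =>
    Spec.preimage ((hV x).fromSpec ≫ pullback.fst a (f (i x)))
  have hφ : ∀ x, Spec.map (φ x) = (hV x).fromSpec ≫ pullback.fst a (f (i x)) := fun x => Spec.map_preimage _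
  have hP : ∀ x, P (Spec.map (φ x)) := fun x => by
    rw [hφ]
    exact P.comp_mem _ _ (himm _) (P.pullback_fst _ _ (hf.2 _))
  have hmem : ∀ x, x ∈ Set.range (Spec.map (φ x)) := fun x => by
    obtain ⟨w, hw⟩ : z x ∈ Set.range (hV x).fromSpec := by rw [(hV x).range_fromSpec]; exact hzV x
    exact ⟨w, by rw [hφ, Scheme.Hom.comp_apply, hw, hz]⟩
  obtain ⟨t, ht⟩ := CompactSpace.isCompact_univ.elim_finite_subcover
    (fun x => Set.range (Spec.map (φ x))) (fun x => (hopen _ (hP x)).isOpen_range)
    (fun x _ => Set.mem_iUnion.mpr ⟨x, hmem x⟩)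
  let e := t.equivFin
  refine ⟨t.card, fun k => Γ(pullback a (f (i (e.symm k).1)), V (e.symm k).1), fun k => φ (e.symm k).1,
    fun k => hP _, fun x => ?_, fun k => ⟨i (e.symm k).1, (hV _).fromSpec ≫ pullback.snd _ _, ?_⟩⟩
  · obtain ⟨y, hy, hxy⟩ := Set.mem_iUnion₂.mp (ht (Set.mem_univ x))
    exact ⟨e ⟨y, hy⟩, by
      rw [show y = (e.symm (e ⟨y, hy⟩)).1 from congrArg Subtype.val (e.symm_apply_apply ⟨y, hy⟩).symm] at hxy
      exact hxy⟩
  · rw [hφ, Category.assoc, Category.assoc, pullback.condition]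

/-- An algebra base changed and restricted back. -/
def covObj {R : Type u} [CommRing R] (A : Type u) [CommRing A] [Algebra R A] (B : Alg R) : Alg R :=
  resAlg (A := R) A (bcAlg A B)

/-- The map to it. -/
def covUnit {R : Type u} [CommRing R] (A : Type u) [CommRing A] [Algebra R A] (B : Alg R) : B ⟶ covObj A B :=
  Adeq.Alg.unit R A B

variable (hP : ∀ {X Y : Scheme.{u}} (f : X ⟶ Y), P f → IsOpenMap f)
    (himm : ∀ {X Y : Scheme.{u}} (f : X ⟶ Y) [IsOpenImmersion f], P f)
  {K : Precoverage Scheme.{u}} [BigSite.OSh K] (hK : K = Scheme.precoverage P)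

include hK in
/-- The sheaf condition along the base change of a finite covering family of an affine scheme. -/
lemma glue_unit {S : Scheme.{u}} (M : BigSite.Mod K S) {R : CommRingCat.{u}} (a : Spec R ⟶ S) {n : ℕ}
    (A : Fin n → Type u) [∀ k, CommRing (A k)] [∀ k, Algebra R (A k)]
    (hAP : ∀ k, P (Spec.map (CommRingCat.ofHom (algebraMap R (A k)))))
    (hAs : ∀ x, ∃ k, x ∈ Set.range (Spec.map (CommRingCat.ofHom (algebraMap R (A k))))) (B : Alg R) :
    let F := (toMVF K a).obj M
    (∀ x y, (∀ i, mp F (Adeq.Alg.unit R (A i) B) x = mp F (Adeq.Alg.unit R (A i) B) y) → x = y) ∧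
    ∀ y : ∀ i, F.obj (pt (resAlg (A := (R : Type u)) (A i) (bcAlg (A i) B))),
      (∀ i j, mp F (Adeq.Alg.unit R (A j) (resAlg (A i) (bcAlg (A i) B))) (y i) =
        mp F ((Adeq.Alg.restr R (A j)).map ((Adeq.Alg.baseChange R (A j)).map (Adeq.Alg.unit R (A i) B)))
          (y j)) → ∃ x, ∀ i, mp F (Adeq.Alg.unit R (A i) B) x = y i := by
  intro F
  let C : Fin n → Alg R := fun i => covObj (A i) B
  let g : ∀ i, (specOver a).obj (op (C i)) ⟶ (specOver a).obj (op B) :=
    fun i => (specOver a).map (Adeq.Alg.unit R (A i) B).op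
  have hg : ∀ i, (g i).left = (pullbackSpecIso R (A i) B).inv ≫ pullback.snd _ _ :=
    fun i => (pullbackSpecIso_inv_snd R (A i) B).symm
  have hcov : Presieve.ofArrows (fun i => ((specOver a).obj (op (C i))).left) (fun i => (g i).left) ∈
      K.coverings ((specOver a).obj (op B)).left := by
    subst hK
    refine (Scheme.ofArrows_mem_precoverage_iff P).mpr ⟨fun x => ?_, fun i => ?_⟩
    · obtain ⟨i, y, hy⟩ := hAs (Spec.map (CommRingCat.ofHom (algebraMap R B)) x)
      obtain ⟨w, -, hw⟩ := Scheme.Pullback.exists_preimage_pullback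
        (f := Spec.map (CommRingCat.ofHom (algebraMap R (A i))))
        (g := Spec.map (CommRingCat.ofHom (algebraMap R B))) y x hy
      refine ⟨i, (pullbackSpecIso R (A i) B).hom w, ?_⟩
      rw [hg]
      change pullback.snd (Spec.map (CommRingCat.ofHom (algebraMap R (A i))))
        (Spec.map (CommRingCat.ofHom (algebraMap R B))) ((pullbackSpecIso R (A i) B).inv ((pullbackSpecIso R (A i) B).hom w)) = x
      rw [← Scheme.Hom.comp_apply (pullbackSpecIso R (A i) B).hom, Iso.hom_inv_id]
      exact hw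
    · rw [hg]
      exact (P.cancel_left_of_respectsIso _ _).mpr (P.pullback_snd _ _ (hAP i))
  obtain ⟨hsep, hglue⟩ := sections_glue M g hcov
  refine ⟨hsep, fun y hy => hglue y fun i j W gi gj e => ?_⟩
  let φi : (C i : Type u) →+* Γ(W.left, ⊤) :=
    ((Scheme.ΓSpecIso (CommRingCat.of (C i))).inv ≫ gi.left.appTop).hom
  let φj : (C j : Type u) →+* Γ(W.left, ⊤) :=
    ((Scheme.ΓSpecIso (CommRingCat.of (C j))).inv ≫ gj.left.appTop).hom
  let ui : (B : Type u) →ₐ[R] (C i : Type u) := (covUnit (A i) B).hom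
  let uj : (B : Type u) →ₐ[R] (C j : Type u) := (covUnit (A j) B).hom
  have hb : ∀ b, φi (ui b) = φj (uj b) := fun b => by
    have e' : gi.left.appTop.hom.comp (g i).left.appTop.hom = gj.left.appTop.hom.comp (g j).left.appTop.hom := by
      rw [← CommRingCat.hom_comp, ← CommRingCat.hom_comp, ← Scheme.Hom.comp_appTop, ← Scheme.Hom.comp_appTop,
        ← Over.comp_left, ← Over.comp_left, e]
    have := DFunLike.congr_fun e' ((Scheme.ΓSpecIso (CommRingCat.of (B : Type u))).inv b)
    refine Eq.trans ?_ (this.trans ?_)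
    · exact congrArg gi.left.appTop (ConcreteCategory.congr_hom
        (Scheme.ΓSpecIso_inv_naturality (CommRingCat.ofHom ui.toRingHom)) b)
    · exact (congrArg gj.left.appTop (ConcreteCategory.congr_hom
        (Scheme.ΓSpecIso_inv_naturality (CommRingCat.ofHom uj.toRingHom)) b)).symm
  letI : Algebra R Γ(W.left, ⊤) := (φi.comp (algebraMap R (C i))).toAlgebra
  have hr : ∀ r : R, φi (algebraMap R (C i) r) = φj (algebraMap R (C j) r) := fun r => by
    rw [← ui.commutes r, ← uj.commutes r, hb]
  let ψl : A j →ₐ[R] Γ(W.left, ⊤) :=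
    { φj.comp (algebraMap (A j) (A j ⊗[R] (B : Type u))) with commutes' := fun r => (hr r).symm }
  let ψr : (C i : Type u) →ₐ[R] Γ(W.left, ⊤) := { φi with commutes' := fun r => rfl }
  let ψ : A j ⊗[R] (C i : Type u) →ₐ[R] Γ(W.left, ⊤) :=
    Algebra.TensorProduct.lift ψl ψr fun _ _ => Commute.all _ _
  have h1 : ∀ x : (C i : Type u), ψ ((1 : A j) ⊗ₜ[R] x) = φi x := fun x => by
    rw [Algebra.TensorProduct.lift_tmul, map_one, one_mul]
    rfl
  let u₂ := ((Adeq.Alg.restr R (A j)).map ((Adeq.Alg.baseChange R (A j)).map (Adeq.Alg.unit R (A i) B)))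
  have h2 : ∀ x : A j ⊗[R] (B : Type u),
      ψ (Algebra.TensorProduct.map (AlgHom.id R (A j)) ui x) = φj x := fun x => by
    induction x using TensorProduct.induction_on with
    | zero => rw [map_zero, map_zero]; exact (map_zero φj).symm
    | add x x' hx hx' => rw [map_add, map_add, hx, hx']; exact (map_add φj x x').symm
    | tmul c b =>
      change ψ (c ⊗ₜ[R] ui b) = φj (c ⊗ₜ[R] b)
      rw [Algebra.TensorProduct.lift_tmul]
      change φj (c ⊗ₜ[R] (1 : B)) * φi (ui b) = φj (c ⊗ₜ[R] b)
      rw [hb]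
      change φj (c ⊗ₜ[R] (1 : B)) * φj ((1 : A j) ⊗ₜ[R] b) = φj (c ⊗ₜ[R] b)
      rw [← map_mul]
      exact congrArg φj ((Algebra.TensorProduct.tmul_mul_tmul c 1 1 b).trans (by rw [mul_one, one_mul]))
  let D := resAlg (A := (R : Type u)) (A j) (bcAlg (A j) (C i))
  let h0 : W.left ⟶ ((specOver a).obj (op D)).left :=
    W.left.toSpecΓ ≫ Spec.map (CommRingCat.ofHom ψ.toRingHom)
  have e1 : h0 ≫ ((specOver a).map (Adeq.Alg.unit R (A j) (C i)).op).left = gi.left := by
    refine Eq.trans ?_ (hom_eq_toSpecΓ gi.left).symm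
    change (W.left.toSpecΓ ≫ Spec.map _) ≫ Spec.map _ = _
    rw [Category.assoc, ← Spec.map_comp]
    exact congrArg (fun q : (C i : Type u) →+* Γ(W.left, ⊤) => W.left.toSpecΓ ≫ Spec.map (CommRingCat.ofHom q))
      (RingHom.ext h1)
  have e2 : h0 ≫ ((specOver a).map u₂.op).left = gj.left := by
    refine Eq.trans ?_ (hom_eq_toSpecΓ gj.left).symm
    change (W.left.toSpecΓ ≫ Spec.map _) ≫ Spec.map _ = _
    rw [Category.assoc, ← Spec.map_comp]
    exact congrArg (fun q : (C j : Type u) →+* Γ(W.left, ⊤) => W.left.toSpecΓ ≫ Spec.map (CommRingCat.ofHom q))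
      (RingHom.ext h2)
  let hw : W ⟶ (specOver a).obj (op D) := Over.homMk h0 (by
    rw [← Over.w ((specOver a).map (Adeq.Alg.unit R (A j) (C i)).op), ← Category.assoc, e1]
    exact Over.w gi)
  have f1 : gi = hw ≫ (specOver a).map (Adeq.Alg.unit R (A j) (C i)).op := by ext : 1; exact e1.symm
  have f2 : gj = hw ≫ (specOver a).map u₂.op := by ext : 1; exact e2.symm
  rw [f1, f2, op_comp, op_comp, Functor.map_comp, Functor.map_comp, ConcreteCategory.comp_apply,
    ConcreteCategory.comp_apply]
  exact congrArg _ (hy i j)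

include hP himm hK in
/-- Sections of an adequate module on affine objects form adequate functors. -/
theorem adequate_toMVF {S : Scheme.{u}} (M : BigSite.Mod K S) (hM : adequateMod K S M)
    {R : CommRingCat.{u}} (a : Spec R ⟶ S) : adequate R ((toMVF K a).obj M) := by
  obtain ⟨ι, R₀, a₀, hcov, hadq⟩ := hM
  rw [hK] at hcov
  obtain ⟨n, A, φ, hAP, hAs, hfac⟩ := exists_refine P hP himm a₀ hcov a
  letI : ∀ k, Algebra R (A k) := fun k => (φ k).hom.toAlgebra
  have hglue := fun B => glue_unit P hK M a (fun k => (A k : Type u)) hAP hAs B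
  refine adequate_of_cover _ (fun k => (A k : Type u)) (fun k => ?_) (fun B => (hglue B).1) fun B => (hglue B).2
  obtain ⟨i, g, hg⟩ := hfac k
  letI : Algebra (R₀ i) (A k) := (Spec.preimage g).hom.toAlgebra
  have h1 := adequate_toMVF_of_map M (R := R₀ i) (R' := A k) (a₀ i) (Spec.map (φ k) ≫ a)
    (by rw [← hg]; exact congrArg (· ≫ a₀ i) (Spec.map_preimage g)) (hadq i)
  exact adequate_of_iso (restrIso M (R := R) (R' := A k) a (Spec.map (φ k) ≫ a) rfl).symm h1

end Refine

end Groth.Agent.AdeqLib
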