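import Groth.Agent.AdeqLib.Site
import Mathlib.AlgebraicGeometry.Sites.Fpqc

/-!
The fppf and Zariski cases of the adequacy of functors of sections.
-/

set_option autoImplicit false
set_option linter.style.haveILetI false
set_option backward.isDefEq.respectTransparency false
set_option backward.isDefEq.respectTransparency.types false
universe u

noncomputable section

namespace Groth.Agent.AdeqLib

open CategoryTheory Limits Opposite AlgebraicGeometry

/-- The fppf property of morphisms. -/
abbrev fppfP : MorphismProperty Scheme.{u} := @Flat ⊓ @LocallyOfFinitePresentation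

instance : fppfP.{u}.IsStableUnderBaseChange :=
  inferInstanceAs (MorphismProperty.IsStableUnderBaseChange (@Flat ⊓ @LocallyOfFinitePresentation))

instance : fppfP.{u}.IsStableUnderComposition :=
  inferInstanceAs (MorphismProperty.IsStableUnderComposition (@Flat ⊓ @LocallyOfFinitePresentation))

lemma fppfP_open {X Y : Scheme.{u}} (f : X ⟶ Y) (h : fppfP f) : IsOpenMap f := by
  haveI := h.1
  haveI := h.2
  exact f.isOpenMap

lemma fppfP_imm {X Y : Scheme.{u}} (f : X ⟶ Y) [IsOpenImmersion f] : fppfP f :=
  ⟨inferInstance, inferInstance⟩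

/-- fppf case. -/
theorem adequate_toMVF_fppf {S : Scheme.{u}} (M : BigSite.Mod Scheme.fppfPrecoverage S)
    (hM : Adeq.adequateMod Scheme.fppfPrecoverage S M) {R : CommRingCat.{u}} (a : Spec R ⟶ S) :
    Adeq.adequate R ((Adeq.toMVF Scheme.fppfPrecoverage a).obj M) :=
  adequate_toMVF fppfP fppfP_open (fun f _ => fppfP_imm f) (K := Scheme.fppfPrecoverage) rfl M hM a

/-- Zariski case. -/
theorem adequate_toMVF_zariski {S : Scheme.{u}} (M : BigSite.Mod Scheme.zariskiPrecoverage S)
    (hM : Adeq.adequateMod Scheme.zariskiPrecoverage S M) {R : CommRingCat.{u}} (a : Spec R ⟶ S) :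
    Adeq.adequate R ((Adeq.toMVF Scheme.zariskiPrecoverage a).obj M) :=
  adequate_toMVF @IsOpenImmersion (fun f h => haveI := h; f.isOpenEmbedding.isOpenMap) (fun f h => h) (K := Scheme.zariskiPrecoverage) rfl M hM a

end Groth.Agent.AdeqLib
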