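import Groth.Prelude.Def_W4stkadequateTF
import Groth.Agent.AdeqLib.Core
import Mathlib.Algebra.Homology.ShortComplex.ModuleCat

/-!
Right exactness of tangent functors.
-/

set_option autoImplicit false
set_option linter.style.haveILetI false
set_option backward.isDefEq.respectTransparency false
universe u

noncomputable section

namespace Groth.Agent.AdeqLib

open CategoryTheory Limits
open Adeq (MVF Alg pt ptHom)
open AdeqTF (ext fst inl tangent tangentMap)

variable {A : Type u} [CommRing A] {B : Alg A}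

/-- An element of the tangent module. -/
abbrev tv {F : MVF A} {N : ModuleCat.{u} B} (x : tangent B N F) : F.obj (pt (ext B N)) := x.1

lemma mem_tangent {F : MVF A} {N : ModuleCat.{u} B} (x : F.obj (pt (ext B N))) :
    x ∈ tangent B N F ↔ mp F (fst B N) x = 0 := Iff.rfl

lemma tangentMap_val (F : MVF A) {N N' : ModuleCat.{u} B} (g : N ⟶ N') (x : tangent B N F) :
    tv (tangentMap B F g x) = mp F (AdeqTF.map B g) x.1 := rfl

lemma tfMap_id (N : ModuleCat.{u} B) : AdeqTF.map B (𝟙 N) = 𝟙 _ := by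
  apply CommAlgCat.hom_ext
  ext x <;> simp [AdeqTF.map]

lemma tfMap_comp {N N' N'' : ModuleCat.{u} B} (g : N ⟶ N') (h : N' ⟶ N'') :
    AdeqTF.map B (g ≫ h) = AdeqTF.map B g ≫ AdeqTF.map B h := by
  apply CommAlgCat.hom_ext
  ext x <;> simp [AdeqTF.map]

lemma inl_fst (N : ModuleCat.{u} B) : inl B N ≫ fst B N = 𝟙 B := by
  ext x
  simp [inl, fst, TrivSqZeroExt.algebraMap_eq_inl]

lemma tfMap_zero (N N' : ModuleCat.{u} B) : AdeqTF.map B (0 : N ⟶ N') = fst B N ≫ inl B N' := by
  apply CommAlgCat.hom_ext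
  refine AlgHom.ext fun x => TrivSqZeroExt.ext ?_ ?_ <;>
    simp [AdeqTF.map, fst, inl, TrivSqZeroExt.algebraMap_eq_inl]

lemma tangentMap_comp (F : MVF A) {N N' N'' : ModuleCat.{u} B} (g : N ⟶ N') (h : N' ⟶ N'') (x : tangent B N F) :
    tangentMap B F (g ≫ h) x = tangentMap B F h (tangentMap B F g x) :=
  Subtype.ext ((congrArg (fun q => mp F q x.1) (tfMap_comp g h)).trans (mp_comp F _ _ _))

lemma tangentMap_id (F : MVF A) (N : ModuleCat.{u} B) (x : tangent B N F) : tangentMap B F (𝟙 N) x = x :=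
  Subtype.ext ((congrArg (fun q => mp F q x.1) (tfMap_id N)).trans (mp_id F _ _))

lemma tangentMap_zero (F : MVF A) (N N' : ModuleCat.{u} B) (x : tangent B N F) :
    tangentMap B F (0 : N ⟶ N') x = 0 :=
  Subtype.ext ((congrArg (fun q => mp F q x.1) (tfMap_zero N N')).trans
    ((mp_comp F _ _ _).trans ((congrArg (mp F (inl B N')) x.2).trans (map_zero _))))

/-- Functoriality in the functor. -/
def tNat {F G : MVF A} (φ : F ⟶ G) (N : ModuleCat.{u} B) : tangent B N F →+ tangent B N G where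
  toFun x := ⟨appL φ (ext B N) x.1, (mem_tangent _).mpr (by rw [← appL_mp, show mp F (fst B N) x.1 = 0 from x.2, map_zero])⟩
  map_zero' := Subtype.ext (map_zero (appL φ (ext B N)))
  map_add' x y := Subtype.ext (map_add (appL φ (ext B N)) x.1 y.1)

lemma tNat_map {F G : MVF A} (φ : F ⟶ G) {N N' : ModuleCat.{u} B} (g : N ⟶ N') (x : tangent B N F) :
    tNat φ N' (tangentMap B F g x) = tangentMap B G g (tNat φ N x) :=
  Subtype.ext (appL_mp φ (AdeqTF.map B g) x.1)

section Seq

variable {C : ShortComplex (MVF A)} (hC : C.ShortExact) (N : ModuleCat.{u} B)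

include hC

lemma tNat_inj : Function.Injective (tNat (B := B) C.f N) := fun x y h => by
  haveI := hC.mono_f
  exact Subtype.ext (injective_of_mono C.f _ (congrArg Subtype.val h))

lemma tNat_mid (x : tangent B N C.X₂) (hx : tNat C.g N x = 0) : ∃ w, tNat C.f N w = x := by
  haveI := hC.exact.epi_kernelLift
  obtain ⟨k, hk⟩ := exists_kernel_lift C.g (congrArg Subtype.val hx)
  obtain ⟨w, hw⟩ := surjective_of_epi (kernel.lift C.g C.f C.zero) _ k
  have hwx : appL C.f (ext B N) w = x.1 := by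
    rw [← hk, ← hw, ← appL_comp, kernel.lift_ι]
  haveI := hC.mono_f
  refine ⟨⟨w, (mem_tangent _).mpr (injective_of_mono C.f _ ?_)⟩, Subtype.ext hwx⟩
  rw [appL_mp, hwx, map_zero]
  exact x.2

lemma tNat_surj : Function.Surjective (tNat (B := B) C.g N) := fun z => by
  haveI := hC.epi_g
  obtain ⟨x, hx⟩ := surjective_of_epi C.g _ z.1
  refine ⟨⟨x - mp C.X₂ (inl B N) (mp C.X₂ (fst B N) x), (mem_tangent _).mpr ?_⟩, Subtype.ext ?_⟩
  · rw [map_sub, ← mp_comp _ (inl B N), inl_fst, mp_id, sub_self]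
  · change appL C.g (ext B N) (x - _) = z.1
    rw [map_sub, appL_mp, appL_mp, hx, show mp C.X₃ (fst B N) z.1 = 0 from z.2, map_zero, sub_zero]

end Seq

/-- Right exactness of the tangent functor of `F` on the short exact sequence `S`. -/
abbrev RExact (F : MVF A) (S : ShortComplex (ModuleCat.{u} B)) : Prop :=
  Function.Surjective (tangentMap B F S.g) ∧ (tangentMap B F S.g).ker = (tangentMap B F S.f).range

lemma range_le_ker (F : MVF A) (S : ShortComplex (ModuleCat.{u} B)) (w : tangent B S.X₁ F) :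
    tangentMap B F S.g (tangentMap B F S.f w) = 0 := by
  rw [← tangentMap_comp, S.zero, tangentMap_zero]

lemma RExact.mid {F : MVF A} {S : ShortComplex (ModuleCat.{u} B)} (h : RExact F S) {x : tangent B S.X₂ F}
    (hx : tangentMap B F S.g x = 0) : ∃ w, tangentMap B F S.f w = x :=
  AddMonoidHom.mem_range.mp (h.2 ▸ AddMonoidHom.mem_ker.mpr hx)

lemma rExact_mk {F : MVF A} {S : ShortComplex (ModuleCat.{u} B)} (hs : Function.Surjective (tangentMap B F S.g))
    (hm : ∀ x, tangentMap B F S.g x = 0 → ∃ w, tangentMap B F S.f w = x) : RExact F S :=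
  ⟨hs, AddSubgroup.ext fun x => ⟨fun hx => hm x hx, fun ⟨w, hw⟩ => hw ▸ range_le_ker F S w⟩⟩

variable {C : ShortComplex (MVF A)} {S : ShortComplex (ModuleCat.{u} B)}

theorem rExact_right (hC : C.ShortExact) (h₁ : RExact C.X₁ S) (h₂ : RExact C.X₂ S) : RExact C.X₃ S := by
  refine rExact_mk (fun z => ?_) fun z hz => ?_
  · obtain ⟨x, rfl⟩ := tNat_surj hC S.X₃ z
    obtain ⟨y, rfl⟩ := h₂.1 x
    exact ⟨tNat C.g _ y, (tNat_map C.g S.g y).symm⟩
  · obtain ⟨x, rfl⟩ := tNat_surj hC S.X₂ z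
    rw [← tNat_map] at hz
    obtain ⟨w, hw⟩ := tNat_mid hC _ _ hz
    obtain ⟨w', rfl⟩ := h₁.1 w
    rw [tNat_map] at hw
    obtain ⟨k, hk⟩ := h₂.mid (x := x - tNat C.f _ w') (by rw [map_sub, hw, sub_self])
    refine ⟨tNat C.g _ k, ?_⟩
    rw [← tNat_map, hk, map_sub]
    have h0 : tNat C.g S.X₂ (tNat C.f _ w') = 0 := Subtype.ext (by
      change appL C.g (ext B S.X₂) (appL C.f (ext B S.X₂) w'.1) = 0
      rw [← appL_comp, C.zero, appL_zero])
    rw [h0, sub_zero]

theorem rExact_middle (hC : C.ShortExact) (h₁ : RExact C.X₁ S) (h₃ : RExact C.X₃ S) : RExact C.X₂ S := by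
  refine rExact_mk (fun x => ?_) fun x hx => ?_
  · obtain ⟨z, hz⟩ := h₃.1 (tNat C.g _ x)
    obtain ⟨y, rfl⟩ := tNat_surj hC S.X₂ z
    rw [← tNat_map] at hz
    obtain ⟨w, hw⟩ := tNat_mid hC _ (x - tangentMap B C.X₂ S.g y) (by rw [map_sub, hz, sub_self])
    obtain ⟨w', rfl⟩ := h₁.1 w
    refine ⟨y + tNat C.f _ w', ?_⟩
    rw [map_add, ← tNat_map, hw, add_sub_cancel]
  · obtain ⟨z', hz'⟩ := h₃.mid (x := tNat C.g _ x) (by rw [← tNat_map, hx, map_zero])
    obtain ⟨x', rfl⟩ := tNat_surj hC S.X₁ z'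
    rw [← tNat_map] at hz'
    obtain ⟨w, hw⟩ := tNat_mid hC _ (x - tangentMap B C.X₂ S.f x') (by rw [map_sub, hz', sub_self])
    obtain ⟨w', hw'⟩ := h₁.mid (x := w) (tNat_inj hC _ (by
      rw [tNat_map, hw, map_sub, hx, range_le_ker, sub_self, map_zero]))
    refine ⟨x' + tNat C.f _ w', ?_⟩
    rw [map_add, ← tNat_map, hw', hw, add_sub_cancel]

theorem coprod_bijective (F : MVF A) (hF : ∀ S : ShortComplex (ModuleCat.{u} B), S.ShortExact → RExact F S)
    (N₁ N₂ : ModuleCat.{u} B) :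
    Function.Bijective ((tangentMap B F (biprod.inl : N₁ ⟶ N₁ ⊞ N₂)).coprod
      (tangentMap B F (biprod.inr : N₂ ⟶ N₁ ⊞ N₂))) := by
  let S : ShortComplex (ModuleCat.{u} B) := ShortComplex.mk (biprod.inl : N₁ ⟶ N₁ ⊞ N₂) biprod.snd biprod.inl_snd
  have s : S.Splitting :=
    { r := biprod.fst
      s := biprod.inr
      id := biprod.total }
  have h := hF S s.shortExact
  constructor
  · refine (injective_iff_map_eq_zero _).mpr fun p hp => ?_
    rw [AddMonoidHom.coprod_apply] at hp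
    have e1 := congrArg (tangentMap B F (biprod.fst : N₁ ⊞ N₂ ⟶ N₁)) hp
    have e2 := congrArg (tangentMap B F (biprod.snd : N₁ ⊞ N₂ ⟶ N₂)) hp
    simp only [map_add, map_zero, ← tangentMap_comp, biprod.inl_fst, biprod.inr_fst, biprod.inl_snd,
      biprod.inr_snd, tangentMap_id, tangentMap_zero, add_zero, zero_add] at e1 e2
    exact Prod.ext e1 e2
  · intro x
    let y := tangentMap B F (biprod.snd : N₁ ⊞ N₂ ⟶ N₂) x
    obtain ⟨w, hw⟩ := h.mid (x := x - tangentMap B F (biprod.inr : N₂ ⟶ N₁ ⊞ N₂) y) (by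
      rw [map_sub]
      change tangentMap B F biprod.snd x - tangentMap B F biprod.snd (tangentMap B F biprod.inr y) = 0
      rw [← tangentMap_comp, biprod.inr_snd, tangentMap_id, sub_self])
    refine ⟨(w, y), ?_⟩
    rw [AddMonoidHom.coprod_apply]
    exact (congrArg (· + tangentMap B F biprod.inr y) hw).trans (sub_add_cancel _ _)

lemma homApp_single_eq {X X'' : Alg A} (g : X ⟶ X'') (Y : Alg A) (m : (X'' ⟶ Y) →₀ ULift.{u + 1} Y) :
    MVFGro.homApp (F := MVFGro.gen X) (Finsupp.single g (ULift.up 1) : (X ⟶ X'') →₀ ULift.{u + 1} X'') Y m =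
      (Finsupp.mapDomain (fun h : X'' ⟶ Y => g ≫ h) m : (X ⟶ Y) →₀ ULift.{u + 1} Y) := by
  induction m using Finsupp.induction_linear with
  | zero => rw [map_zero, Finsupp.mapDomain_zero]
  | add a b ha hb => rw [map_add, ha, hb, Finsupp.mapDomain_add]
  | single h r =>
    rw [MVFGro.homApp_single, Finsupp.mapDomain_single]
    change r.down • MVFGro.genMap X h (Finsupp.single g (ULift.up 1)) = _
    rw [MVFGro.genMap_single]
    refine (Finsupp.smul_single _ _ _).trans ?_
    congr 1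
    refine ULift.ext _ _ ?_
    change r.down * h.hom 1 = r.down
    rw [map_one, mul_one]

/-- An injective functor is surjective on surjections of algebras. -/
lemma injective_surjective_of_surjective (I : MVF A) [Injective I] {X X'' : Alg A} (g : X ⟶ X'')
    (hg : Function.Surjective g.hom) (x : I.obj (pt X'')) : ∃ y, mp I g y = x := by
  let j : MVFGro.gen X'' ⟶ MVFGro.gen X := MVFGro.hom (Finsupp.single g (ULift.up 1))
  have hj : ∀ (Y : Alg A) m, appL j Y m = Finsupp.mapDomain (fun h : X'' ⟶ Y => g ≫ h) m :=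
    fun Y m => homApp_single_eq g Y m
  haveI : Mono j := mono_of_injective j fun Y a b h => by
    rw [hj, hj] at h
    refine Finsupp.mapDomain_injective (fun p q hpq => CommAlgCat.hom_ext (AlgHom.ext fun z => ?_)) h
    obtain ⟨w, rfl⟩ := hg z
    exact congrArg (fun k => k.hom w) hpq
  let e := Injective.factorThru (MVFGro.hom x) j
  refine ⟨appL e X (Finsupp.single (𝟙 X) (ULift.up 1)), ?_⟩
  rw [← appL_mp]
  have h1 : mp (MVFGro.gen X) g (Finsupp.single (𝟙 X) (ULift.up 1)) =
      appL j X'' (Finsupp.single (𝟙 X'') (ULift.up 1)) := by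
    rw [hj]
    change MVFGro.genMap X g _ = _
    rw [MVFGro.genMap_single]
    erw [Finsupp.mapDomain_single]
    simp
  rw [h1, ← appL_comp, Injective.comp_factorThru]
  exact MVFGro.hom_self x

theorem tangentMap_surjective (I : MVF A) [Injective I] (S : ShortComplex (ModuleCat.{u} B)) (hS : S.ShortExact) :
    Function.Surjective (tangentMap B I S.g) := fun x => by
  have hsurj : Function.Surjective (AdeqTF.map B S.g).hom := fun z => by
    obtain ⟨m, hm⟩ := hS.moduleCat_surjective_g z.snd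
    refine ⟨TrivSqZeroExt.inl z.fst + TrivSqZeroExt.inr m, TrivSqZeroExt.ext ?_ ?_⟩
    · simp [AdeqTF.map]
    · simpa [AdeqTF.map] using hm
  obtain ⟨y, hy⟩ := injective_surjective_of_surjective I (AdeqTF.map B S.g) hsurj x.1
  refine ⟨⟨y, (mem_tangent _).mpr ?_⟩, Subtype.ext hy⟩
  rw [← AdeqTF.map_fst B S.g, mp_comp, hy]
  exact x.2

end Groth.Agent.AdeqLib
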