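import Groth.Agent.AdeqLib.Core
import Mathlib.Algebra.MvPolynomial.Basic
import Mathlib.Algebra.Polynomial.AlgebraMap
import Mathlib.LinearAlgebra.TensorProduct.Tower
import Mathlib.LinearAlgebra.TensorProduct.Basis
import Mathlib.RingTheory.TensorProduct.Free

/-!
The universal solution of a linear system and the scaling trick: maps out of linearly adequate
functors extend to `underline` and lift along epimorphisms with adequate kernel.
-/

set_option autoImplicit false
set_option linter.style.haveILetI false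
set_option backward.isDefEq.respectTransparency false
universe u

noncomputable section

namespace Groth.Agent.AdeqLib

open CategoryTheory Limits Opposite TensorProduct
open Adeq (MVF Alg pt ptHom underline adequate linAdequate)

variable {A : Type u} [CommRing A]

/-! ### Auxiliary maps of algebras -/

/-- The polynomial algebra over an algebra. -/
def polyObj (B : Alg A) : Alg A := Adeq.algOf A (Polynomial (B : Type u))

/-- Constants. -/
def cst (B : Alg A) : B ⟶ polyObj B :=
  CommAlgCat.ofHom { (Polynomial.C : (B : Type u) →+* Polynomial (B : Type u)) with commutes' := fun _ => rfl }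

lemma cst_apply (B : Alg A) (b : B) : (cst B).hom b = Polynomial.C b := rfl

/-- The variable. -/
def var (B : Alg A) : polyObj B := (Polynomial.X : Polynomial (B : Type u))

lemma poly_induction {B : Alg A} {motive : polyObj B → Prop}
    (add : ∀ p q, motive p → motive q → motive (p + q))
    (term : ∀ (k : ℕ) (b : B), motive ((cst B).hom b * var B ^ k)) (p : polyObj B) : motive p := by
  refine Polynomial.induction_on' (motive := motive) p add fun k b => ?_
  rw [← Polynomial.C_mul_X_pow_eq_monomial]
  exact term k b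

/-- Evaluation of the variable at `b`. -/
def evalHom {B B' : Alg A} (f : B ⟶ B') (b : B') : polyObj B ⟶ B' :=
  CommAlgCat.ofHom
    { Polynomial.eval₂RingHom f.hom.toRingHom b with
      commutes' := fun r => by
        change Polynomial.eval₂ f.hom.toRingHom b (Polynomial.C (algebraMap A B r)) = _
        rw [Polynomial.eval₂_C]
        exact f.hom.commutes r }

@[simp] lemma evalHom_C {B B' : Alg A} (f : B ⟶ B') (b : B') (c : B) :
    (evalHom f b).hom ((cst B).hom c) = f.hom c := Polynomial.eval₂_C _ _

@[simp] lemma evalHom_X {B B' : Alg A} (f : B ⟶ B') (b : B') :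
    (evalHom f b).hom (var B) = b := Polynomial.eval₂_X _ _

@[simp] lemma cst_evalHom {B B' : Alg A} (f : B ⟶ B') (b : B') : cst B ≫ evalHom f b = f := by
  ext : 1
  exact AlgHom.ext fun c => evalHom_C f b c

/-- The coefficient of the variable. -/
def c1 (B : Alg A) : (polyObj B : Type u) →ₗ[A] (B : Type u) :=
  (Polynomial.lcoeff (B : Type u) 1).restrictScalars A

@[simp] lemma c1_term (B : Alg A) (k : ℕ) (b : B) :
    c1 B ((cst B).hom b * var B ^ k) = if k = 1 then b else 0 := by
  change (Polynomial.C b * (Polynomial.X : Polynomial (B : Type u)) ^ k).coeff 1 = _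
  rw [Polynomial.C_mul_X_pow_eq_monomial, Polynomial.coeff_monomial]

@[simp] lemma c1_var_mul (B : Alg A) (b : B) : c1 B (var B * (cst B).hom b) = b := by
  rw [mul_comm, ← pow_one (var B), c1_term, if_pos rfl]

/-- The constant coefficient. -/
def c0 (B : Alg A) : (polyObj B : Type u) →ₗ[A] (B : Type u) :=
  (Polynomial.lcoeff (B : Type u) 0).restrictScalars A

lemma c_cst (B : Alg A) (b : B) : c0 B ((cst B).hom b) = b ∧ c1 B ((cst B).hom b) = 0 :=
  ⟨Polynomial.coeff_C_zero, Polynomial.coeff_C_succ⟩

lemma c_mul_var (B : Alg A) (q : polyObj B) (b : B) :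
    c0 B (q * (cst B).hom b * var B) = 0 ∧ c1 B (q * (cst B).hom b * var B) = c0 B q * b := by
  constructor
  · exact Polynomial.coeff_mul_X_zero _
  · exact (Polynomial.coeff_mul_X _ 0).trans (Polynomial.coeff_mul_C _ _ _)

lemma rTensor_mulLeft {M : Type (u + 1)} [AddCommGroup M] [Module A M] {B : Alg A} (b : B)
    (z : (B : Type u) ⊗[A] M) : (LinearMap.mulLeft A b).rTensor M z = b • z := by
  induction z using TensorProduct.induction_on with
  | zero => simp
  | tmul c m => simp [TensorProduct.smul_tmul']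
  | add x y hx hy => simp [map_add, hx, hy]

/-! ### The universal solution -/

variable {ι : Type} [Fintype ι] {κ : Type}

/-- `b` solves the system `c`. -/
def IsSol (c : ι → κ → A) {B : Alg A} (b : ι → B) : Prop := ∀ k, ∑ i, c i k • b i = 0

/-- The ideal of the relations. -/
def rel (c : ι → κ → A) : Ideal (MvPolynomial ι A) :=
  Ideal.span (Set.range fun k => ∑ i, c i k • (MvPolynomial.X i : MvPolynomial ι A))

/-- The algebra carrying the universal solution. -/
def univ (c : ι → κ → A) : Alg A := Adeq.algOf A (MvPolynomial ι A ⧸ rel c)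

/-- The universal solution. -/
def x (c : ι → κ → A) (i : ι) : univ c := Ideal.Quotient.mk (rel c) (MvPolynomial.X i)

lemma isSol_x (c : ι → κ → A) : IsSol c (x c) := fun k => by
  have e : ∑ i, c i k • x c i = Ideal.Quotient.mk (rel c) (∑ i, c i k • MvPolynomial.X i) := by
    rw [map_sum]; rfl
  rw [e, Ideal.Quotient.eq_zero_iff_mem]
  exact Ideal.subset_span ⟨k, rfl⟩

lemma IsSol.map {c : ι → κ → A} {B B' : Alg A} {b : ι → B} (h : IsSol c b) (f : B ⟶ B') :
    IsSol c fun i => f.hom (b i) := fun k => by
  have := congrArg f.hom (h k)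
  simpa [map_sum, map_smul] using this

lemma IsSol.add {c : ι → κ → A} {B : Alg A} {b b' : ι → B} (h : IsSol c b) (h' : IsSol c b') :
    IsSol c (b + b') := fun k => by
  simp [smul_add, Finset.sum_add_distrib, h k, h' k]

lemma IsSol.smul {c : ι → κ → A} {B : Alg A} {b : ι → B} (h : IsSol c b) (r : B) :
    IsSol c (r • b) := fun k => by
  simp only [Pi.smul_apply, smul_comm (c _ k) r, ← Finset.smul_sum, h k, smul_zero]

lemma IsSol.zero (c : ι → κ → A) (B : Alg A) : IsSol c (0 : ι → B) := fun k => by simp

/-- The map classifying a solution. -/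
def classify {c : ι → κ → A} {B : Alg A} (b : ι → B) (h : IsSol c b) : univ c ⟶ B :=
  CommAlgCat.ofHom (Ideal.Quotient.liftₐ (rel c) (MvPolynomial.aeval b) (by
    intro p hp
    induction hp using Submodule.span_induction with
    | zero => simp
    | add p q _ _ hp hq => simp [map_add, hp, hq]
    | smul r p _ hp => simp [hp]
    | mem p hp =>
      obtain ⟨k, rfl⟩ := hp
      simpa [map_sum, map_smul] using h k))

@[simp] lemma classify_x {c : ι → κ → A} {B : Alg A} (b : ι → B) (h : IsSol c b) (i : ι) :
    (classify b h).hom (x c i) = b i := MvPolynomial.aeval_X b i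

lemma univ_ext {c : ι → κ → A} {B : Alg A} {f g : univ c ⟶ B}
    (h : ∀ i, f.hom (x c i) = g.hom (x c i)) : f = g := by
  ext : 1
  exact Ideal.Quotient.algHom_ext _ (MvPolynomial.algHom_ext h)

lemma eq_classify {c : ι → κ → A} {B : Alg A} (f : univ c ⟶ B) :
    f = classify (fun i => f.hom (x c i)) ((isSol_x c).map f) :=
  univ_ext (f := f) fun i =>
    (classify_x (fun i => f.hom (x c i)) ((isSol_x c).map f) i).symm

/-- The solution scaled by the variable. -/
def theta (c : ι → κ → A) : univ c ⟶ polyObj (univ c) :=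
  classify (var (univ c) • fun i => (cst (univ c)).hom (x c i))
    (((isSol_x c).map _).smul _)

@[simp] lemma theta_x (c : ι → κ → A) (i : ι) :
    (theta c).hom (x c i) = var (univ c) * (cst (univ c)).hom (x c i) := classify_x _ _ i

lemma theta_coeff_one_mem (c : ι → κ → A) (p : univ c) :
    c1 (univ c) ((theta c).hom p) ∈ Submodule.span A (Set.range (x c)) := by
  suffices h : ∀ q : MvPolynomial ι A,
      c1 (univ c) ((theta c).hom (Ideal.Quotient.mk (rel c) q)) ∈ Submodule.span A (Set.range (x c)) ∧
      ∃ r : A, c0 (univ c) ((theta c).hom (Ideal.Quotient.mk (rel c) q)) = algebraMap A (univ c) r by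
    obtain ⟨q, rfl⟩ := Ideal.Quotient.mk_surjective p
    exact (h q).1
  intro q
  induction q using MvPolynomial.induction_on with
  | C r =>
    have e : (theta c).hom (Ideal.Quotient.mk (rel c) (MvPolynomial.C r)) =
        (cst (univ c)).hom (algebraMap A (univ c) r) := (theta c).hom.commutes r
    rw [e, (c_cst _ _).1, (c_cst _ _).2]
    exact ⟨Submodule.zero_mem _, r, rfl⟩
  | add p q hp hq =>
    obtain ⟨hp1, r, hp0⟩ := hp
    obtain ⟨hq1, s, hq0⟩ := hq
    have e : (theta c).hom (Ideal.Quotient.mk (rel c) (p + q)) =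
        (theta c).hom (Ideal.Quotient.mk (rel c) p) + (theta c).hom (Ideal.Quotient.mk (rel c) q) :=
      map_add (theta c).hom (Ideal.Quotient.mk (rel c) p : univ c) (Ideal.Quotient.mk (rel c) q : univ c)
    rw [e, map_add, map_add, hp0, hq0]
    exact ⟨Submodule.add_mem _ hp1 hq1, r + s, (map_add _ r s).symm⟩
  | mul_X p i hp =>
    obtain ⟨hp1, r, hp0⟩ := hp
    have e : (theta c).hom (Ideal.Quotient.mk (rel c) (p * MvPolynomial.X i)) =
        (theta c).hom (Ideal.Quotient.mk (rel c) p) * (cst (univ c)).hom (x c i) * var (univ c) := by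
      refine ((map_mul (theta c).hom (Ideal.Quotient.mk (rel c) p : univ c) (x c i)).trans
        (congrArg₂ (· * ·) rfl (theta_x c i))).trans ?_
      exact (congrArg₂ (· * ·) rfl (mul_comm _ _)).trans (mul_assoc _ _ _).symm
    rw [e, (c_mul_var _ _ _).1, (c_mul_var _ _ _).2, hp0, ← Algebra.smul_def]
    exact ⟨Submodule.smul_mem _ _ (Submodule.subset_span ⟨i, rfl⟩), 0, (map_zero _).symm⟩

/-- A homogeneous element of degree one. -/
def IsHomog (c : ι → κ → A) (G : MVF A) (η : G.obj (pt (univ c))) : Prop :=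
  mp G (theta c) η = var (univ c) • mp G (cst (univ c)) η

/-- Homogeneous elements of `univ ⊗ M` are combinations of the universal solution. -/
theorem exists_sum_of_homog (c : ι → κ → A) {M : ModuleCat.{u + 1} A}
    (d : (univ c : Type u) ⊗[A] M)
    (hd : (theta c).hom.toLinearMap.rTensor M d =
      var (univ c) • (cst (univ c)).hom.toLinearMap.rTensor M d) :
    ∃ m : ι → M, d = ∑ i, x c i ⊗ₜ[A] m i := by
  set S := Submodule.span A (Set.range (x c)) with hS
  let q : (univ c : Type u) →ₗ[A] S :=
    (c1 (univ c) ∘ₗ (theta c).hom.toLinearMap).codRestrict S (theta_coeff_one_mem c)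
  have h1 := congrArg ((c1 (univ c)).rTensor M) hd
  rw [← rTensor_mulLeft (var (univ c)), ← LinearMap.comp_apply,
    ← LinearMap.comp_apply, ← LinearMap.comp_apply, ← LinearMap.rTensor_comp,
    ← LinearMap.rTensor_comp, ← LinearMap.rTensor_comp] at h1
  have e : c1 (univ c) ∘ₗ (LinearMap.mulLeft A (var (univ c)) ∘ₗ
      (cst (univ c)).hom.toLinearMap) = LinearMap.id := by
    refine LinearMap.ext fun b => ?_
    exact c1_var_mul _ b
  rw [show c1 (univ c) ∘ₗ (theta c).hom.toLinearMap = S.subtype ∘ₗ q from rfl] at h1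
  simp only [LinearMap.comp_assoc, e, LinearMap.rTensor_id, LinearMap.id_apply,
    LinearMap.rTensor_comp, LinearMap.comp_apply] at h1
  rw [← h1]
  generalize q.rTensor M d = z
  induction z using TensorProduct.induction_on with
  | zero => exact ⟨0, by simp⟩
  | tmul s m =>
    obtain ⟨a, ha⟩ := (Submodule.mem_span_range_iff_exists_fun A).mp s.2
    refine ⟨fun i => a i • m, ?_⟩
    simp only [LinearMap.rTensor_tmul, Submodule.coe_subtype, TensorProduct.tmul_smul, ← ha,
      TensorProduct.sum_tmul]
    rfl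
  | add z w hz hw =>
    obtain ⟨m, hm⟩ := hz
    obtain ⟨m', hm'⟩ := hw
    exact ⟨m + m', by simp [map_add, hm, hm', TensorProduct.tmul_add, Finset.sum_add_distrib]⟩

/-! ### The element classified by a solution -/

/-- The image of `η` at a solution. -/
def sig {c : ι → κ → A} {G : MVF A} (η : G.obj (pt (univ c))) {B : Alg A} (b : ι → B)
    (h : IsSol c b) : G.obj (pt B) := mp G (classify b h) η

lemma sig_congr {c : ι → κ → A} {G : MVF A} (η : G.obj (pt (univ c))) {B : Alg A} {b b' : ι → B}
    (e : b = b') (h : IsSol c b) (h' : IsSol c b') : sig η b h = sig η b' h' := by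
  subst e; rfl

lemma mp_eq_sig {c : ι → κ → A} {G : MVF A} (η : G.obj (pt (univ c))) {B : Alg A} (f : univ c ⟶ B)
    {b : ι → B} (e : ∀ i, f.hom (x c i) = b i) (h : IsSol c b) : mp G f η = sig η b h := by
  rw [sig, show classify b h = f from univ_ext fun i => (classify_x b h i).trans (e i).symm]

lemma mp_sig {c : ι → κ → A} {G : MVF A} (η : G.obj (pt (univ c))) {B B' : Alg A} (f : B ⟶ B')
    {b : ι → B} (h : IsSol c b) :
    mp G f (sig η b h) = sig η (fun i => f.hom (b i)) (h.map f) := by
  rw [sig, ← mp_comp]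
  exact mp_eq_sig η _ (fun i => congrArg f.hom (classify_x b h i)) _

lemma appL_sig {c : ι → κ → A} {G H : MVF A} (π : G ⟶ H) (η : G.obj (pt (univ c))) {B : Alg A}
    (b : ι → B) (h : IsSol c b) : appL π B (sig η b h) = sig (appL π (univ c) η) b h :=
  appL_mp π _ η

lemma sig_smul {c : ι → κ → A} {G : MVF A} {η : G.obj (pt (univ c))} (hη : IsHomog c G η)
    {B : Alg A} {b : ι → B} (h : IsSol c b) (r : B) :
    sig η (r • b) (h.smul r) = r • sig η b h := by
  have e := congrArg (mp G (evalHom (classify b h) r)) hη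
  rw [mp_smul, evalHom_X, ← mp_comp, ← mp_comp] at e
  have hb : ∀ i, (classify b h).hom (x c i) = b i := classify_x b h
  rw [mp_eq_sig η _ (b := r • b) (fun i => by simp [hb]) (h.smul r),
    mp_eq_sig η _ (b := b) (fun i => by simp [hb]) h] at e
  exact e

lemma sig_zero {c : ι → κ → A} {G : MVF A} {η : G.obj (pt (univ c))} (hη : IsHomog c G η)
    (B : Alg A) : sig η (0 : ι → B) (IsSol.zero c B) = 0 := by
  rw [sig_congr η (zero_smul B (0 : ι → B)).symm (IsSol.zero c B) ((IsSol.zero c B).smul 0),
    sig_smul hη (IsSol.zero c B) 0, zero_smul]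

/-- The data `0 → F → G → H → 0` with `F` adequate. -/
structure AdExt {F G H : MVF A} (j : F ⟶ G) (π : G ⟶ H) : Prop where
  inj : ∀ B, Function.Injective (appL j B)
  surj : ∀ B, Function.Surjective (appL π B)
  exact : ∀ B y, appL π B y = 0 ↔ ∃ w, appL j B w = y
  adeq : adequate A F

/-- Lifting a homogeneous element. -/
theorem exists_homog_lift (c : ι → κ → A) {F G H : MVF A} {j : F ⟶ G} {π : G ⟶ H}
    (E : AdExt j π) (h : H.obj (pt (univ c))) (hh : IsHomog c H h) :
    ∃ η, appL π (univ c) η = h ∧ IsHomog c G η := by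
  obtain ⟨M, N, n, ιF, hinj, hran⟩ := exists_emb E.adeq
  obtain ⟨η₀, rfl⟩ := E.surj (univ c) h
  let U := univ c
  let X₁ : polyObj U := var U
  obtain ⟨δ, hδ⟩ := (E.exact _ _).mp (show appL π (polyObj U)
      (mp G (theta c) η₀ - X₁ • mp G (cst U) η₀) = 0 by
    rw [map_sub, map_smul, appL_mp, appL_mp, sub_eq_zero]
    exact hh)
  set d := toU ιF (polyObj U) δ with hd
  set w := (c1 U).rTensor M d with hw
  have hwn : n.hom.baseChange U w = 0 := by
    rw [hw, ← rTensor_baseChange, (hran _ d).mp ⟨δ, hd.symm⟩, map_zero]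
  obtain ⟨m, hm⟩ := (hran _ _).mpr hwn
  refine ⟨η₀ + appL j U m, ?_, ?_⟩
  · rw [map_add, (E.exact _ _).mpr ⟨m, rfl⟩, add_zero]
  -- the cocycle identity in two variables
  set U₂ := polyObj (polyObj U)
  set C' : polyObj U ⟶ U₂ := cst (polyObj U)
  let E₁ : polyObj U ⟶ U₂ := evalHom (theta c ≫ C') (var (polyObj U))
  let R : polyObj U ⟶ U₂ :=
    evalHom (cst U ≫ C') (C'.hom X₁ * var (polyObj U))
  set T : U₂ := var (polyObj U)
  have f1 : theta c ≫ E₁ = theta c ≫ R := univ_ext fun i => by
    simp [E₁, R, U, X₁]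
    ring
  have f2 : cst U ≫ E₁ = theta c ≫ C' := cst_evalHom _ _
  have f3 : cst U ≫ R = cst U ≫ C' := cst_evalHom _ _
  have rel₁ : mp F E₁ δ = mp F R δ - T • mp F C' δ := by
    apply E.inj
    rw [map_sub, map_smul, appL_mp, appL_mp, appL_mp, hδ]
    have q1 : mp G E₁ (mp G (theta c) η₀) = mp G R (mp G (theta c) η₀) := by
      rw [← mp_comp, ← mp_comp, f1]
    have q2 : mp G E₁ (mp G (cst U) η₀) = mp G C' (mp G (theta c) η₀) := by
      rw [← mp_comp, ← mp_comp, f2]
    have q3 : mp G R (mp G (cst U) η₀) = mp G C' (mp G (cst U) η₀) := by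
      rw [← mp_comp, ← mp_comp, f3]
    rw [map_sub, map_sub, map_sub, mp_smul, mp_smul, mp_smul, q1, q2, q3]
    have a1 : E₁.hom X₁ = T := evalHom_X _ _
    have a2 : R.hom X₁ = C'.hom X₁ * T := evalHom_X _ _
    rw [a1, a2, smul_sub, smul_smul, mul_comm T]
    abel
  have rel₂ := congrArg ((c1 (polyObj U)).rTensor M) (congrArg (toU ιF (polyObj (polyObj U))) rel₁)
  rw [map_sub, map_smul, toU_mp, toU_mp, toU_mp, ← hd, map_sub, ← rTensor_mulLeft T] at rel₂
  simp only [← LinearMap.comp_apply, ← LinearMap.rTensor_comp, LinearMap.comp_assoc] at rel₂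
  have g1 : c1 (polyObj U) ∘ₗ E₁.hom.toLinearMap = (theta c).hom.toLinearMap ∘ₗ c1 U := by
    refine LinearMap.ext fun p => ?_
    induction p using poly_induction with
    | add p q hp hq => rw [map_add, map_add, hp, hq]
    | term k b =>
      change c1 (polyObj U) (E₁.hom ((cst U).hom b * var U ^ k)) =
        (theta c).hom (c1 U ((cst U).hom b * var U ^ k))
      rw [map_mul, map_pow, evalHom_C, evalHom_X, c1_term]
      refine (c1_term (polyObj U) k ((theta c).hom b)).trans ?_
      split_ifs <;> simp
  have g2 : c1 (polyObj U) ∘ₗ R.hom.toLinearMap =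
      LinearMap.mulLeft A X₁ ∘ₗ (cst U).hom.toLinearMap ∘ₗ c1 U := by
    refine LinearMap.ext fun p => ?_
    induction p using poly_induction with
    | add p q hp hq => rw [map_add, map_add, hp, hq]
    | term k b =>
      change c1 (polyObj U) (R.hom ((cst U).hom b * var U ^ k)) =
        X₁ * (cst U).hom (c1 U ((cst U).hom b * var U ^ k))
      rw [map_mul, map_pow, evalHom_C, evalHom_X, c1_term]
      have e : (cst U ≫ C').hom b * (C'.hom X₁ * var (polyObj U)) ^ k =
          C'.hom ((cst U).hom b * X₁ ^ k) * var (polyObj U) ^ k := by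
        rw [map_mul, map_pow, mul_pow, mul_assoc]; rfl
      rw [e, c1_term]
      split_ifs with hk
      · subst hk; rw [pow_one, mul_comm]
      · rw [map_zero, mul_zero]
  have g3 : c1 (polyObj U) ∘ₗ LinearMap.mulLeft A T ∘ₗ C'.hom.toLinearMap = LinearMap.id :=
    LinearMap.ext fun p => c1_var_mul _ p
  rw [g1, g2, ← LinearMap.comp_apply ((c1 (polyObj U)).rTensor M), ← LinearMap.rTensor_comp,
    ← LinearMap.comp_apply, ← LinearMap.rTensor_comp, LinearMap.comp_assoc, g3, LinearMap.rTensor_id,
    LinearMap.id_apply] at rel₂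
  simp only [LinearMap.rTensor_comp, LinearMap.comp_apply, rTensor_mulLeft, ← hw] at rel₂
  have key : mp F (theta c) m = X₁ • mp F (cst U) m - δ := by
    apply hinj
    rw [map_sub, map_smul, toU_mp, toU_mp, hm, ← hd]
    exact rel₂
  change mp G (theta c) (η₀ + appL j U m) = X₁ • mp G (cst U) (η₀ + appL j U m)
  rw [map_add, map_add, smul_add, ← appL_mp, ← appL_mp, key, map_sub, map_smul, hδ]
  abel

/-- Additivity of the element classified by a homogeneous lift. -/
theorem sig_add (c : ι → κ → A) {F G H : MVF A} {j : F ⟶ G} {π : G ⟶ H} (E : AdExt j π)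
    {η : G.obj (pt (univ c))} (hη : IsHomog c G η)
    (hadd : ∀ (B : Alg A) (b b' : ι → B) (h : IsSol c b) (h' : IsSol c b'),
      sig (appL π (univ c) η) (b + b') (h.add h') = sig (appL π (univ c) η) b h + sig (appL π (univ c) η) b' h')
    {B : Alg A} {b b' : ι → B} (h : IsSol c b) (h' : IsSol c b') :
    sig η (b + b') (h.add h') = sig η b h + sig η b' h' := by
  obtain ⟨M, N, n, ιF, hinj, hran⟩ := exists_emb E.adeq
  let c₂ : ι ⊕ ι → κ ⊕ κ → A := fun i k =>
    Sum.elim (fun i => Sum.elim (c i) (fun _ => 0) k) (fun i => Sum.elim (fun _ => 0) (c i) k) i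
  let y₁ : ι → univ c₂ := fun i => x c₂ (Sum.inl i)
  let y₂ : ι → univ c₂ := fun i => x c₂ (Sum.inr i)
  have hy₁ : IsSol c y₁ := fun k => by
    have := isSol_x c₂ (Sum.inl k)
    simpa [c₂, Fintype.sum_sum_type] using this
  have hy₂ : IsSol c y₂ := fun k => by
    have := isSol_x c₂ (Sum.inr k)
    simpa [c₂, Fintype.sum_sum_type] using this
  have hpair : ∀ {B : Alg A} {b b' : ι → B}, IsSol c b → IsSol c b' → IsSol c₂ (Sum.elim b b') := by
    intro B b b' h h' k
    rcases k with k | k <;> simp [c₂, Fintype.sum_sum_type, h k, h' k]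
  have hf : ∀ {B : Alg A} {b b' : ι → B} (h : IsSol c b) (h' : IsSol c b'),
      mp G (classify _ (hpair h h')) (sig η (y₁ + y₂) (hy₁.add hy₂) - sig η y₁ hy₁ - sig η y₂ hy₂) =
        sig η (b + b') (h.add h') - sig η b h - sig η b' h' := by
    intro B b b' h h'
    rw [map_sub, map_sub, mp_sig, mp_sig, mp_sig]
    congr 1
    · congr 1
      · exact sig_congr η (funext fun i => by simp [y₁, y₂]) _ _
      · exact sig_congr η (funext fun i => by simp [y₁]) _ _
    · exact sig_congr η (funext fun i => by simp [y₂]) _ _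
  suffices he : sig η (y₁ + y₂) (hy₁.add hy₂) - sig η y₁ hy₁ - sig η y₂ hy₂ = 0 by
    have := hf h h'
    rw [he, map_zero] at this
    rw [← sub_eq_zero, ← sub_sub]
    exact this.symm
  obtain ⟨e, he⟩ := (E.exact _ _).mp (show appL π (univ c₂)
      (sig η (y₁ + y₂) (hy₁.add hy₂) - sig η y₁ hy₁ - sig η y₂ hy₂) = 0 by
    rw [map_sub, map_sub, appL_sig, appL_sig, appL_sig, hadd _ _ _ hy₁ hy₂]
    abel)
  have hθ : mp F (theta c₂) e = var (univ c₂) • mp F (cst (univ c₂)) e := by
    apply E.inj
    have key : ∀ (z : ι → univ c₂) (hz : IsSol c z),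
        (∀ i, (theta c₂).hom (z i) = var (univ c₂) * (cst (univ c₂)).hom (z i)) →
          mp G (theta c₂) (sig η z hz) =
            var (univ c₂) • mp G (cst (univ c₂)) (sig η z hz) := by
      intro z hz hzt
      rw [mp_sig, mp_sig, ← sig_smul hη]
      exact sig_congr η (funext fun i => hzt i) _ _
    rw [map_smul, appL_mp, appL_mp, he]
    simp only [map_sub, smul_sub]
    rw [key _ _ fun i => by simp [y₁, y₂, mul_add], key _ _ fun i => by simp [y₁],
      key _ _ fun i => by simp [y₂]]
  obtain ⟨m, hm⟩ := exists_sum_of_homog c₂ (toU ιF (univ c₂) e) (by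
    rw [← toU_mp, hθ, map_smul, toU_mp])
  have side : ∀ (b b' : ι → univ c) (h : IsSol c b) (h' : IsSol c b'),
      (b = 0 ∨ b' = 0) → ∑ l, (Sum.elim b b') l ⊗ₜ[A] m l = 0 := by
    intro b b' h h' hbb
    have h0 : mp G (classify _ (hpair h h')) (appL j (univ c₂) e) = 0 := by
      rw [he, hf h h']
      rcases hbb with rfl | rfl
      · rw [sig_congr η (zero_add b') _ h', sig_zero hη, sub_zero, sub_self]
      · rw [sig_congr η (add_zero b) _ h, sig_zero hη, sub_self, sub_zero]
    rw [← appL_mp] at h0
    have h1 : mp F (classify _ (hpair h h')) e = 0 := E.inj _ (by rw [h0, map_zero])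
    have h2 := congrArg (toU ιF (univ c)) h1
    rw [toU_mp, map_zero, hm, map_sum] at h2
    simpa using h2
  have s₁ := side (x c) 0 (isSol_x c) (IsSol.zero c _) (Or.inr rfl)
  have s₂ := side 0 (x c) (IsSol.zero c _) (isSol_x c) (Or.inl rfl)
  simp only [Fintype.sum_sum_type, Sum.elim_inl, Sum.elim_inr, Pi.zero_apply, TensorProduct.zero_tmul,
    Finset.sum_const_zero, add_zero, zero_add] at s₁ s₂
  have t₁ := congrArg ((classify y₁ hy₁).hom.toLinearMap.rTensor M) s₁
  have t₂ := congrArg ((classify y₂ hy₂).hom.toLinearMap.rTensor M) s₂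
  simp only [map_sum, LinearMap.rTensor_tmul, AlgHom.toLinearMap_apply, classify_x, map_zero] at t₁ t₂
  have : toU ιF (univ c₂) e = 0 := by
    rw [hm, Fintype.sum_sum_type, t₁, t₂, add_zero]
  rw [← he, hinj _ (this.trans (map_zero _).symm), map_zero]

/-! ### Kernels of maps of finite free modules -/

variable {P P' : ModuleCat.{u + 1} A} (e : Module.Basis ι A P) (f : Module.Basis κ A P') (a : P ⟶ P')

/-- The matrix of `a`. -/
def cf : ι → κ → A := fun i k => f.repr (a.hom (e i)) k

lemma repr_baseChange (B : Alg A) (v : (B : Type u) ⊗[A] P) (k : κ) :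
    (Algebra.TensorProduct.basis (B : Type u) f).repr (a.hom.baseChange B v) k =
      ∑ i, cf e f a i k • (Algebra.TensorProduct.basis (B : Type u) e).repr v i := by
  conv_lhs => rw [← (Algebra.TensorProduct.basis (B : Type u) e).sum_repr v]
  simp only [map_sum, map_smul, Finsupp.coe_finset_sum, Finset.sum_apply, Finsupp.smul_apply,
    Algebra.TensorProduct.basis_apply, LinearMap.baseChange_tmul,
    Algebra.TensorProduct.basis_repr_tmul, smul_eq_mul]
  refine Finset.sum_congr rfl fun i _ => ?_
  rw [one_mul, Algebra.smul_def, mul_comm]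
  rfl

/-- The linearly adequate functor of `a`. -/
abbrev L : MVF A := kernel ((underline A).map a)

/-- Coordinates on the linearly adequate functor. -/
def coord (B : Alg A) : (L a).obj (pt B) →ₗ[B] (ι → B) :=
  (Algebra.TensorProduct.basis (B : Type u) e).equivFun.toLinearMap ∘ₗ
    toU (kernel.ι ((underline A).map a)) B

lemma coord_isSol {B : Alg A} (y : (L a).obj (pt B)) : IsSol (cf e f a) (coord e a B y) := fun k => by
  have h : a.hom.baseChange B (toU (kernel.ι ((underline A).map a)) B y) = 0 := by
    rw [← toU_map, kernel.condition, toU_zero]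
  have := repr_baseChange e f a B (toU (kernel.ι ((underline A).map a)) B y) k
  rw [h, map_zero] at this
  exact this.symm

lemma coord_injective (B : Alg A) : Function.Injective (coord e a B) :=
  (Algebra.TensorProduct.basis (B : Type u) e).equivFun.injective.comp
    (injective_of_mono (kernel.ι ((underline A).map a)) B)

lemma toU_kernel_ι {B : Alg A} (y : (L a).obj (pt B)) :
    toU (kernel.ι ((underline A).map a)) B y = ∑ i, coord e a B y i ⊗ₜ[A] e i := by
  conv_lhs => rw [← (Algebra.TensorProduct.basis (B : Type u) e).sum_repr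
    (toU (kernel.ι ((underline A).map a)) B y)]
  refine Finset.sum_congr rfl fun i _ => ?_
  rw [Algebra.TensorProduct.basis_apply, TensorProduct.smul_tmul', smul_eq_mul, mul_one]
  rfl

lemma coord_mp {B B' : Alg A} (g : B ⟶ B') (y : (L a).obj (pt B)) (i : ι) :
    coord e a B' (mp (L a) g y) i = g.hom (coord e a B y i) := by
  change (Algebra.TensorProduct.basis (B' : Type u) e).repr
    (toU (kernel.ι ((underline A).map a)) B' (mp (L a) g y)) i = _
  rw [toU_mp, toU_kernel_ι e a y, map_sum]
  simp only [LinearMap.rTensor_tmul, AlgHom.toLinearMap_apply, map_sum, Finsupp.coe_finset_sum,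
    Finset.sum_apply, Algebra.TensorProduct.basis_repr_tmul, Module.Basis.repr_self]
  classical
  rw [Finset.sum_eq_single i]
  · simp
  · intro l _ hl; simp [hl]
  · simp

/-- The universal element. -/
lemma exists_universal : ∃ y : (L a).obj (pt (univ (cf e f a))),
    ∀ i, coord e a (univ (cf e f a)) y i = x (cf e f a) i := by
  set c := cf e f a
  set v : (univ c : Type u) ⊗[A] P := ∑ i, x c i ⊗ₜ[A] e i with hv
  have hr : ∀ i, (Algebra.TensorProduct.basis (univ c : Type u) e).repr v i = x c i := fun i => by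
    classical
    simp [hv, map_sum, Finsupp.coe_finset_sum, Finset.sum_apply,
      Algebra.TensorProduct.basis_repr_tmul, Finsupp.single_apply]
  have h0 : a.hom.baseChange (univ c : Type u) v = 0 := by
    refine (Algebra.TensorProduct.basis (univ c : Type u) f).repr.injective (Finsupp.ext fun k => ?_)
    rw [repr_baseChange e f a, map_zero]
    simpa [hr] using isSol_x c k
  obtain ⟨y, hy⟩ := exists_kernel_lift ((underline A).map a) (B := univ c) (x := v) h0
  refine ⟨y, fun i => ?_⟩
  change (Algebra.TensorProduct.basis (univ c : Type u) e).repr (toU (kernel.ι ((underline A).map a)) (univ c) y) i = _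
  rw [show toU (kernel.ι ((underline A).map a)) (univ c) y = v from hy]
  exact hr i

include e f in
/-- Maps out of a linearly adequate functor lift along epimorphisms with adequate kernel. -/
theorem exists_lift {F G H : MVF A} {j : F ⟶ G} {π : G ⟶ H} (E : AdExt j π) (ψ : L a ⟶ H) :
    ∃ s : L a ⟶ G, s ≫ π = ψ := by
  obtain ⟨ξ, hξ⟩ := exists_universal e f a
  have hcl : ∀ {B : Alg A} (y : (L a).obj (pt B)),
      mp (L a) (classify _ (coord_isSol e f a y)) ξ = y := fun y =>
    coord_injective e a _ (funext fun i => by rw [coord_mp, hξ, classify_x])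
  have hξh : IsHomog (cf e f a) (L a) ξ := by
    refine coord_injective e a _ (funext fun i => ?_)
    rw [map_smul, Pi.smul_apply, coord_mp, coord_mp, hξ]
    simp
  have hψξ : IsHomog (cf e f a) H (appL ψ (univ (cf e f a)) ξ) := by
    unfold IsHomog at hξh ⊢
    rw [← appL_mp, hξh, map_smul, appL_mp]
  obtain ⟨η, hη, hηh⟩ := exists_homog_lift _ E _ hψξ
  have hπ : ∀ (B : Alg A) (y : (L a).obj (pt B)),
      sig (appL π (univ (cf e f a)) η) (coord e a B y) (coord_isSol e f a y) = appL ψ B y := fun B y => by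
    rw [hη, sig, ← appL_mp, hcl]
  have hsolEq : ∀ {B : Alg A} {b : ι → B}, IsSol (cf e f a) b → ∃ y, coord e a B y = b := by
    intro B b hb
    exact ⟨mp (L a) (classify b hb) ξ, funext fun i => by rw [coord_mp, hξ, classify_x]⟩
  have hadd : ∀ (B : Alg A) (b b' : ι → B) (h : IsSol (cf e f a) b) (h' : IsSol (cf e f a) b'),
      sig (appL π (univ (cf e f a)) η) (b + b') (h.add h') =
        sig (appL π (univ (cf e f a)) η) b h + sig (appL π (univ (cf e f a)) η) b' h' := by
    intro B b b' h h'
    obtain ⟨y, rfl⟩ := hsolEq h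
    obtain ⟨y', rfl⟩ := hsolEq h'
    rw [sig_congr _ (map_add (coord e a B) y y').symm _ (coord_isSol e f a (y + y')), hπ, hπ, hπ,
      map_add]
  let app : ∀ B : Alg A, (L a).obj (pt B) →ₗ[B] G.obj (pt B) := fun B =>
    { toFun := fun y => sig η (coord e a B y) (coord_isSol e f a y)
      map_add' := fun y y' => by
        rw [sig_congr η (map_add (coord e a B) y y') _ ((coord_isSol e f a y).add (coord_isSol e f a y')),
          sig_add _ E hηh hadd]
      map_smul' := fun r y => by
        rw [sig_congr η (map_smul (coord e a B) r y) _ ((coord_isSol e f a y).smul r), sig_smul hηh]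
        rfl }
  refine ⟨mkHom app fun g y => ?_, hom_ext fun B y => ?_⟩
  · change sig η _ _ = mp G g (sig η _ _)
    rw [mp_sig]
    exact sig_congr η (funext fun i => coord_mp e a g y i) _ _
  · rw [appL_comp, appL_mkHom]
    change appL π B (sig η _ _) = _
    rw [appL_sig, hπ]

include e f in
/-- Maps from a linearly adequate functor to `underline M` extend. -/
theorem exists_extend {M : ModuleCat.{u + 1} A} (φ : L a ⟶ (underline A).obj M) :
    ∃ g : P ⟶ M, kernel.ι ((underline A).map a) ≫ (underline A).map g = φ := by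
  set c := cf e f a with hc
  obtain ⟨ξ, hξ⟩ : ∃ y : (L a).obj (pt (univ c)), ∀ i, coord e a (univ c) y i = x c i :=
    exists_universal e f a
  have hξh : mp (L a) (theta c) ξ =
      var (univ c) • mp (L a) (cst (univ c)) ξ := by
    refine coord_injective e a _ (funext fun i => ?_)
    rw [map_smul, Pi.smul_apply, coord_mp, coord_mp, hξ]
    simp [c]
  obtain ⟨m, hm⟩ := exists_sum_of_homog c (toU φ (univ c) ξ) (by rw [← toU_mp, hξh, map_smul, toU_mp])
  refine ⟨ModuleCat.ofHom (e.constr A m), homU_ext fun B y => ?_⟩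
  have hy : mp (L a) (classify _ (coord_isSol e f a y)) ξ = y :=
    coord_injective e a _ (funext fun i => by rw [coord_mp, hξ, classify_x])
  conv_rhs => rw [← hy, toU_mp, hm]
  rw [toU_map, toU_kernel_ι e a y]
  simp only [map_sum, LinearMap.baseChange_tmul, LinearMap.rTensor_tmul, ModuleCat.hom_ofHom,
    Module.Basis.constr_basis, AlgHom.toLinearMap_apply]
  exact Finset.sum_congr rfl fun i _ => by rw [classify_x]

end Groth.Agent.AdeqLib
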