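import Groth.Agent.AdeqLib.TExact
import Groth.Agent.AdeqLib.H1Res
import Mathlib.Topology.Sheaves.Flasque

/-!
Restriction to the small Zariski site of sheaves with exact Amitsur complexes: flasque sheaves on opens valued
one universe up are acyclic; comparison of big fppf and small Zariski cohomology.
-/

set_option autoImplicit false
set_option linter.style.haveILetI false
set_option backward.isDefEq.respectTransparency false
universe u

noncomputable section

namespace Groth.Agent.AdeqLib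

open CategoryTheory Limits Opposite AlgebraicGeometry TopologicalSpace Abelian
open Adeq (adequateMod specOver)

local notation "Kf" => Scheme.fppfPrecoverage

variable {S : Scheme.{u}}

section Flasque

instance : PreservesLimitsOfSize.{u, u} (forget AddCommGrpCat.{u + 1}) :=
  preservesLimitsOfSize_shrink.{u, u + 1, u, u + 1} _

instance wEqualsZar : (Opens.grothendieckTopology S).WEqualsLocallyBijective AddCommGrpCat.{u + 1} :=
  haveI := EtZar.essSmallOpens S
  GrothendieckTopology.WEqualsLocallyBijective.ofEssentiallySmall (Opens.grothendieckTopology S)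

/-- Restrictions are surjective. -/
def ZFlasque (G : EtZar.Ab S) : Prop :=
  ∀ (U V : S.Opens) (h : V ≤ U), Function.Surjective (G.obj.map (homOfLE h).op)

lemma zres (G : EtZar.Ab S) {U V W : S.Opens} (h : V ≤ U) (h' : W ≤ V) (s : G.obj.obj (op U)) :
    G.obj.map (homOfLE h').op (G.obj.map (homOfLE h).op s) = G.obj.map (homOfLE (h'.trans h)).op s :=
  ((ConcreteCategory.congr_hom (G.obj.map_comp (homOfLE h).op (homOfLE h').op)) s).symm

lemma zar_glue (G : EtZar.Ab S) {U : S.Opens} {ι : Type (u + 1)} (V : ι → S.Opens) (hle : ∀ i, V i ≤ U)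
    (hcov : ∀ x ∈ U, ∃ i, x ∈ V i) :
    (∀ x y : G.obj.obj (op U), (∀ i, G.obj.map (homOfLE (hle i)).op x = G.obj.map (homOfLE (hle i)).op y) → x = y) ∧
    ∀ y : ∀ i, G.obj.obj (op (V i)),
      (∀ i j, G.obj.map (homOfLE (inf_le_left : V i ⊓ V j ≤ V i)).op (y i) =
        G.obj.map (homOfLE (inf_le_right : V i ⊓ V j ≤ V j)).op (y j)) →
      ∃ x, ∀ i, G.obj.map (homOfLE (hle i)).op x = y i := by
  have hsh : Presieve.IsSheaf (Opens.grothendieckTopology S) (G.obj ⋙ forget AddCommGrpCat.{u + 1}) :=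
    (isSheaf_iff_isSheaf_of_type _ _).mp
      ((sheafCompose (Opens.grothendieckTopology S) (forget AddCommGrpCat.{u + 1})).obj G).property
  have h := (Presieve.isSheafFor_arrows_iff _ _).mp ((Presieve.isSheafFor_iff_generate _).mpr
    (hsh (Sieve.generate (Presieve.ofArrows V fun i => homOfLE (hle i))) fun x hx => by
      obtain ⟨i, hi⟩ := hcov x hx
      exact ⟨V i, homOfLE (hle i), Sieve.le_generate _ _ _ (Presieve.ofArrows.mk i), hi⟩))
  refine ⟨fun x y hxy => ?_, fun y hy => ?_⟩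
  · refine (h (fun i => G.obj.map (homOfLE (hle i)).op y) fun i j W gi gj e => ?_).unique (fun i => hxy i) (fun i => rfl)
    change G.obj.map gi.op (G.obj.map _ y) = G.obj.map gj.op (G.obj.map _ y)
    rw [← ConcreteCategory.comp_apply, ← ConcreteCategory.comp_apply, ← Functor.map_comp, ← Functor.map_comp,
      ← op_comp, ← op_comp, e]
  · refine (h y fun i j W gi gj e => ?_).exists
    have := congrArg (G.obj.map (homOfLE (le_inf (leOfHom gi) (leOfHom gj))).op) (hy i j)
    rwa [zres, zres] at this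

variable {C : ShortComplex (EtZar.Ab S)}

lemma zsections_exact (hC : C.ShortExact) {U : S.Opens} (x : C.X₂.obj.obj (op U))
    (hx : C.g.hom.app _ x = 0) : ∃ y, C.f.hom.app _ y = x := by
  let Φ : EtZar.Ab S ⥤ AddCommGrpCat.{u + 1} :=
    sheafToPresheaf _ _ ⋙ (evaluation _ AddCommGrpCat.{u + 1}).obj (op U)
  haveI : PreservesFiniteLimits Φ := comp_preservesFiniteLimits _ _
  haveI := hC.mono_f
  exact (ShortComplex.ab_exact_iff _).1 (ShortComplex.exact_of_f_is_kernel
    (ShortComplex.mk (Φ.map C.f) (Φ.map C.g) (by rw [← Functor.map_comp, C.zero, Functor.map_zero]))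
    (KernelFork.mapIsLimit _ hC.fIsKernel Φ)) x hx

/-- A partial lift of a section. -/
structure ZLift (C : ShortComplex (EtZar.Ab S)) (U : S.Opens) (s : C.X₃.obj.obj (op U)) : Type (u + 1) where
  /-- the open -/
  dom : S.Opens
  le : dom ≤ U
  /-- the lift -/
  sec : C.X₂.obj.obj (op dom)
  map_sec : C.g.hom.app (op dom) sec = C.X₃.obj.map (homOfLE le).op s

/-- Extension of partial lifts. -/
def ZLift.Ext {U : S.Opens} {s : C.X₃.obj.obj (op U)} (a b : ZLift C U s) : Prop :=
  ∃ h : a.dom ≤ b.dom, C.X₂.obj.map (homOfLE h).op b.sec = a.sec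

lemma exists_maximal_zlift {U : S.Opens} (s : C.X₃.obj.obj (op U)) :
    ∃ m : ZLift C U s, ∀ a, ZLift.Ext m a → ZLift.Ext a m := by
  have hrefl : ∀ a : ZLift C U s, ZLift.Ext a a := fun a =>
    ⟨le_rfl, ConcreteCategory.congr_hom (C.X₂.obj.map_id _) _⟩
  refine exists_maximal_of_chains_bounded (fun c hc => ?_) fun {a b c} ⟨h, e⟩ ⟨h', e'⟩ =>
    ⟨h.trans h', by rw [← e, ← e', zres]⟩
  let V : c → S.Opens := fun a => a.1.dom
  have hW : (⨆ a, V a) ≤ U := iSup_le fun a => a.1.le
  obtain ⟨t, ht⟩ := (zar_glue C.X₂ V (fun a => le_iSup V a) fun x hx => Opens.mem_iSup.mp hx).2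
    (fun a => a.1.sec) fun i j => by
      rcases ((em (i.1 = j.1)).elim (fun e => Or.inl (e ▸ hrefl i.1))
          fun hij => hc i.2 j.2 hij : ZLift.Ext i.1 j.1 ∨ ZLift.Ext j.1 i.1) with ⟨h, e⟩ | ⟨h, e⟩
      · rw [← e, zres]
      · rw [← e, zres]
  refine ⟨⟨⨆ a, V a, hW, t, (zar_glue C.X₃ V (fun a => le_iSup V a) fun x hx => Opens.mem_iSup.mp hx).1 _ _
    fun a => ?_⟩, fun a ha => ⟨le_iSup V ⟨a, ha⟩, ht ⟨a, ha⟩⟩⟩
  rw [← NatTrans.naturality_apply, ht, zres]
  exact a.1.map_sec

/-- Flasque kernels give surjective sections. -/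
theorem zsurjective (hC : C.ShortExact) (h₁ : ZFlasque C.X₁) (U : S.Opens) :
    Function.Surjective (C.g.hom.app (op U)) := by
  intro s
  haveI := hC.epi_g
  haveI : Sheaf.IsLocallySurjective C.g := (Sheaf.isLocallySurjective_iff_epi' _ C.g).2 inferInstance
  obtain ⟨⟨M, hMU, t, ht⟩, hm⟩ := exists_maximal_zlift (C := C) s
  suffices hUM : U ≤ M by
    refine ⟨C.X₂.obj.map (homOfLE hUM).op t, ?_⟩
    rw [NatTrans.naturality_apply, ht, zres]
    exact ConcreteCategory.congr_hom (C.X₃.obj.map_id _) _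
  intro x hx
  obtain ⟨W, f, ⟨t₁, ht₁⟩, hxW⟩ := Presheaf.imageSieve_mem (Opens.grothendieckTopology S) C.g.hom s x hx
  have hWU : W ≤ U := leOfHom f
  let t₂ : C.X₂.obj.obj (op (M ⊓ W)) :=
    C.X₂.obj.map (homOfLE inf_le_left).op t - C.X₂.obj.map (homOfLE inf_le_right).op t₁
  obtain ⟨w, hw⟩ := zsections_exact hC t₂ (by
    simp only [t₂]
    rw [map_sub, NatTrans.naturality_apply, NatTrans.naturality_apply, ht, sub_eq_zero, zres]
    refine Eq.trans ?_ (congrArg (C.X₃.obj.map (homOfLE inf_le_right).op) ht₁).symm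
    exact (zres _ hWU inf_le_right s).symm)
  obtain ⟨w', hw'⟩ := h₁ W (M ⊓ W) inf_le_right w
  let t' : C.X₂.obj.obj (op W) := t₁ + C.f.hom.app _ w'
  have hgf : C.g.hom.app (op W) (C.f.hom.app _ w') = 0 :=
    ConcreteCategory.congr_hom (congrArg (fun q : C.X₁ ⟶ C.X₃ => q.hom.app (op W)) C.zero) w'
  have ht' : C.g.hom.app _ t' = C.X₃.obj.map (homOfLE hWU).op s := by
    simp only [t']
    rw [map_add, hgf, add_zero]
    exact ht₁
  have hagree : C.X₂.obj.map (homOfLE (inf_le_left : M ⊓ W ≤ M)).op t =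
      C.X₂.obj.map (homOfLE (inf_le_right : M ⊓ W ≤ W)).op t' := by
    simp only [t']
    rw [map_add, ← NatTrans.naturality_apply, hw', hw]
    simp only [t₂]
    abel
  let V : ULift.{u + 1} Bool → S.Opens := fun b => bif b.down then M else W
  have hle : ∀ b, V b ≤ M ⊔ W := by rintro ⟨_ | _⟩ <;> simp [V]
  have hcov : ∀ y ∈ M ⊔ W, ∃ b, y ∈ V b := fun y hy => by
    rcases (show y ∈ M ∨ y ∈ W from hy) with h | h
    · exact ⟨⟨true⟩, h⟩
    · exact ⟨⟨false⟩, h⟩
  obtain ⟨u', hu'⟩ := (zar_glue C.X₂ V hle hcov).2 (fun b => match b with | ⟨true⟩ => t | ⟨false⟩ => t') (by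
    rintro ⟨_ | _⟩ ⟨_ | _⟩
    · rfl
    · have := congrArg (C.X₂.obj.map (homOfLE (le_inf inf_le_right inf_le_left : W ⊓ M ≤ M ⊓ W)).op) hagree
      rw [zres, zres] at this
      exact this.symm
    · exact hagree
    · rfl)
  have hsup : M ⊔ W ≤ U := sup_le hMU hWU
  obtain ⟨h, -⟩ := hm ⟨M ⊔ W, hsup, u', (zar_glue C.X₃ V hle hcov).1 _ _ (by
    rintro ⟨_ | _⟩
    · rw [← NatTrans.naturality_apply, hu', zres]
      exact ht'
    · rw [← NatTrans.naturality_apply, hu', zres]
      exact ht)⟩ ⟨le_sup_left, hu' ⟨true⟩⟩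
  exact h (Or.inr hxW : x ∈ M ⊔ W)

theorem zflasque_quotient (hC : C.ShortExact) (h₁ : ZFlasque C.X₁) (h₂ : ZFlasque C.X₂) : ZFlasque C.X₃ := by
  intro U V h x
  obtain ⟨y, rfl⟩ := zsurjective hC h₁ V x
  obtain ⟨z, rfl⟩ := h₂ U V h y
  exact ⟨C.g.hom.app _ z, (NatTrans.naturality_apply C.g.hom (homOfLE h).op z).symm⟩

theorem zflasque_injective (I : EtZar.Ab S) [Injective I] : ZFlasque I := fun U V h =>
  haveI : Injective I.obj :=
    Injective.injective_of_adjoint (sheafificationAdjunction (Opens.grothendieckTopology S) AddCommGrpCat.{u + 1}) I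
  injective_map_surjective I.obj (homOfLE h)

/-- The top open is terminal. -/
def topTerminal (S : Scheme.{u}) : IsTerminal (⊤ : S.Opens) :=
  IsTerminal.ofUniqueHom (fun _ => homOfLE le_top) fun _ _ => Subsingleton.elim _ _

theorem zflasque_acyclic {G : EtZar.Ab S} (hG : ZFlasque G) (p : ℕ) : Subsingleton (EtZar.H G (p + 1)) := by
  induction p generalizing G with
  | zero =>
    exact EpsLan.subsingleton_H_one (SiteCoh.embedSeq_shortExact G) (topTerminal S)
      (zsurjective (SiteCoh.embedSeq_shortExact G) hG _)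
  | succ p ih =>
    haveI := ih (zflasque_quotient (SiteCoh.embedSeq_shortExact G) hG (zflasque_injective _))
    exact SiteCoh.subsingleton_ext_succ (SiteCoh.embedSeq_shortExact G) _ (p + 1)

end Flasque

/-! ### Restriction from the big site -/

section Res

variable [BigSite.ZarCont Kf S]

/-- The terminal object of the big site coming from the top open. -/
def topOverTerminal : IsTerminal ((BigSite.zarIncl S).obj ⊤) :=
  Over.mkIdTerminal.ofIso (show Over.mk (𝟙 S) ≅ (BigSite.zarIncl S).obj ⊤ from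
    (Over.isoMk S.topIso (Category.comp_id _)).symm)

theorem zflasque_resZar (I : BigSite.Ab Kf S) [Injective I] :
    ZFlasque ((BigSite.resZar Kf S).obj I) := fun U V h =>
  haveI : Injective I.obj :=
    Injective.injective_of_adjoint (sheafificationAdjunction (QuotSh.J Kf S) AddCommGrpCat.{u + 1}) I
  haveI : Mono ((BigSite.zarIncl S).map (homOfLE h)) :=
    haveI : Mono ((BigSite.zarIncl S).map (homOfLE h)).left := inferInstanceAs (Mono (S.homOfLE h))
    Over.mono_of_mono_left _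
  injective_map_surjective I.obj ((BigSite.zarIncl S).map (homOfLE h))

variable {C : ShortComplex (BigSite.Ab Kf S)}

theorem resZar_shortExact (hC : C.ShortExact) (h₁ : TExact C.X₁) : (C.map (BigSite.resZar Kf S)).ShortExact := by
  haveI := hC.mono_f
  haveI : PreservesFiniteLimits (BigSite.resZar Kf S) :=
    have := (BigSite.piZarAdj Kf S).rightAdjoint_preservesLimits
    PreservesLimitsOfSize.preservesFiniteLimits.{u, u} _
  haveI : Sheaf.IsLocallySurjective ((BigSite.resZar Kf S).map C.g) := ⟨fun {U} t x hx => by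
    obtain ⟨V, hV, hxV, hVU⟩ := exists_isAffineOpen_mem_and_subset hx
    haveI : IsAffine (V : Scheme.{u}) := hV
    let a : Spec Γ(V, ⊤) ⟶ S := (V : Scheme.{u}).isoSpec.inv ≫ V.ι
    let e : baseObj a ≅ (BigSite.zarIncl S).obj V := Over.isoMk (V : Scheme.{u}).isoSpec.symm (by
      change (V : Scheme.{u}).isoSpec.inv ≫ V.ι = Spec.map (CommRingCat.ofHom (algebraMap Γ(V, ⊤) Γ(V, ⊤))) ≫ a
      exact (spec_id_comp _ a).symm)
    let t' : C.X₃.obj.obj (op ((BigSite.zarIncl S).obj V)) :=
      C.X₃.obj.map ((BigSite.zarIncl S).map (homOfLE (show V ≤ U from hVU))).op t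
    obtain ⟨y, hy⟩ := surjective_base_ab hC h₁ a (C.X₃.obj.map e.hom.op t')
    refine ⟨V, homOfLE (show V ≤ U from hVU), ⟨C.X₂.obj.map e.inv.op y, ?_⟩, hxV⟩
    change C.g.hom.app _ (C.X₂.obj.map e.inv.op y) = t'
    refine (NatTrans.naturality_apply C.g.hom e.inv.op y).trans ?_
    refine (congrArg (C.X₃.obj.map e.inv.op) hy).trans ?_
    rw [← ConcreteCategory.comp_apply, ← Functor.map_comp, ← op_comp, e.inv_hom_id, op_id, C.X₃.obj.map_id]
    rfl⟩
  exact
    { exact := ShortComplex.exact_of_f_is_kernel _ (KernelFork.mapIsLimit _ hC.fIsKernel (BigSite.resZar Kf S))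
      mono_f := inferInstanceAs (Mono ((BigSite.resZar Kf S).map C.f))
      epi_g := (Sheaf.isLocallySurjective_iff_epi' _ _).1 ‹_› }

lemma zarH_acyclic (I : BigSite.Ab Kf S) [Injective I] (p : ℕ) :
    Subsingleton (EtZar.H ((BigSite.resZar Kf S).obj I) (p + 1)) :=
  zflasque_acyclic (zflasque_resZar I) p

lemma nonempty_h1 (hC : C.ShortExact) (hz : (C.map (BigSite.resZar Kf S)).ShortExact) [Injective C.X₂] :
    Nonempty (EtZar.H ((BigSite.resZar Kf S).obj C.X₁) 1 ≃+ BigSite.H Kf S C.X₁ 1) :=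
  haveI : Subsingleton (EtZar.H (C.map (BigSite.resZar Kf S)).X₂ 1) := zarH_acyclic C.X₂ 0
  exists_h1 (BigSite.zarIncl S) hC hz (topTerminal S) topOverTerminal

lemma nonempty_shift (hC : C.ShortExact) (hz : (C.map (BigSite.resZar Kf S)).ShortExact) [Injective C.X₂] (q : ℕ)
    (e : EtZar.H ((BigSite.resZar Kf S).obj C.X₃) (q + 1) ≃+ BigSite.H Kf S C.X₃ (q + 1)) :
    Nonempty (EtZar.H ((BigSite.resZar Kf S).obj C.X₁) (q + 1 + 1) ≃+ BigSite.H Kf S C.X₁ (q + 1 + 1)) := by
  let P := (constantSheaf (Opens.grothendieckTopology S) AddCommGrpCat.{u + 1}).obj (AddCommGrpCat.of (ULift.{u + 1} ℤ))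
  haveI : Subsingleton (Ext P (C.map (BigSite.resZar Kf S)).X₂ (q + 1)) := zarH_acyclic C.X₂ q
  haveI : Subsingleton (Ext P (C.map (BigSite.resZar Kf S)).X₂ (q + 1 + 1)) := zarH_acyclic C.X₂ (q + 1)
  exact ⟨(SiteCoh.shiftEquiv hz P (q + 1)).symm.trans (e.trans (SiteCoh.shiftEquiv hC _ (q + 1)))⟩

/-- Zariski and fppf cohomology agree. -/
theorem nonempty_zarH_equiv {G : BigSite.Ab Kf S} (hG : TExact G) (q : ℕ) :
    Nonempty (EtZar.H ((BigSite.resZar Kf S).obj G) q ≃+ BigSite.H Kf S G q) := by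
  induction q generalizing G with
  | zero => exact ⟨h0Equiv (BigSite.zarIncl S) (topTerminal S) topOverTerminal G⟩
  | succ q ih =>
    have hE := SiteCoh.embedSeq_shortExact G
    have hz := resZar_shortExact hE hG
    cases q with
    | zero => exact nonempty_h1 hE hz
    | succ q =>
      obtain ⟨e⟩ := ih (texact_quotient hE hG (texact_injective _))
      exact nonempty_shift hE hz q e

end Res

end Groth.Agent.AdeqLib
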